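import Groth.Agent.LocFinite.Resolution
import Groth.Agent.Ega4Algebra1.RegularLocal
import Mathlib.RingTheory.Spectrum.Prime.FreeLocus

/-!
Finite modules over regular rings have bounded projective resolutions.
-/

set_option autoImplicit false
universe u

open CategoryTheory IsLocalRing Groth.Ega4Algebra1

namespace Groth.LocFinite

variable {R : Type u} [CommRing R] [IsNoetherianRing R]

/-- The primes at which the projective dimension is at most `n`. -/
def pdLocus (M : Type u) [AddCommGroup M] [Module R M] (n : ℕ) : Set (PrimeSpectrum R) :=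
  {P | PdLT (Localization.AtPrime P.asIdeal) (LocalizedModule P.asIdeal.primeCompl M) (n + 1)}

lemma pdLocus_ker {M P : Type u} [AddCommGroup M] [Module R M] [AddCommGroup P] [Module R P]
    [Module.Projective R P] (f : P →ₗ[R] M) (hf : Function.Surjective f) (n : ℕ) :
    pdLocus (R := R) (LinearMap.ker f) n = pdLocus (R := R) M (n + 1) := by
  ext Q
  set S := Q.asIdeal.primeCompl
  have hex : Function.Exact (LocalizedModule.map S (LinearMap.ker f).subtype)
      (LocalizedModule.map S f) :=
    LocalizedModule.map_exact S _ _ (LinearMap.exact_subtype_ker_map f)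
  have hinj := LocalizedModule.map_injective S (LinearMap.ker f).subtype
    (Submodule.injective_subtype _)
  let e : LocalizedModule S (LinearMap.ker f) ≃ₗ[Localization S]
      LinearMap.ker (LocalizedModule.map S f) :=
    (LinearEquiv.ofInjective _ hinj).trans (LinearEquiv.ofEq _ _ hex.linearMap_ker_eq.symm)
  show PdLT _ _ _ ↔ PdLT _ _ _
  rw [PdLT.ker_iff (LocalizedModule.map S f) (LocalizedModule.map_surjective S f hf) n]
  exact ⟨PdLT.of_equiv e, PdLT.of_equiv e.symm⟩

lemma pdLocus_zero (M : Type u) [AddCommGroup M] [Module R M] [Module.Finite R M] :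
    pdLocus (R := R) M 0 = Module.freeLocus R M := by
  ext Q
  haveI : Module.Finite (Localization.AtPrime Q.asIdeal) (LocalizedModule Q.asIdeal.primeCompl M) :=
    Module.Finite.of_isLocalizedModule Q.asIdeal.primeCompl
      (LocalizedModule.mkLinearMap Q.asIdeal.primeCompl M)
  rw [Module.mem_freeLocus]
  show PdLT _ _ _ ↔ _
  rw [PdLT.one_iff]
  exact ⟨fun _ => Module.free_of_flat_of_isLocalRing, fun _ => Module.Projective.of_free⟩

lemma isOpen_pdLocus : ∀ (n : ℕ) (M : Type u) [AddCommGroup M] [Module R M] [Module.Finite R M],
    IsOpen (pdLocus (R := R) M n) := by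
  intro n
  induction n with
  | zero =>
    intro M _ _ _
    haveI := Module.finitePresentation_of_finite R M
    rw [pdLocus_zero]
    exact Module.isOpen_freeLocus
  | succ n ih =>
    intro M _ _ _
    obtain ⟨k, f, hf⟩ := Module.Finite.exists_fin' R M
    rw [← pdLocus_ker f hf n]
    exact ih _

theorem nonempty_dualRes_of_pdLocus : ∀ (n : ℕ) (M : Type u) [AddCommGroup M] [Module R M]
    [Module.Finite R M], pdLocus (R := R) M n = Set.univ → Nonempty (DualRes (R := R) M) := by
  intro n
  induction n with
  | zero =>
    intro M _ _ _ h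
    haveI := Module.finitePresentation_of_finite R M
    rw [pdLocus_zero, Module.freeLocus_eq_univ_iff] at h
    exact nonempty_dualRes_of_projective M
  | succ n ih =>
    intro M _ _ _ h
    obtain ⟨k, f, hf⟩ := Module.Finite.exists_fin' R M
    exact nonempty_dualRes_of_kernel hf (ih _ ((pdLocus_ker f hf n).trans h))

/-- Over a regular ring every finite module has a bounded dualised projective resolution. -/
theorem nonempty_dualRes [IsRegularRing R] (M : Type u) [AddCommGroup M] [Module R M]
    [Module.Finite R M] : Nonempty (DualRes (R := R) M) := by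
  have hmono : Monotone fun n => pdLocus (R := R) M n := fun a b hab Q hQ =>
    PdLT.mono (by omega) (show PdLT _ _ _ from hQ)
  have hcov : (Set.univ : Set (PrimeSpectrum R)) ⊆ ⋃ n, pdLocus (R := R) M n := fun Q _ => by
    haveI : Module.Finite (Localization.AtPrime Q.asIdeal)
        (LocalizedModule Q.asIdeal.primeCompl M) :=
      Module.Finite.of_isLocalizedModule Q.asIdeal.primeCompl
        (LocalizedModule.mkLinearMap Q.asIdeal.primeCompl M)
    exact Set.mem_iUnion.2 ⟨_, pdLT_of_isRegularLocalRing (Localization.AtPrime Q.asIdeal) _ rfl _⟩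
  obtain ⟨n, hn⟩ := isCompact_univ.elim_directed_cover _ (fun n => isOpen_pdLocus n M) hcov
    hmono.directed_le
  exact nonempty_dualRes_of_pdLocus n M (Set.univ_subset_iff.1 hn)

end Groth.LocFinite
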