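import Groth.Agent.LocFinite.Vanish
import Groth.Agent.LocFinite.Regular
import Groth.Agent.LocDual.Specialization
import Groth.Agent.LocDual.RelCodim
import Mathlib.CategoryTheory.Preadditive.Injective.Basic

/-!
Grothendieck's finiteness criterion for a single degree over quotients of regular rings.
-/

set_option autoImplicit false
universe u

open CategoryTheory IsLocalRing GrothGoren Groth.LocDual Groth.LocCohBase

namespace Groth.LocFinite

section Resolution

variable (R : Type u) [CommRing R]

/-- The next cosyzygy. -/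
noncomputable abbrev nextSyz (Q : ModuleCat.{u} R) : ModuleCat.{u} R :=
  ModuleCat.of R ((Injective.under Q : ModuleCat.{u} R) ⧸ LinearMap.range (Injective.ι Q).hom)

/-- Iterated cosyzygies of the ring. -/
noncomputable def cosyz : ℕ → ModuleCat.{u} R
  | 0 => ModuleCat.of R R
  | n + 1 => nextSyz R (cosyz n)

/-- One step of the resolution. -/
noncomputable def stepMap (Q : ModuleCat.{u} R) :
    (Injective.under Q : ModuleCat.{u} R) →ₗ[R] (Injective.under (nextSyz R Q) : ModuleCat.{u} R) :=
  (Injective.ι (nextSyz R Q)).hom ∘ₗ (LinearMap.range (Injective.ι Q).hom).mkQ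

lemma ι_hom_injective (Q : ModuleCat.{u} R) : Function.Injective (Injective.ι Q).hom :=
  (ModuleCat.mono_iff_injective _).1 inferInstance

lemma stepMap_eq_zero_iff (Q : ModuleCat.{u} R) (x : (Injective.under Q : ModuleCat.{u} R)) :
    stepMap R Q x = 0 ↔ x ∈ LinearMap.range (Injective.ι Q).hom := by
  constructor
  · intro h
    exact (Submodule.Quotient.mk_eq_zero _).1
      (ι_hom_injective R (nextSyz R Q) (h.trans (map_zero _).symm))
  · intro h
    show (Injective.ι (nextSyz R Q)).hom ((LinearMap.range (Injective.ι Q).hom).mkQ x) = 0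
    rw [Submodule.mkQ_apply, (Submodule.Quotient.mk_eq_zero _).2 h, map_zero]

/-- An injective resolution of the ring. -/
noncomputable def injCx : Cx R where
  X n := Injective.under (cosyz R n)
  d n := stepMap R (cosyz R n)
  d_comp n x := (stepMap_eq_zero_iff R (nextSyz R (cosyz R n)) _).2 (LinearMap.mem_range_self _ _)

theorem isRes_injCx :
    IsRes (injCx R) ((Injective.ι (cosyz R 0)).hom : R →ₗ[R] (injCx R).X 0) := by
  refine ⟨fun n => ?_, fun n x hx => ?_, ι_hom_injective R (ModuleCat.of R R), fun x => ?_⟩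
  · haveI : Injective (Injective.under (cosyz R n)) := inferInstance
    exact GrothGoren.injLT_one_iff.1 (by
      show HasInjectiveDimensionLT (Injective.under (cosyz R n)) 1
      infer_instance)
  · obtain ⟨y, hy⟩ := (stepMap_eq_zero_iff R (nextSyz R (cosyz R n)) x).1 hx
    obtain ⟨z, rfl⟩ := Submodule.mkQ_surjective _ y
    exact ⟨z, hy⟩
  · exact (stepMap_eq_zero_iff R (ModuleCat.of R R) x).trans LinearMap.mem_range

end Resolution

variable {R : Type u} [CommRing R]

/-- A quotient of `H^(i)` by a map with acyclic kernel. -/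
theorem finite_H_of_surjective [IsNoetherianRing R] (I : Ideal R) (i : ℕ) {X M : Type u}
    [AddCommGroup X] [Module R X] [AddCommGroup M] [Module R M] (g : X →ₗ[R] M)
    (hg : Function.Surjective g) (hker : Module.Injective R (LinearMap.ker g))
    (hX : Module.Finite R (LocCoh.H I i X)) : Module.Finite R (LocCoh.H I i M) := by
  have hS := seqCx_shortExact (LinearMap.ker g).subtype g (LinearMap.exact_subtype_ker_map g)
    (Submodule.injective_subtype _) hg
  haveI : Subsingleton (HH' I (i + 1) (ModuleCat.of R (LinearMap.ker g))) := by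
    haveI := Module.injective_object_of_injective_module R (LinearMap.ker g)
    exact subsingleton_succ_of_injective i _
  refine Module.Finite.of_surjective
    ((localCohomology I i).map (ModuleCat.ofHom g)).hom fun y => ?_
  exact (exact₃ hS i y).1 (Subsingleton.elim _ _)

/-- The finiteness criterion over a regular ring. -/
theorem finite_H_succ [IsRegularRing R] (I : Ideal R) (M : Type u) [AddCommGroup M] [Module R M]
    [Module.Finite R M] (m : ℕ)
    (h : ∀ P Q : PrimeSpectrum R, P ⋖ Q → ¬ I ≤ P.asIdeal → I ≤ Q.asIdeal → ∀ q : ℕ,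
      Q.asIdeal.height = (q + (m + 1) : ℕ) → Subsingleton (LocalizedModule P.asIdeal.primeCompl
        (Abelian.Ext (ModuleCat.of R M) (ModuleCat.of R R) q))) :
    Module.Finite R (LocCoh.H I (m + 1) M) := by
  have hR : ∀ (P : Ideal R) [P.IsPrime],
      ∃ n, InjLT (Localization.AtPrime P) (Localization.AtPrime P) n :=
    fun P _ => exists_injLT_of_regular _ (Localization.AtPrime P) le_rfl
  obtain ⟨S⟩ := nonempty_dualRes (R := R) M
  have hJ := isRes_injCx R
  obtain ⟨κ, hκs, hκi, -⟩ := S.bridge _ _ hJ
  refine finite_H_of_surjective I (m + 1) κ hκs hκi ?_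
  obtain ⟨L, hL, hLbd⟩ := exists_surjection I S.fin S.proj S.bdd m (injCx R) hJ.inj hJ.exact
  have hfin := finite_cy_quotient S.len S.D (((injCx R).shiftN m).tors I)
    ((hJ.inj.shiftN m).tors I) S.fin S.bdd (fun q => ?_)
  · have hle : LinearMap.range (bd (((injCx R).shiftN m).tors I) S.D) ≤ LinearMap.ker L := by
      rintro _ ⟨w, rfl⟩
      exact hLbd w
    exact Module.Finite.of_surjective (Submodule.liftQ _ L hle) fun y => by
        obtain ⟨z, rfl⟩ := hL y
        exact ⟨Submodule.Quotient.mk z, rfl⟩
  -- the finiteness on each cohomology module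
  obtain ⟨e⟩ := S.ext q
  refine finite_T_of_equiv e.symm ?_
  refine finite_T_shiftN I m (injCx R) q _ ?_
  set X := Abelian.Ext (ModuleCat.of R M) (ModuleCat.of R R) q with hX
  haveI : Module.Finite R X := ModuleCat.finite_ext R (ModuleCat.of R M) (ModuleCat.of R R) q
  set Γ := DRing.torsionSub I X
  obtain ⟨k, hk⟩ := exists_pow_killing I Γ.subtype fun x => x.2
  have hΓk : ∀ c ∈ I ^ k, ∀ x : Γ, c • x = 0 :=
    fun c hc x => Subtype.ext (LinearMap.congr_fun (hk c hc) x)
  refine finite_T_of_exact _ (m + q) (hJ.inj.tors I) (LinearMap.exact_subtype_mkQ Γ)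
    Γ.injective_subtype Γ.mkQ_surjective ?_ ?_
  · obtain ⟨e₁⟩ := nonempty_T_tors_equiv (injCx R) (m + q) I hΓk
    obtain ⟨e₂⟩ := nonempty_T_equiv_ext hJ (m + q) Γ
    haveI : Module.Finite R (Abelian.Ext (ModuleCat.of R Γ) (ModuleCat.of R R) (m + q + 1)) :=
      ModuleCat.finite_ext R (ModuleCat.of R Γ) (ModuleCat.of R R) (m + q + 1)
    exact Module.Finite.equiv (e₁.trans e₂).symm
  · haveI := subsingleton_T hR I hJ (m + q) _ (X ⧸ Γ) le_rfl fun Q hQ hIQ => ?_
    · infer_instance
    intro hht
    have h0 : DRing.torsionSub I (X ⧸ Γ) = ⊥ :=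
      torsionSub_quotient_eq_bot (IsNoetherian.noetherian I) X
    haveI := Q.isPrime
    obtain ⟨P, hP, hPQ⟩ := Ideal.exists_minimalPrimes_le hQ
    have hass := Module.associatedPrimes.minimalPrimes_annihilator_subset_associatedPrimes
      R (X ⧸ Γ) hP
    obtain ⟨hPp, x, hx⟩ := isAssociatedPrime_iff.1 hass
    obtain ⟨a, haI, haP⟩ : ∃ a ∈ I, a ∉ P := by
      by_contra hcon
      push Not at hcon
      have hxmem : x ∈ DRing.torsionSub I (X ⧸ Γ) := ⟨1, fun a ha => by
        rw [pow_one] at ha
        have := hcon a ha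
        rwa [hx, Submodule.mem_colon_singleton, Submodule.mem_bot] at this⟩
      rw [h0, Submodule.mem_bot] at hxmem
      refine hPp.ne_top ?_
      rw [hx, hxmem]
      simp
    obtain ⟨P', hPP', haP', hcov⟩ :=
      exists_covBy_notMem (P := ⟨P, hPp⟩) (Q := Q) hPQ (hIQ haI) haP
    have hsub := h P' Q hcov (fun hle => haP' (hle haI)) hIQ q (by
      rw [hht]; exact_mod_cast (by omega : m + q + 1 = q + (m + 1)))
    have hmem : P' ∈ Module.support R (X ⧸ Γ) :=
      Module.mem_support_iff_of_finite.2 (hP.1.2.trans hPP')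
    have hmem' := Module.support_subset_of_surjective Γ.mkQ Γ.mkQ_surjective hmem
    exact not_nontrivial_iff_subsingleton.2 hsub (Module.mem_support_iff.1 hmem')

/-- Finiteness over quotients of regular rings. -/
theorem finite_H_of_covBy [IsRegularRing R] {A : Type u} [CommRing A] [IsNoetherianRing A]
    [Algebra R A] (hπ : Function.Surjective (algebraMap R A)) (I : Ideal A) (M : Type u)
    [AddCommGroup M] [Module A M] [Module.Finite A M] (i : ℕ)
    (h : ∀ p : PrimeSpectrum A, ¬ I ≤ p.asIdeal → SGA2.relCodim I p = 1 → ∀ j : ℕ, j + 1 = i →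
      Subsingleton (LocCoh.H (maximalIdeal (Localization.AtPrime p.asIdeal)) j
        (LocalizedModule p.asIdeal.primeCompl M))) :
    Module.Finite A (LocCoh.H I i M) := by
  rcases i with _ | m
  · exact Module.Finite.equiv (h0Equiv I M).symm
  letI : Module R M := Module.compHom M (algebraMap R A)
  haveI : IsScalarTower R A M := IsScalarTower.of_algebraMap_smul fun _ _ => rfl
  haveI : Module.Finite R A := Module.Finite.of_surjective (Algebra.linearMap R A) hπ
  haveI : Module.Finite R M := Module.Finite.trans A M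
  set I' := I.comap (algebraMap R A) with hI'
  have hfin : Module.Finite R (LocCoh.H I' (m + 1) M) := by
    refine finite_H_succ I' M m fun P Q hcov hP hQ q hq => ?_
    rw [subsingleton_localized_ext_iff P.asIdeal]
    haveI : Module.Finite (Localization.AtPrime P.asIdeal)
        (LocalizedModule P.asIdeal.primeCompl M) :=
      Module.Finite.of_isLocalizedModule P.asIdeal.primeCompl
        (LocalizedModule.mkLinearMap P.asIdeal.primeCompl M)
    -- `dim R_P = q + m`
    have hPht : ringKrullDim (Localization.AtPrime P.asIdeal) = ((q + m : ℕ) : WithBot ℕ∞) := by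
      have hdisj : Disjoint (Q.asIdeal.primeCompl : Set R) P.asIdeal :=
        Set.disjoint_left.2 fun x hx hxp => hx (hcov.lt.le hxp)
      set P'' := P.asIdeal.map (algebraMap R (Localization.AtPrime Q.asIdeal))
      haveI : P''.IsPrime := IsLocalization.isPrime_of_isPrime_disjoint Q.asIdeal.primeCompl
        (Localization.AtPrime Q.asIdeal) P.asIdeal P.isPrime hdisj
      have hP'' : P.asIdeal = P''.comap (algebraMap R (Localization.AtPrime Q.asIdeal)) :=
        (IsLocalization.under_map_of_isPrime_disjoint Q.asIdeal.primeCompl _ P.isPrime hdisj).symm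
      have hrQ : ringKrullDim (Localization.AtPrime Q.asIdeal) =
          ((q + (m + 1) : ℕ) : WithBot ℕ∞) := by
        rw [IsLocalization.AtPrime.ringKrullDim_eq_height Q.asIdeal, hq]
        rfl
      obtain ⟨a, b, hab, ha, hb⟩ := exists_dim_split
        (isCohenMacaulay _ (exists_injLT_of_regular _ (Localization.AtPrime Q.asIdeal) le_rfl))
        hrQ P''
      have hone : Order.height (⟨Q, hcov.lt.le⟩ : Set.Ici P) = ((1 : ℕ) : ℕ∞) := by
        refine le_antisymm (Order.height_le_coe_iff.2 fun y hy => ?_) ?_
        · rw [Nat.cast_one, ENat.lt_one_iff_eq_zero, Order.height_eq_zero]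
          intro z hz
          by_contra hyz
          exact hcov.2 (lt_of_le_of_lt (show P ≤ z.1 from z.2)
            (show z.1 < y.1 from lt_of_le_not_ge hz hyz)) (show y.1 < Q from hy)
        · rw [Nat.cast_one, Order.one_le_iff_pos, pos_iff_ne_zero, Ne, Order.height_eq_zero]
          exact fun hmin => not_le_of_gt hcov.lt (hmin (b := ⟨P, Set.self_mem_Ici⟩) hcov.lt.le)
      rw [ringKrullDim_quotient_localized Q P'' P hP'' hcov.lt.le, hone] at hb
      have hb1 : 1 = b := by exact_mod_cast hb
      rw [IsLocalization.AtPrime.ringKrullDim_eq_height P''] at ha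
      rw [IsLocalization.AtPrime.ringKrullDim_eq_height P.asIdeal, hP'']
      rw [show (P''.comap (algebraMap R (Localization.AtPrime Q.asIdeal))).height = P''.height from
        IsLocalization.height_under Q.asIdeal.primeCompl P'', ha]
      exact_mod_cast (by omega : a = q + m)
    obtain ⟨E, _, _, f, hf⟩ := GrothMatlis.exists_hull (Localization.AtPrime P.asIdeal)
      (ResidueField (Localization.AtPrime P.asIdeal))
    obtain ⟨D⟩ := nonempty_duality_of_hull
      (exists_injLT_of_regular _ (Localization.AtPrime P.asIdeal) le_rfl) hPht hf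
      (LocalizedModule P.asIdeal.primeCompl M) (i := m) (j := q) (by omega)
    refine (subsingleton_dual_iff hf _).1 (D.toEquiv.subsingleton_congr.1 ?_)
    by_cases hker : RingHom.ker (algebraMap R A) ≤ P.asIdeal
    · haveI := Ideal.map_isPrime_of_surjective hπ hker
      set p : PrimeSpectrum A := ⟨P.asIdeal.map (algebraMap R A), inferInstance⟩
      have hc : P.asIdeal = p.asIdeal.comap (algebraMap R A) := by
        show P.asIdeal = (P.asIdeal.map (algebraMap R A)).comap (algebraMap R A)
        rw [Ideal.comap_map_of_surjective _ hπ]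
        exact (sup_eq_left.2 hker).symm
      have hkerQ : RingHom.ker (algebraMap R A) ≤ Q.asIdeal := hker.trans hcov.lt.le
      haveI := Ideal.map_isPrime_of_surjective hπ hkerQ
      set qA : PrimeSpectrum A := ⟨Q.asIdeal.map (algebraMap R A), inferInstance⟩
      have hcQ : Q.asIdeal = qA.asIdeal.comap (algebraMap R A) := by
        show Q.asIdeal = (Q.asIdeal.map (algebraMap R A)).comap (algebraMap R A)
        rw [Ideal.comap_map_of_surjective _ hπ]
        exact (sup_eq_left.2 hkerQ).symm
      have hle : ∀ {x y : PrimeSpectrum A},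
          x.asIdeal.comap (algebraMap R A) ≤ y.asIdeal.comap (algebraMap R A) ↔ x ≤ y :=
        fun {x y} => Ideal.comap_le_comap_iff_of_surjective _ hπ _ _
      have hpI : ¬ I ≤ p.asIdeal := fun hh => hP (hc ▸ Ideal.comap_mono hh)
      have hqI : I ≤ qA.asIdeal := by
        rw [← Ideal.comap_le_comap_iff_of_surjective _ hπ, ← hcQ]
        exact hQ
      have hpq : p ≤ qA := hle.1 (hc ▸ hcQ ▸ hcov.lt.le)
      have hrel : SGA2.relCodim I p = 1 := by
        refine le_antisymm (iInf_le_of_le ⟨qA, hpq, hqI⟩ ?_) ?_
        · rw [show (1 : ℕ∞) = ((1 : ℕ) : ℕ∞) from rfl, Order.height_le_coe_iff]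
          intro y hy
          rw [Nat.cast_one, ENat.lt_one_iff_eq_zero, Order.height_eq_zero]
          intro z hz
          by_contra hyz
          let zR : PrimeSpectrum R := ⟨z.1.asIdeal.comap (algebraMap R A), Ideal.comap_isPrime _ _⟩
          let yR : PrimeSpectrum R := ⟨y.1.asIdeal.comap (algebraMap R A), Ideal.comap_isPrime _ _⟩
          refine hcov.2 (c := yR) ?_ ?_
          · refine lt_of_le_of_lt (show P ≤ zR from hc.le.trans (hle.2 z.2)) ?_
            exact lt_of_le_not_ge (hle.2 hz) fun hh => hyz (hle.1 hh)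
          · exact lt_of_le_not_ge ((hle.2 hy.le).trans hcQ.ge) fun hh =>
              not_le_of_gt (show y.1 < qA from hy) (hle.1 (hcQ.symm.le.trans hh))
        · refine le_iInf fun w => Order.one_le_iff_pos.2 ?_
          rw [pos_iff_ne_zero, Ne, Order.height_eq_zero]
          intro hmin
          have : (⟨w.1, w.2.1⟩ : Set.Ici p) ≤ ⟨p, Set.self_mem_Ici⟩ :=
            hmin (show p ≤ w.1 from w.2.1)
          exact hpI (w.2.2.trans this)
      exact (subsingleton_H_atPrime_iff_of_surjective hπ P.asIdeal p.asIdeal hc M m).1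
        (h p hpI hrel m rfl)
    · haveI := subsingleton_localized_of_not_le (A := A) P.asIdeal hker M
      exact subsingleton_H_of_subsingleton _ m _
  obtain ⟨ψ, hψ⟩ := Groth.LocCohTransform.exists_restrict_addEquiv (I := I') (R' := A) M (m + 1)
  revert ψ hψ
  rw [hI', Ideal.map_comap_of_surjective _ hπ]
  intro ψ hψ
  obtain ⟨s, hs⟩ := hfin.fg_top
  classical
  refine ⟨⟨s.image ψ.symm, Submodule.eq_top_iff'.2 fun x => ?_⟩⟩
  obtain ⟨y, rfl⟩ := ψ.symm.surjective x
  have hy : y ∈ Submodule.span R (s : Set (LocCoh.H I' (m + 1) M)) := hs.symm ▸ Submodule.mem_top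
  induction hy using Submodule.span_induction with
  | mem z hz => exact Submodule.subset_span (Finset.mem_coe.2 (Finset.mem_image_of_mem _ hz))
  | zero => rw [map_zero]; exact zero_mem _
  | add z w _ _ hz hw => rw [map_add]; exact add_mem hz hw
  | smul c z _ hz =>
    rw [show ψ.symm (c • z) = algebraMap R A c • ψ.symm z from ψ.injective (by
      rw [hψ, AddEquiv.apply_symm_apply, AddEquiv.apply_symm_apply])]
    exact Submodule.smul_mem _ _ hz

end Groth.LocFinite
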