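import Groth.Agent.LocFinite.CodimOne
import Groth.Agent.LocDual.RelCodim
import Groth.Agent.LocCohBase.CM

/-!
Finiteness of local cohomology for modules that are Cohen–Macaulay off the closed set.
-/

set_option autoImplicit false
universe u

open CategoryTheory IsLocalRing GrothGoren Groth.LocDual Groth.LocCohBase

namespace Groth.LocFinite

variable {R : Type u} [CommRing R]

/-- Heights add along comparable primes of a regular ring. -/
theorem height_add_Ici [IsRegularRing R] (X Y : PrimeSpectrum R) (h : X ≤ Y) :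
    Y.asIdeal.height = X.asIdeal.height + Order.height (⟨Y, h⟩ : Set.Ici X) := by
  have hinj := exists_injLT_of_regular _ (Localization.AtPrime Y.asIdeal) le_rfl
  obtain ⟨r, hr, -⟩ := exists_dim (Localization.AtPrime Y.asIdeal) hinj
  have hdisj : Disjoint (Y.asIdeal.primeCompl : Set R) X.asIdeal :=
    Set.disjoint_left.2 fun x hx hxp => hx (h hxp)
  set X' := X.asIdeal.map (algebraMap R (Localization.AtPrime Y.asIdeal))
  haveI : X'.IsPrime := IsLocalization.isPrime_of_isPrime_disjoint Y.asIdeal.primeCompl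
    (Localization.AtPrime Y.asIdeal) X.asIdeal X.isPrime hdisj
  have hX : X.asIdeal = X'.comap (algebraMap R (Localization.AtPrime Y.asIdeal)) :=
    (IsLocalization.under_map_of_isPrime_disjoint Y.asIdeal.primeCompl _ X.isPrime hdisj).symm
  obtain ⟨a, b, hab, ha, hb⟩ := exists_dim_split (isCohenMacaulay _ hinj) hr X'
  rw [ringKrullDim_quotient_localized Y X' X hX h] at hb
  rw [IsLocalization.AtPrime.ringKrullDim_eq_height Y.asIdeal] at hr
  rw [IsLocalization.AtPrime.ringKrullDim_eq_height X'] at ha
  have hXa : X.asIdeal.height = a := by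
    rw [hX, show (X'.comap (algebraMap R (Localization.AtPrime Y.asIdeal))).height = X'.height from
      IsLocalization.height_under Y.asIdeal.primeCompl X']
    exact_mod_cast ha
  rw [hXa, show Y.asIdeal.height = r from WithBot.coe_injective hr,
    show Order.height (⟨Y, h⟩ : Set.Ici X) = b from WithBot.coe_injective hb, ← hab]
  push_cast
  rfl

variable {A : Type u} [CommRing A] [Algebra R A]

/-- The intervals above a prime are those of its preimage under a surjection. -/
theorem exists_Ici_orderIso (hπ : Function.Surjective (algebraMap R A)) (p : PrimeSpectrum A) :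
    ∃ e : Set.Ici p ≃o Set.Ici (PrimeSpectrum.comap (algebraMap R A) p), ∀ x : Set.Ici p,
      (e x).1 = PrimeSpectrum.comap (algebraMap R A) x.1 := by
  have hle : ∀ x y : PrimeSpectrum A,
      PrimeSpectrum.comap (algebraMap R A) x ≤ PrimeSpectrum.comap (algebraMap R A) y ↔ x ≤ y :=
    fun x y => Ideal.comap_le_comap_iff_of_surjective _ hπ _ _
  let f : Set.Ici p → Set.Ici (PrimeSpectrum.comap (algebraMap R A) p) :=
    fun x => ⟨PrimeSpectrum.comap (algebraMap R A) x.1, (hle p x.1).2 x.2⟩
  have hf : ∀ y, ∃ x, f x = y := by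
    intro y
    have hker : RingHom.ker (algebraMap R A) ≤ y.1.asIdeal :=
      le_trans (fun r hr => by
        show algebraMap R A r ∈ p.asIdeal
        rw [RingHom.mem_ker.1 hr]
        exact p.asIdeal.zero_mem) y.2
    haveI := Ideal.map_isPrime_of_surjective hπ hker
    have hc : PrimeSpectrum.comap (algebraMap R A) ⟨y.1.asIdeal.map (algebraMap R A), inferInstance⟩
        = y.1 := by
      refine PrimeSpectrum.ext ?_
      show (y.1.asIdeal.map (algebraMap R A)).comap (algebraMap R A) = y.1.asIdeal
      rw [Ideal.comap_map_of_surjective _ hπ]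
      exact sup_eq_left.2 hker
    exact ⟨⟨_, (hle p _).1 (le_of_le_of_eq y.2 hc.symm)⟩, Subtype.ext hc⟩
  exact ⟨{ Equiv.ofBijective f ⟨fun x y hxy => Subtype.ext (le_antisymm
      ((hle _ _).1 (congrArg Subtype.val hxy).le) ((hle _ _).1 (congrArg Subtype.val hxy).ge)), hf⟩
    with map_rel_iff' := fun {x y} => hle x.1 y.1 }, fun _ => rfl⟩

/-- Additivity of the height in the interval above a prime, for quotients of regular rings. -/
theorem height_Ici_add [IsRegularRing R] (hπ : Function.Surjective (algebraMap R A))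
    {p p' q : PrimeSpectrum A} (h₁ : p ≤ p') (h₂ : p' ≤ q) :
    Order.height (⟨q, h₁.trans h₂⟩ : Set.Ici p) =
      Order.height (⟨p', h₁⟩ : Set.Ici p) + Order.height (⟨q, h₂⟩ : Set.Ici p') := by
  obtain ⟨e, he⟩ := exists_Ici_orderIso hπ p
  obtain ⟨e', he'⟩ := exists_Ici_orderIso hπ p'
  let C : PrimeSpectrum A → PrimeSpectrum R := PrimeSpectrum.comap (algebraMap R A)
  have hc : ∀ {x y : PrimeSpectrum A}, x ≤ y → C x ≤ C y := fun h => Ideal.comap_mono h
  rw [← Order.height_orderIso e ⟨q, h₁.trans h₂⟩, ← Order.height_orderIso e ⟨p', h₁⟩,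
    ← Order.height_orderIso e' ⟨q, h₂⟩,
    show e ⟨q, h₁.trans h₂⟩ = ⟨(C q), hc (h₁.trans h₂)⟩ from Subtype.ext (he _),
    show e ⟨p', h₁⟩ = ⟨(C p'), hc h₁⟩ from Subtype.ext (he _),
    show e' ⟨q, h₂⟩ = ⟨(C q), hc h₂⟩ from Subtype.ext (he' _)]
  have k1 := height_add_Ici (C p) ((C q)) (hc (h₁.trans h₂))
  have k2 := height_add_Ici (C p) ((C p')) (hc h₁)
  have k3 := height_add_Ici ((C p')) ((C q)) (hc h₂)
  rw [k2, k1, add_assoc] at k3
  exact (ENat.add_right_injective_of_ne_top (Ideal.height_ne_top (C p).isPrime.ne_top)) k3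

variable [IsNoetherianRing A] {M : Type u} [AddCommGroup M] [Module A M] [Module.Finite A M]

/-- For a Cohen–Macaulay localisation the depth is the height over any minimal prime of the support. -/
theorem depth_eq_height_of_CM {p p' : PrimeSpectrum A} (h : p ≤ p')
    (hp : p.asIdeal ∈ (Module.annihilator A M).minimalPrimes)
    (hCM : LocCoh.IsCohenMacaulayModule (Localization.AtPrime p'.asIdeal)
      (LocalizedModule p'.asIdeal.primeCompl M)) :
    LocCoh.depth (Localization.AtPrime p'.asIdeal) (LocalizedModule p'.asIdeal.primeCompl M) =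
      Order.height (⟨p', h⟩ : Set.Ici p) := by
  haveI : Module.Finite (Localization.AtPrime p'.asIdeal)
      (LocalizedModule p'.asIdeal.primeCompl M) :=
    Module.Finite.of_isLocalizedModule p'.asIdeal.primeCompl
      (LocalizedModule.mkLinearMap p'.asIdeal.primeCompl M)
  have hdisj : Disjoint (p'.asIdeal.primeCompl : Set A) p.asIdeal :=
    Set.disjoint_left.2 fun x hx hxp => hx (h hxp)
  set P := p.asIdeal.map (algebraMap A (Localization.AtPrime p'.asIdeal))
  haveI : P.IsPrime := IsLocalization.isPrime_of_isPrime_disjoint p'.asIdeal.primeCompl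
    (Localization.AtPrime p'.asIdeal) p.asIdeal p.isPrime hdisj
  have hP : p.asIdeal = P.comap (algebraMap A (Localization.AtPrime p'.asIdeal)) :=
    (IsLocalization.under_map_of_isPrime_disjoint p'.asIdeal.primeCompl _ p.isPrime hdisj).symm
  have hass : P ∈ associatedPrimes (Localization.AtPrime p'.asIdeal)
      (LocalizedModule p'.asIdeal.primeCompl M) := by
    have hiff := Module.associatedPrimes.preimage_comap_associatedPrimes_eq_associatedPrimes_of_isLocalizedModule
      p'.asIdeal.primeCompl (Localization.AtPrime p'.asIdeal)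
      (LocalizedModule.mkLinearMap p'.asIdeal.primeCompl M)
    rw [← hiff, Set.mem_preimage, ← hP]
    exact Module.associatedPrimes.minimalPrimes_annihilator_subset_associatedPrimes A M hp
  have h1 := ringKrullDim_quotient_eq_of_CM hCM hass
  rw [ringKrullDim_quotient_localized p' P p hP h, hCM] at h1
  exact (WithBot.coe_injective h1).symm

/-- Finiteness below a degree for modules Cohen–Macaulay off the closed set. -/
theorem finite_H_iff_lt_relCodim [IsRegularRing R] (hπ : Function.Surjective (algebraMap R A))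
    (I : Ideal A)
    (hCM : ∀ p : PrimeSpectrum A, ¬ I ≤ p.asIdeal →
      Subsingleton (LocalizedModule p.asIdeal.primeCompl M) ∨
        LocCoh.IsCohenMacaulayModule (Localization.AtPrime p.asIdeal)
          (LocalizedModule p.asIdeal.primeCompl M)) (n : ℕ) :
    (∀ i : ℕ, i ≤ n → Module.Finite A (LocCoh.H I i M)) ↔
      ∀ p : PrimeSpectrum A, ¬ I ≤ p.asIdeal →
        p.asIdeal ∈ (Module.annihilator A M).minimalPrimes → (n : ℕ∞) < SGA2.relCodim I p := by
  have hsupp : ∀ {p p' : PrimeSpectrum A}, p ≤ p' →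
      p.asIdeal ∈ (Module.annihilator A M).minimalPrimes → ¬ I ≤ p'.asIdeal →
      LocCoh.IsCohenMacaulayModule (Localization.AtPrime p'.asIdeal)
        (LocalizedModule p'.asIdeal.primeCompl M) := fun {p p'} h hp hI =>
    (hCM p' hI).resolve_left fun hs => not_nontrivial_iff_subsingleton.2 hs
      (Module.mem_support_iff.1 (Module.mem_support_iff_of_finite.2 (hp.1.2.trans h)))
  rw [finite_H_iff_le_depth R hπ I M n]
  constructor
  · intro h p hpI hp
    by_contra hlt
    rw [not_lt] at hlt
    obtain ⟨c, hc⟩ := ENat.ne_top_iff_exists.1 (ne_top_of_le_ne_top (ENat.natCast_ne_top n) hlt)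
    obtain ⟨p', hpp', e, hp'I, he, hc1, hec⟩ := exists_relCodim_one hpI hc.symm
    obtain ⟨q, hqI, hq⟩ := exists_covBy_of_relCodim_eq_one hc1
    have h1 := h p' q hp'I hqI hq
    rw [depth_eq_height_of_CM hpp' hp (hsupp hpp' hp hp'I), he] at h1
    rw [← hc] at hlt
    have h1' : n ≤ e := by exact_mod_cast h1
    have hlt' : c ≤ n := by exact_mod_cast hlt
    omega
  · intro h p' q hp'I hqI hq
    rcases hCM p' hp'I with hs | hC
    · haveI := hs
      rw [LocCoh.depth, idealDepth_eq_top_of_smul_top_eq_top (Subsingleton.elim _ _)]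
      exact le_top
    have hne : p' ∈ Module.support A M := Module.mem_support_iff.2 (nontrivial_of_CM hC)
    obtain ⟨P, hP, hPp'⟩ := Ideal.exists_minimalPrimes_le (Module.mem_support_iff_of_finite.1 hne)
    haveI := hP.1.1
    set p : PrimeSpectrum A := ⟨P, inferInstance⟩
    have hpp' : p ≤ p' := hPp'
    have hpI : ¬ I ≤ p.asIdeal := fun hI => hp'I (hI.trans hpp')
    rw [depth_eq_height_of_CM (p := p) hpp' hP (hsupp (p := p) hpp' hP hp'I)]
    have hc : SGA2.relCodim I p ≤ Order.height (⟨q, hpp'.trans hq.le⟩ : Set.Ici p) :=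
      iInf_le (fun x : {x : PrimeSpectrum A // p ≤ x ∧ I ≤ x.asIdeal} =>
        Order.height (⟨x.1, x.2.1⟩ : Set.Ici p)) ⟨q, hpp'.trans hq.le, hqI⟩
    have hone : Order.height (⟨q, hq.le⟩ : Set.Ici p') ≤ ((1 : ℕ) : ℕ∞) := by
      refine Order.height_le_coe_iff.2 fun y hy => ?_
      rw [Nat.cast_one, Order.lt_one_iff, Order.height_eq_zero]
      intro z hz
      by_contra hyz
      exact hq.2 (lt_of_le_of_lt (show p' ≤ z.1 from z.2)
        (show z.1 < y.1 from lt_of_le_not_ge hz hyz)) (show y.1 < q from hy)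
    have hlt := lt_of_lt_of_le (h p hpI hP) hc
    rw [height_Ici_add hπ hpp' hq.le] at hlt
    have := hlt.trans_le (add_le_add le_rfl hone)
    revert this
    generalize Order.height (⟨p', hpp'⟩ : Set.Ici p) = e
    cases e with
    | top => simp
    | coe a => intro this; norm_cast at this ⊢; omega

end Groth.LocFinite
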