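import Groth.Agent.LocFinite.Annihilated
import Groth.Agent.Calg3.DualTF

/-!
Finiteness of `H^1_I` in terms of the associated primes.
-/

set_option autoImplicit false
universe u

open CategoryTheory IsLocalRing GrothGoren Groth.LocCohBase

namespace Groth.LocFinite

variable {R : Type u} [CommRing R]

/-- Local cohomology of a finite power. -/
theorem finite_H_pi (I : Ideal R) (i r : ℕ) (N : Type u) [AddCommGroup N] [Module R N]
    [Module.Finite R (LocCoh.H I i N)] : Module.Finite R (LocCoh.H I i (Fin r → N)) := by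
  classical
  let s : Fin r → (ModuleCat.of R N ⟶ ModuleCat.of R (Fin r → N)) := fun c =>
    ModuleCat.ofHom (LinearMap.single R (fun _ => N) c)
  let g : Fin r → (ModuleCat.of R (Fin r → N) ⟶ ModuleCat.of R N) := fun c =>
    ModuleCat.ofHom (LinearMap.proj c)
  let Φ : (Fin r → LocCoh.H I i N) →ₗ[R] LocCoh.H I i (Fin r → N) :=
    ∑ c, ((localCohomology I i).map (s c)).hom ∘ₗ LinearMap.proj c
  refine Module.Finite.of_surjective Φ fun x => ⟨fun c => ((localCohomology I i).map (g c)).hom x, ?_⟩
  have hsum : ∀ S : Finset (Fin r), ∑ c ∈ S, ((localCohomology I i).map (s c)).hom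
      (((localCohomology I i).map (g c)).hom x) =
      ((localCohomology I i).map (∑ c ∈ S, g c ≫ s c)).hom x := by
    intro S
    induction S using Finset.induction_on with
    | empty => rw [Finset.sum_empty, Finset.sum_empty, Groth.LocCohTransform.map_zero']
    | insert c S hc ih =>
      rw [Finset.sum_insert hc, Finset.sum_insert hc, Groth.LocCohTransform.map_add', ih,
        Groth.LocCohTransform.map_comp']
  refine (LinearMap.sum_apply _ _ _).trans ((hsum Finset.univ).trans ?_)
  rw [show ∑ c, g c ≫ s c = 𝟙 (ModuleCat.of R (Fin r → N)) by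
    ext v
    simp [g, s, ModuleCat.hom_sum, Finset.sum_apply, LinearMap.sum_apply, Pi.single_apply],
    Groth.LocCohTransform.map_id']

variable [IsNoetherianRing R]

/-- `H^0_I` of a finite module is finite. -/
theorem finite_H_zero_of_finite (I : Ideal R) (M : Type u) [AddCommGroup M] [Module R M]
    [Module.Finite R M] : Module.Finite R (LocCoh.H I 0 M) :=
  Module.Finite.equiv (h0Equiv I M).symm

/-- Associated primes of a submodule of a finite power. -/
theorem associatedPrimes_subset_of_injective_pi {r : ℕ} {P Q : Type u} [AddCommGroup P]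
    [Module R P] [AddCommGroup Q] [Module R Q] (θ : P →ₗ[R] (Fin r → Q))
    (hθ : Function.Injective θ) : associatedPrimes R P ⊆ associatedPrimes R Q := by
  intro q hq
  obtain ⟨hqp, x, hx⟩ := isAssociatedPrime_iff.1 hq
  have heq : q = Finset.univ.inf fun c => (⊥ : Submodule R Q).colon {θ x c} := by
    refine le_antisymm (Finset.le_inf fun c _ a ha => ?_) fun a ha => ?_
    · rw [hx, Submodule.mem_colon_singleton, Submodule.mem_bot] at ha
      rw [Submodule.mem_colon_singleton, Submodule.mem_bot, ← Pi.smul_apply, ← map_smul, ha,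
        map_zero]
      rfl
    · rw [hx, Submodule.mem_colon_singleton, Submodule.mem_bot]
      refine hθ ?_
      rw [map_zero, map_smul]
      funext c
      have := Finset.inf_le (f := fun c => (⊥ : Submodule R Q).colon {θ x c}) (Finset.mem_univ c) ha
      simpa [Submodule.mem_colon_singleton] using this
  obtain ⟨c, -, hc⟩ := (Ideal.IsPrime.inf_le' hqp).1 heq.ge
  exact isAssociatedPrime_iff.2 ⟨hqp, θ x c, le_antisymm
    (heq.le.trans (Finset.inf_le (Finset.mem_univ c))) hc⟩

/-- `H^1_I(M)` is finite if all `H^1_I(R/p)` are, for the associated primes `p ⊉ I`. -/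
theorem finite_H_one_of_associatedPrimes (I : Ideal R) (M : Type u) [AddCommGroup M] [Module R M]
    [Module.Finite R M] (N : Submodule R M)
    (h : ∀ p ∈ associatedPrimes R (M ⧸ N), ¬ I ≤ p → Module.Finite R (LocCoh.H I 1 (R ⧸ p))) :
    Module.Finite R (LocCoh.H I 1 (M ⧸ N)) := by
  induction N using IsWellFounded.induction (α := Submodule R M) (· > ·) with
  | _ N ih =>
  set Q := M ⧸ N
  rcases subsingleton_or_nontrivial Q with hQ | hQ
  · haveI : Subsingleton (LocCoh.H I 1 Q) :=
      subsingleton_succ_of_isPowerTorsion I 0 (ModuleCat.of R Q)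
        fun x => ⟨0, fun a _ => Subsingleton.elim (α := Q) _ _⟩
    exact Module.Finite.of_finite
  obtain ⟨p, hp, hmax⟩ := Set.Finite.exists_maximalFor id (associatedPrimes R Q)
    (associatedPrimes.finite R Q) (associatedPrimes.nonempty R Q)
  haveI := hp.isPrime
  -- the elements killed by `p`
  obtain ⟨r, g, hg⟩ : ∃ (r : ℕ) (g : Fin r → R), Ideal.span (Set.range g) = p :=
    Submodule.fg_iff_exists_fin_generating_family.1 (IsNoetherian.noetherian p)
  let θ : M →ₗ[R] (Fin r → Q) := LinearMap.pi fun c => g c • N.mkQ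
  set N' := LinearMap.ker θ
  have hmem : ∀ x : M, x ∈ N' ↔ ∀ a ∈ p, a • N.mkQ x = 0 := by
    intro x
    refine ⟨fun hx a ha => ?_, fun hx => LinearMap.mem_ker.2 (funext fun c =>
      hx (g c) (hg ▸ Ideal.subset_span (Set.mem_range_self c)))⟩
    rw [← hg] at ha
    induction ha using Submodule.span_induction with
    | mem y hy => obtain ⟨c, rfl⟩ := hy; exact congrFun (LinearMap.mem_ker.1 hx) c
    | zero => rw [zero_smul]
    | add y z _ _ h1 h2 => rw [add_smul, h1, h2, add_zero]
    | smul b y _ h1 => rw [smul_eq_mul, mul_smul, h1, smul_zero]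
  have hle : N ≤ N' := fun x hx => (hmem x).2 fun a _ => by
    rw [Submodule.mkQ_apply, (Submodule.Quotient.mk_eq_zero N).2 hx, smul_zero]
  obtain ⟨hpp, z, hz⟩ := isAssociatedPrime_iff.1 hp
  obtain ⟨z, rfl⟩ := Submodule.mkQ_surjective N z
  have hlt : N < N' := by
    refine lt_of_le_of_ne hle fun heq => ?_
    have hzN : z ∈ N := heq ▸ (hmem z).2 fun a ha => by
      rw [hz, Submodule.mem_colon_singleton, Submodule.mem_bot] at ha
      exact ha
    refine hpp.ne_top ?_
    rw [hz, Submodule.mkQ_apply, (Submodule.Quotient.mk_eq_zero N).2 hzN]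
    simp
  -- the quotient
  have hQ' : Module.Finite R (LocCoh.H I 1 (M ⧸ N')) := ih N' hlt fun q hq hqI =>
    h q (associatedPrimes_subset_of_injective_pi (N'.liftQ θ le_rfl)
      (LinearMap.ker_eq_bot.1 (Submodule.ker_liftQ_eq_bot _ _ _ le_rfl)) hq) hqI
  -- the submodule
  let π := Submodule.factor hle
  set K := LinearMap.ker π
  have hKp : ∀ a ∈ p, ∀ x : K, a • x = 0 := by
    rintro a ha ⟨x, hx⟩
    obtain ⟨x, rfl⟩ := Submodule.mkQ_surjective N x
    exact Subtype.ext ((hmem x).1 ((Submodule.Quotient.mk_eq_zero N').1 hx) a ha)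
  have hK : Module.Finite R (LocCoh.H I 1 K) := by
    by_cases hIp : I ≤ p
    · haveI : Subsingleton (LocCoh.H I 1 K) :=
        subsingleton_succ_of_isPowerTorsion I 0 (ModuleCat.of R K) fun x => ⟨1, fun a ha =>
          hKp a (hIp (by rwa [pow_one] at ha)) x⟩
      exact Module.Finite.of_finite
    have htor : Module.IsTorsionBySet R K p := fun x a => hKp a.1 a.2 x
    letI := htor.module
    haveI : IsScalarTower R (R ⧸ p) K := htor.isScalarTower
    haveI : Module.Finite (R ⧸ p) K := Module.Finite.of_restrictScalars_finite R (R ⧸ p) K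
    haveI : Module.IsTorsionFree (R ⧸ p) K := by
      refine Groth.Calg3.isTorsionFree_of_smul_eq_zero fun c x hc hcx => ?_
      obtain ⟨c, rfl⟩ := Ideal.Quotient.mk_surjective c
      by_contra hx
      have hxQ : (x : Q) ≠ 0 := fun h0 => hx (Subtype.ext h0)
      obtain ⟨q, hq, hle'⟩ := exists_le_isAssociatedPrime_of_isNoetherianRing R (x : Q) hxQ
      have hcq : c ∈ q := hle' (by
        rw [Submodule.mem_colon_singleton, Submodule.mem_bot]
        exact congrArg Subtype.val hcx)
      have hpq : p ≤ q := fun a ha => hle' (by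
        rw [Submodule.mem_colon_singleton, Submodule.mem_bot]
        exact congrArg Subtype.val (hKp a ha x))
      exact hc (Ideal.Quotient.eq_zero_iff_mem.2 (hmax hq hpq hcq))
    obtain ⟨e, he⟩ := Groth.Calg3.exists_injective_of_torsionFree (R := R ⧸ p) (M := K)
    haveI := h p hp hIp
    have := finite_H_pi I 1 (Module.finrank (R ⧸ p) K) (R ⧸ p)
    have := finite_H_zero_of_finite I ((Fin (Module.finrank (R ⧸ p) K) → R ⧸ p) ⧸
      LinearMap.range (e.restrictScalars R))
    have hS := seqCx_shortExact (e.restrictScalars R) (LinearMap.range (e.restrictScalars R)).mkQ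
      (LinearMap.exact_map_mkQ_range _) he (Submodule.mkQ_surjective _)
    exact finite_of_exact (exact₁ (I := I) hS 0)
  have hS := seqCx_shortExact K.subtype π (LinearMap.exact_subtype_ker_map π)
    (Submodule.injective_subtype _) (Submodule.factor_surjective hle)
  exact finite_of_exact (exact₂ (I := I) hS 1)

end Groth.LocFinite
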