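import Groth.Agent.LocFinite.Finiteness
import Groth.Agent.LocCohBase.DepthLocal
import Groth.Agent.LocCohBase.CdLocal
import Groth.Agent.LocCohTransform.HMap
import Groth.Agent.LocCohTransform.BaseChange

/-!
The converse of the finiteness criterion: finiteness of `H^i_I(M)` for `i ≤ n` bounds the depth of
`M` below at the primes sitting in codimension one off the closed set.
-/

set_option autoImplicit false
universe u

open CategoryTheory IsLocalRing GrothGoren Groth.LocDual Groth.LocCohBase

namespace Groth.LocFinite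

section Local

variable {S : Type u} [CommRing S] [IsNoetherianRing S]

/-- Exactness propagates finiteness. -/
theorem finite_of_exact {A B C : Type u} [AddCommGroup A] [Module S A] [AddCommGroup B]
    [Module S B] [AddCommGroup C] [Module S C] {f : A →ₗ[S] B} {g : B →ₗ[S] C}
    (hfg : Function.Exact f g) [Module.Finite S A] [Module.Finite S C] : Module.Finite S B := by
  haveI := isNoetherian_of_range_eq_ker f g hfg.linearMap_ker_eq.symm
  infer_instance

variable [IsLocalRing S]

theorem finite_H_zero (I : Ideal S) (M : Type u) [AddCommGroup M] [Module S M]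
    [Module.Finite S M] : Module.Finite S (LocCoh.H I 0 M) :=
  Module.Finite.equiv (h0Equiv I M).symm

/-- `H^1_I` of a one-dimensional domain quotient is not finite. -/
theorem not_finite_H_one_quotient (I p : Ideal S) [p.IsPrime] (hpI : ¬ I ≤ p) (hI : I ≠ ⊤)
    (hmax : ∀ Q : Ideal S, Q.IsPrime → p < Q → Q = maximalIdeal S) :
    ¬ Module.Finite S (LocCoh.H I 1 (S ⧸ p)) := by
  intro hfin
  have hIm : I ≤ maximalIdeal S := IsLocalRing.le_maximalIdeal hI
  have hpm : p < maximalIdeal S := lt_of_le_of_ne (IsLocalRing.le_maximalIdeal Ideal.IsPrime.ne_top')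
    fun h => hpI (h ▸ hIm)
  have hdim : Module.supportDim S (S ⧸ p) = (0 + 1 : ℕ) := by
    let P : PrimeSpectrum S := ⟨p, inferInstance⟩
    rw [Module.supportDim_quotient_eq_ringKrullDim,
      show ringKrullDim (S ⧸ p) = _ from Groth.Ega4Algebra1.ringKrullDim_quotient_eq_coheight S P]
    have hc : Order.coheight P = ((0 + 1 : ℕ) : ℕ∞) := by
      refine le_antisymm (Order.coheight_le_coe_iff.2 fun y hy => ?_) ?_
      · rw [zero_add, Nat.cast_one, ENat.lt_one_iff_eq_zero, Order.coheight_eq_zero]
        intro z _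
        show z.asIdeal ≤ y.asIdeal
        rw [hmax y.asIdeal y.isPrime hy]
        exact IsLocalRing.le_maximalIdeal z.isPrime.ne_top
      · rw [zero_add, Nat.cast_one, Order.one_le_iff_pos, pos_iff_ne_zero, Ne,
          Order.coheight_eq_zero]
        intro h
        exact not_le_of_gt hpm (h (b := IsLocalRing.closedPoint S) hpm.le)
    rw [hc]
    rfl
  refine not_finite_H 0 (S ⧸ p) hdim ?_
  have htor : LocCoh.IsPowerTorsion p (ModuleCat.of S (S ⧸ p)) := fun z => ⟨1, fun a ha => by
    obtain ⟨z, rfl⟩ := Submodule.Quotient.mk_surjective _ z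
    rw [pow_one] at ha
    exact (Submodule.Quotient.mk_eq_zero _).2 (p.mul_mem_right _ ha)⟩
  have h1 := Groth.LocCohTransform.hmap_bijective (I := I) (I' := I ⊔ p) le_sup_left
    (J := p) le_rfl 1 (ModuleCat.of S (S ⧸ p)) htor
  have hle : I ⊔ p ≤ maximalIdeal S := sup_le hIm hpm.le
  have h2 := hmap_bijective_of_forall hle (fun Q hQ => le_of_eq (hmax Q.asIdeal Q.isPrime
    (lt_of_le_of_ne (le_sup_right.trans hQ) fun h => hpI (h ▸ (le_sup_left.trans hQ)))).symm) 1
    (ModuleCat.of S (S ⧸ p))
  exact Module.Finite.equiv ((LinearEquiv.ofBijective _ h2).trans (LinearEquiv.ofBijective _ h1)).symm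

/-- Finiteness of `H^i_I(M)`, `i ≤ n`, forces `H^j` of `M_p` to vanish for `j < n`. -/
theorem subsingleton_H_of_finite_H (I p : Ideal S) [p.IsPrime] (hpI : ¬ I ≤ p) (hI : I ≠ ⊤)
    (hmax : ∀ Q : Ideal S, Q.IsPrime → p < Q → Q = maximalIdeal S) (n : ℕ) :
    ∀ (M : Type u) [AddCommGroup M] [Module S M] [Module.Finite S M],
      (∀ i, i ≤ n → Module.Finite S (LocCoh.H I i M)) → ∀ j, j < n →
        Subsingleton (LocCoh.H (maximalIdeal (Localization.AtPrime p)) j
          (LocalizedModule p.primeCompl M)) := by
  induction n with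
  | zero => intro M _ _ _ _ j hj; omega
  | succ n ih =>
  intro M _ _ _ hfin j hj
  set Γ := DRing.torsionSub I M
  -- localisation does not see the torsion
  have hbij : Function.Bijective (LocalizedModule.map p.primeCompl Γ.mkQ) := by
    refine ⟨?_, ?_⟩
    · rw [← LinearMap.ker_eq_bot, Submodule.eq_bot_iff]
      intro x hx
      induction x using LocalizedModule.induction_on with
      | h m s =>
        rw [LinearMap.mem_ker, LocalizedModule.map_mk, IsLocalizedModule.mk_eq_mk',
          IsLocalizedModule.mk'_eq_zero'] at hx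
        obtain ⟨⟨c, hc⟩, hcm⟩ := hx
        rw [Submonoid.smul_def, Submodule.mkQ_apply, ← Submodule.Quotient.mk_smul, Submodule.Quotient.mk_eq_zero] at hcm
        obtain ⟨k, hk⟩ := hcm
        obtain ⟨a, haI, hap⟩ := SetLike.not_le_iff_exists.1 hpI
        rw [IsLocalizedModule.mk_eq_mk', IsLocalizedModule.mk'_eq_zero']
        refine ⟨⟨a ^ k * c, p.primeCompl.mul_mem (pow_mem hap k) hc⟩, ?_⟩
        rw [Submonoid.smul_def, mul_smul]
        exact hk _ (Ideal.pow_mem_pow haI k)
    · exact LocalizedModule.map_surjective _ _ Γ.mkQ_surjective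
  refine (subsingleton_H_congr (maximalIdeal (Localization.AtPrime p)) j
    (LinearEquiv.ofBijective _ hbij)).2 ?_
  -- hence we may assume that `M` has no torsion
  have hfin' : ∀ i, i ≤ n + 1 → Module.Finite S (LocCoh.H I i (M ⧸ Γ)) := by
    intro i hi
    rcases i with _ | i
    · exact finite_H_zero I _
    · haveI := hfin (i + 1) hi
      exact Module.Finite.of_surjective
        ((localCohomology I (i + 1)).map (ModuleCat.ofHom Γ.mkQ)).hom
        (map_mkQ_torsion_bijective I i M).2
  have hΓ : DRing.torsionSub I (M ⧸ Γ) = ⊥ :=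
    torsionSub_quotient_eq_bot (IsNoetherian.noetherian I) M
  set N := M ⧸ Γ
  have hass : ∀ Q ∈ associatedPrimes S N, ¬ I ≤ Q := by
    intro Q hQ hIQ
    obtain ⟨hQp, x, hx⟩ := isAssociatedPrime_iff.1 hQ
    have hxmem : x ∈ DRing.torsionSub I N := ⟨1, fun a ha => by
      rw [pow_one] at ha
      have := hIQ ha
      rwa [hx, Submodule.mem_colon_singleton, Submodule.mem_bot] at this⟩
    rw [hΓ, Submodule.mem_bot] at hxmem
    refine hQp.ne_top ?_
    rw [hx, hxmem]
    simp
  have hpass : p ∉ associatedPrimes S N := by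
    intro hp
    obtain ⟨hpp, x, hx⟩ := isAssociatedPrime_iff.1 hp
    let f : (S ⧸ p) →ₗ[S] N := p.liftQ (LinearMap.toSpanSingleton S N x) fun a ha => by
      rw [hx, Submodule.mem_colon_singleton, Submodule.mem_bot] at ha
      exact ha
    have hf : Function.Injective f := by
      rw [← LinearMap.ker_eq_bot]
      refine Submodule.ker_liftQ_eq_bot _ _ _ fun a ha => ?_
      rw [hx, Submodule.mem_colon_singleton, Submodule.mem_bot]
      exact ha
    have hS := seqCx_shortExact f (LinearMap.range f).mkQ (LinearMap.exact_map_mkQ_range f) hf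
      (Submodule.mkQ_surjective _)
    refine not_finite_H_one_quotient I p hpI hI hmax ?_
    haveI := finite_H_zero I (N ⧸ LinearMap.range f)
    haveI := hfin' 1 (by omega)
    exact finite_of_exact (exact₁ (I := I) hS 0)
  rcases j with _ | j
  · refine (le_idealDepth_iff_localCohomology _ 1 _).1 ?_ 0 Nat.zero_lt_one
    rw [Nat.cast_one]
    exact (one_le_depth_localized_iff p N).2 hpass
  -- a regular element in `p`
  obtain ⟨a, hap, hreg⟩ : ∃ a ∈ p, IsSMulRegular N a := by
    by_contra hno
    push Not at hno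
    have hsub : (p : Set S) ⊆ ⋃ Q ∈ associatedPrimes S N, (Q : Set S) := fun a ha => by
      rw [biUnion_associatedPrimes_eq_compl_regular]
      exact hno a ha
    obtain ⟨Q, hQ, hle⟩ := (p.subset_union_prime_finite (associatedPrimes.finite S N)
      (f := id) 0 0 fun _ h _ _ => h.isPrime).1 hsub
    rcases eq_or_lt_of_le (show p ≤ Q from hle) with h | h
    · exact hpass (h ▸ hQ)
    · exact hass Q hQ (hmax Q hQ.isPrime h ▸ IsLocalRing.le_maximalIdeal hI)
  let f : N →ₗ[S] N := LinearMap.lsmul S N a
  have hS := seqCx_shortExact f (LinearMap.range f).mkQ (LinearMap.exact_map_mkQ_range f) hreg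
    (Submodule.mkQ_surjective _)
  have hfinQ : ∀ i, i ≤ n → Module.Finite S (LocCoh.H I i (N ⧸ LinearMap.range f)) := fun i hi => by
    haveI := hfin' i (by omega)
    haveI := hfin' (i + 1) (by omega)
    exact finite_of_exact (exact₃ (I := I) hS i)
  -- the localised sequence
  have hS' := seqCx_shortExact (LocalizedModule.map p.primeCompl f)
    (LocalizedModule.map p.primeCompl (LinearMap.range f).mkQ)
    (LocalizedModule.map_exact p.primeCompl f _ (LinearMap.exact_map_mkQ_range f))
    (LocalizedModule.map_injective _ f hreg)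
    (LocalizedModule.map_surjective _ _ (Submodule.mkQ_surjective _))
  haveI h0 := ih (N ⧸ LinearMap.range f) hfinQ j (by omega)
  refine subsingleton_of_forall_eq 0 fun x => ?_
  obtain ⟨k, hk⟩ := exists_pow_smul_eq_zero (j + 1) _ x
  have hinj : ∀ y : LocCoh.H (maximalIdeal (Localization.AtPrime p)) (j + 1)
      (LocalizedModule p.primeCompl N),
      algebraMap S (Localization.AtPrime p) a • y = 0 → y = 0 := by
    intro y hy
    have hmap : LocalizedModule.map p.primeCompl f =
        algebraMap S (Localization.AtPrime p) a • LinearMap.id := by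
      apply LinearMap.ext
      intro z
      induction z using LocalizedModule.induction_on with
      | h m s =>
        rw [LocalizedModule.map_mk, LinearMap.smul_apply, LinearMap.id_apply, algebraMap_smul,
          LocalizedModule.smul'_mk]
        rfl
    rw [smul_eq_map] at hy
    obtain ⟨w, hw⟩ := (exact₁ (I := maximalIdeal (Localization.AtPrime p)) hS' j y).1 (by
      rw [show (seqCx (LocalizedModule.map p.primeCompl f) _ _).f =
        algebraMap S (Localization.AtPrime p) a • 𝟙 (ModuleCat.of _ (LocalizedModule p.primeCompl N))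
        from ModuleCat.hom_ext hmap]
      exact hy)
    rw [← hw, Subsingleton.elim w 0, map_zero]
  have hk' := hk _ (Ideal.pow_mem_pow (show algebraMap S (Localization.AtPrime p) a ∈
    maximalIdeal (Localization.AtPrime p) from
      (IsLocalization.AtPrime.to_map_mem_maximal_iff _ p a).2 hap) k)
  clear hk
  induction k with
  | zero => rwa [pow_zero, one_smul] at hk'
  | succ k ihk => exact ihk (hinj _ (by rwa [← mul_smul, ← pow_succ']))

end Local

/-- Finiteness of `H^i_I(M)` for `i ≤ n` bounds below the depth in codimension one off `V(I)`. -/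
theorem le_depth_of_finite_H {A : Type u} [CommRing A] [IsNoetherianRing A] (I : Ideal A)
    (M : Type u) [AddCommGroup M] [Module A M] [Module.Finite A M] (n : ℕ)
    (hfin : ∀ i, i ≤ n → Module.Finite A (LocCoh.H I i M)) (p q : PrimeSpectrum A)
    (hp : ¬ I ≤ p.asIdeal) (hq : I ≤ q.asIdeal) (hpq : p ⋖ q) :
    (n : ℕ∞) ≤ LocCoh.depth (Localization.AtPrime p.asIdeal)
      (LocalizedModule p.asIdeal.primeCompl M) := by
  haveI : Module.Finite (Localization.AtPrime p.asIdeal) (LocalizedModule p.asIdeal.primeCompl M) :=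
    Module.Finite.of_isLocalizedModule p.asIdeal.primeCompl
      (LocalizedModule.mkLinearMap p.asIdeal.primeCompl M)
  rw [LocCoh.depth, le_idealDepth_iff_localCohomology]
  intro j hj
  set Aq := Localization.AtPrime q.asIdeal
  have hdisj : Disjoint (q.asIdeal.primeCompl : Set A) p.asIdeal :=
    Set.disjoint_left.2 fun x hx hxp => hx (hpq.lt.le hxp)
  set p' := p.asIdeal.map (algebraMap A Aq)
  haveI : p'.IsPrime := IsLocalization.isPrime_of_isPrime_disjoint q.asIdeal.primeCompl
    Aq p.asIdeal p.isPrime hdisj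
  have hp' : p.asIdeal = p'.comap (algebraMap A Aq) :=
    (IsLocalization.under_map_of_isPrime_disjoint q.asIdeal.primeCompl _ p.isPrime hdisj).symm
  rw [← Groth.LocDual.subsingleton_H_localized_localized q.asIdeal p' p.asIdeal hp' M j]
  haveI : Module.Finite Aq (LocalizedModule q.asIdeal.primeCompl M) :=
    Module.Finite.of_isLocalizedModule q.asIdeal.primeCompl
      (LocalizedModule.mkLinearMap q.asIdeal.primeCompl M)
  refine subsingleton_H_of_finite_H (I.map (algebraMap A Aq)) p'
    (fun h => hp (hp' ▸ Ideal.map_le_iff_le_comap.1 h)) ?_ ?_ n _ ?_ j hj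
  · intro h
    have : I.map (algebraMap A Aq) ≤ maximalIdeal Aq := Ideal.map_le_iff_le_comap.2 (by
      exact hq.trans (IsLocalization.AtPrime.under_maximalIdeal Aq q.asIdeal).ge)
    exact (maximalIdeal.isMaximal Aq).ne_top (top_le_iff.1 (h ▸ this))
  · intro Q hQ hlt
    by_contra hne
    let e := IsLocalization.AtPrime.primeSpectrumOrderIso Aq q.asIdeal
    have h1 := e.strictMono (show (⟨p', inferInstance⟩ : PrimeSpectrum Aq) < ⟨Q, hQ⟩ from hlt)
    have h2 := e.strictMono (show (⟨Q, hQ⟩ : PrimeSpectrum Aq) < IsLocalRing.closedPoint Aq from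
      lt_of_le_of_ne (IsLocalRing.le_maximalIdeal hQ.ne_top) fun h => hne (congrArg PrimeSpectrum.asIdeal h))
    refine hpq.2 (c := (e ⟨Q, hQ⟩).1) ?_ ?_
    · refine lt_of_eq_of_lt ?_ (Subtype.coe_lt_coe.2 h1)
      exact PrimeSpectrum.ext hp'
    · exact lt_of_lt_of_le (Subtype.coe_lt_coe.2 h2) (e _).2
  · intro i hi
    haveI := hfin i hi
    obtain ⟨e⟩ := Groth.LocCohTransform.nonempty_baseChange_equiv Aq I M i
    exact Module.Finite.equiv (e.trans ((localCohomology _ i).mapIso
      (LocalizedModule.equivTensorProduct q.asIdeal.primeCompl M).symm.toModuleIso).toLinearEquiv)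

end Groth.LocFinite
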