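import Groth.Agent.LocFinite.Converse

/-!
Finiteness of `H^i_I(M)` for `i ≤ n` versus the depth in codimension one, over quotients of
regular rings.
-/

set_option autoImplicit false
universe u

open CategoryTheory IsLocalRing Groth.LocCohBase

namespace Groth.LocFinite

/-- A relative codimension equal to one is realised by a covering. -/
theorem exists_covBy_of_relCodim_eq_one {A : Type u} [CommRing A] {I : Ideal A}
    {p : PrimeSpectrum A} (h : SGA2.relCodim I p = 1) :
    ∃ q : PrimeSpectrum A, I ≤ q.asIdeal ∧ p ⋖ q := by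
  haveI : Nonempty {q : PrimeSpectrum A // p ≤ q ∧ I ≤ q.asIdeal} := by
    by_contra hne
    rw [not_nonempty_iff] at hne
    rw [SGA2.relCodim, iInf_of_empty] at h
    exact ENat.top_ne_one h
  obtain ⟨q, hq⟩ := ENat.exists_eq_iInf fun q : {q : PrimeSpectrum A // p ≤ q ∧ I ≤ q.asIdeal} =>
    Order.height (⟨q.1, q.2.1⟩ : Set.Ici p)
  have hq' : Order.height (⟨q.1, q.2.1⟩ : Set.Ici p) = 1 := hq.trans h
  refine ⟨q.1, q.2.2, lt_of_le_of_ne q.2.1 ?_, fun c hc hc' => ?_⟩
  · intro he
    have h0 : Order.height (⟨q.1, q.2.1⟩ : Set.Ici p) = 0 := by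
      rw [Order.height_eq_zero]
      intro y _
      show q.1 ≤ y.1
      exact he ▸ y.2
    rw [h0] at hq'
    exact zero_ne_one hq'
  · let a : Set.Ici p := ⟨p, Set.self_mem_Ici⟩
    let b : Set.Ici p := ⟨c, hc.le⟩
    have h1 := Order.height_add_one_le (show a < b from hc)
    have h2 := Order.height_add_one_le (show b < ⟨q.1, q.2.1⟩ from hc')
    rw [hq'] at h2
    have h3 : (1 : ℕ∞) ≤ Order.height b := le_trans le_add_self h1
    have h4 : (1 : ℕ∞) + 1 ≤ 1 := le_trans (add_le_add h3 le_rfl) h2
    exact absurd h4 (by decide)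

/-- Finiteness of `H^i_I(M)`, `i ≤ n`, is a depth condition in codimension one. -/
theorem finite_H_iff_le_depth (R : Type u) [CommRing R] [IsRegularRing R] {A : Type u} [CommRing A]
    [IsNoetherianRing A] [Algebra R A] (hπ : Function.Surjective (algebraMap R A)) (I : Ideal A)
    (M : Type u) [AddCommGroup M] [Module A M] [Module.Finite A M] (n : ℕ) :
    (∀ i : ℕ, i ≤ n → Module.Finite A (LocCoh.H I i M)) ↔
      ∀ p q : PrimeSpectrum A, ¬ I ≤ p.asIdeal → I ≤ q.asIdeal → p ⋖ q →
        (n : ℕ∞) ≤ LocCoh.depth (Localization.AtPrime p.asIdeal)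
          (LocalizedModule p.asIdeal.primeCompl M) := by
  refine ⟨fun h p q hp hq hpq => le_depth_of_finite_H I M n h p q hp hq hpq, fun h i hi => ?_⟩
  refine finite_H_of_covBy hπ I M i fun p hp hc j hj => ?_
  obtain ⟨q, hq, hpq⟩ := exists_covBy_of_relCodim_eq_one hc
  haveI : Module.Finite (Localization.AtPrime p.asIdeal) (LocalizedModule p.asIdeal.primeCompl M) :=
    Module.Finite.of_isLocalizedModule p.asIdeal.primeCompl
      (LocalizedModule.mkLinearMap p.asIdeal.primeCompl M)
  exact (le_idealDepth_iff_localCohomology _ n _).1 (h p q hp hq hpq) j (by omega)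

end Groth.LocFinite
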