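import Groth.Agent.LocFinite.Converse
import Mathlib.Algebra.Module.FinitePresentation

/-!
Faltings' annihilator form of finiteness of local cohomology, its locality, and the transfer of
annihilators to modules that are locally free away from the closed set.
-/

set_option autoImplicit false
universe u

open CategoryTheory IsLocalRing GrothGoren Groth.LocCohBase

namespace Groth.LocFinite

variable {R : Type u} [CommRing R]

/-- A finite local cohomology module is killed by a power of the ideal. -/
theorem exists_pow_le_annihilator_H (I : Ideal R) (i : ℕ) (M : Type u) [AddCommGroup M]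
    [Module R M] [Module.Finite R (LocCoh.H I i M)] :
    ∃ k, I ^ k ≤ Module.annihilator R (LocCoh.H I i M) := by
  classical
  obtain ⟨s, hs⟩ := Module.Finite.fg_top (R := R) (M := LocCoh.H I i M)
  choose k hk using fun x : LocCoh.H I i M => exists_pow_smul_eq_zero (I := I) i (ModuleCat.of R M) x
  refine ⟨s.sup k, fun a ha => Module.mem_annihilator.2 fun x => ?_⟩
  have hx : x ∈ Submodule.span R (s : Set (LocCoh.H I i M)) := hs.symm ▸ Submodule.mem_top
  induction hx using Submodule.span_induction with
  | mem y hy => exact hk y a (Ideal.pow_le_pow_right (Finset.le_sup (Finset.mem_coe.1 hy)) ha)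
  | zero => rw [smul_zero]
  | add y z _ _ h1 h2 => rw [smul_add, h1, h2, add_zero]
  | smul c y _ h1 => rw [smul_comm, h1, smul_zero]

/-- A common power for the degrees up to `n`. -/
theorem exists_pow_le_annihilator_H_le (I : Ideal R) (n : ℕ) (M : Type u) [AddCommGroup M]
    [Module R M] (h : ∀ i, i ≤ n → Module.Finite R (LocCoh.H I i M)) :
    ∃ k, ∀ i, i ≤ n → I ^ k ≤ Module.annihilator R (LocCoh.H I i M) := by
  induction n with
  | zero =>
    have := h 0 le_rfl
    obtain ⟨k, hk⟩ := exists_pow_le_annihilator_H I 0 M
    exact ⟨k, fun i hi => (Nat.le_zero.1 hi) ▸ hk⟩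
  | succ n ih =>
    obtain ⟨k, hk⟩ := ih fun i hi => h i (by omega)
    have := h (n + 1) le_rfl
    obtain ⟨l, hl⟩ := exists_pow_le_annihilator_H I (n + 1) M
    refine ⟨k + l, fun i hi => ?_⟩
    rcases Nat.lt_or_ge i (n + 1) with h' | h'
    · exact (Ideal.pow_le_pow_right (Nat.le_add_right k l)).trans (hk i (by omega))
    · obtain rfl : i = n + 1 := by omega
      exact (Ideal.pow_le_pow_right (Nat.le_add_left l k)).trans hl

variable [IsNoetherianRing R]

/-- Associated primes of a module without `I`-torsion do not contain `I`. -/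
theorem not_le_of_mem_associatedPrimes {I : Ideal R} {N : Type u} [AddCommGroup N] [Module R N]
    (hN : DRing.torsionSub I N = ⊥) {Q : Ideal R} (hQ : Q ∈ associatedPrimes R N) : ¬ I ≤ Q := by
  intro hIQ
  obtain ⟨hQp, x, hx⟩ := isAssociatedPrime_iff.1 hQ
  have hxmem : x ∈ DRing.torsionSub I N := ⟨1, fun a ha => by
    rw [pow_one] at ha
    have := hIQ ha
    rwa [hx, Submodule.mem_colon_singleton, Submodule.mem_bot] at this⟩
  rw [hN, Submodule.mem_bot] at hxmem
  refine hQp.ne_top ?_
  rw [hx, hxmem]
  simp

/-- A regular element in any power of the ideal, for a module without torsion. -/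
theorem exists_regular_mem_pow {I : Ideal R} {N : Type u} [AddCommGroup N] [Module R N]
    [Module.Finite R N] (hN : DRing.torsionSub I N = ⊥) (k : ℕ) :
    ∃ a ∈ I ^ k, IsSMulRegular N a := by
  by_contra hno
  push Not at hno
  have hsub : ((I ^ k : Ideal R) : Set R) ⊆ ⋃ Q ∈ associatedPrimes R N, (Q : Set R) :=
    fun a ha => by
      rw [biUnion_associatedPrimes_eq_compl_regular]
      exact hno a ha
  obtain ⟨Q, hQ, hle⟩ := ((I ^ k).subset_union_prime_finite (associatedPrimes.finite R N)
    (f := id) 0 0 fun _ h _ _ => h.isPrime).1 hsub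
  exact not_le_of_mem_associatedPrimes hN hQ (hQ.isPrime.le_of_pow_le (show I ^ k ≤ Q from hle))

/-- Dividing out the torsion in positive degrees. -/
noncomputable def HmkQEquiv (I : Ideal R) (i : ℕ) (M : Type u) [AddCommGroup M] [Module R M] :
    LocCoh.H I (i + 1) M ≃ₗ[R] LocCoh.H I (i + 1) (M ⧸ DRing.torsionSub I M) :=
  LinearEquiv.ofBijective _ (map_mkQ_torsion_bijective I i M)

/-- Faltings' lemma: bounded annihilators in degrees `≤ n` give finiteness. -/
theorem finite_H_of_annihilated (I : Ideal R) (n : ℕ) :
    ∀ (k : ℕ) (M : Type u) [AddCommGroup M] [Module R M] [Module.Finite R M],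
      (∀ i, i ≤ n → I ^ k ≤ Module.annihilator R (LocCoh.H I i M)) →
        ∀ i, i ≤ n → Module.Finite R (LocCoh.H I i M) := by
  induction n with
  | zero =>
    intro k M _ _ _ _ i hi
    obtain rfl : i = 0 := Nat.le_zero.1 hi
    exact Module.Finite.equiv (h0Equiv I M).symm
  | succ n ih =>
    intro k M _ _ _ h i hi
    rcases i with _ | j
    · exact Module.Finite.equiv (h0Equiv I M).symm
    set N := M ⧸ DRing.torsionSub I M
    have hN : DRing.torsionSub I N = ⊥ := torsionSub_quotient_eq_bot (IsNoetherian.noetherian I) M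
    obtain ⟨a, hak, hreg⟩ := exists_regular_mem_pow hN k
    have hkill : ∀ l, l ≤ n + 1 → ∀ c ∈ I ^ k, ∀ x : LocCoh.H I l N, c • x = 0 := by
      intro l hl c hc x
      rcases l with _ | l
      · refine (h0Equiv I N).injective ?_
        rw [map_zero]
        exact Subtype.ext (show ((h0Equiv I N (c • x) : DRing.torsionSub I N) : N) = 0 from
          (Submodule.mem_bot R).1 (hN.le (h0Equiv I N (c • x)).2))
      · obtain ⟨y, rfl⟩ := (HmkQEquiv I l M).surjective x
        rw [← map_smul, Module.mem_annihilator.1 (h (l + 1) hl hc) y, map_zero]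
    let f : N →ₗ[R] N := LinearMap.lsmul R N a
    have hS := seqCx_shortExact f (LinearMap.range f).mkQ (LinearMap.exact_map_mkQ_range f) hreg
      (Submodule.mkQ_surjective _)
    have hfin : Module.Finite R (LocCoh.H I j (N ⧸ LinearMap.range f)) := by
      refine ih (k + k) (N ⧸ LinearMap.range f) (fun l hl c hc => ?_) j (by omega)
      rw [Module.mem_annihilator]
      intro x
      rw [pow_add] at hc
      refine Submodule.mul_induction_on hc (fun c₁ hc₁ c₂ hc₂ => ?_) fun c₁ c₂ h₁ h₂ => ?_
      · rw [mul_smul]
        obtain ⟨y, hy⟩ := (exact₃ (I := I) hS l (c₂ • x)).1 (by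
          rw [map_smul]
          exact hkill (l + 1) (by omega) c₂ hc₂ _)
        rw [← hy, ← map_smul]
        exact (congrArg _ (hkill l (by omega) c₁ hc₁ y)).trans (map_zero _)
      · rw [add_smul, h₁, h₂, add_zero]
    suffices h' : Module.Finite R (LocCoh.H I (j + 1) N) from
      Module.Finite.equiv (HmkQEquiv I j M).symm
    refine Module.Finite.of_surjective (δ (I := I) hS j) fun x => (exact₁ (I := I) hS j x).1 ?_
    rw [show (seqCx f (LinearMap.range f).mkQ _).f = a • 𝟙 (ModuleCat.of R N) from
      ModuleCat.hom_ext rfl]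
    exact (smul_eq_map (I := I) (j + 1) (ModuleCat.of R N) a x).symm.trans
      (hkill (j + 1) hi a hak x)

/-- A torsion module with finite socle which is finite locally is finite. -/
theorem finite_of_locally_finite {T : Type u} [AddCommGroup T] [Module R T] (a : R)
    (htor : ∀ t : T, ∃ k : ℕ, a ^ k • t = 0) [Module.Finite R (LinearMap.ker (LinearMap.lsmul R T a))]
    (hloc : ∀ p : Ideal R, p.IsMaximal → ∃ F : Finset T, ∀ t : T, ∃ s ∉ p,
      s • t ∈ Submodule.span R (F : Set T)) : Module.Finite R T := by
  classical
  let K : ℕ → Submodule R T := fun k => LinearMap.ker (LinearMap.lsmul R T (a ^ k))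
  have hKmem : ∀ k (t : T), t ∈ K k ↔ a ^ k • t = 0 := fun k t => LinearMap.mem_ker
  have hKmono : Monotone K := monotone_nat_of_le_succ fun k t ht => by
    rw [hKmem] at ht ⊢
    rw [pow_succ', mul_smul, ht, smul_zero]
  have hKfg : ∀ k, (K k).FG := by
    intro k
    induction k with
    | zero =>
      have : K 0 = ⊥ := by
        ext t
        rw [hKmem, pow_zero, one_smul, Submodule.mem_bot]
      rw [this]
      exact Submodule.fg_bot
    | succ k ih =>
      refine Submodule.fg_of_fg_map_of_fg_inf_ker (LinearMap.lsmul R T a) ?_ ?_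
      · haveI : Module.Finite R (K k) := Module.Finite.iff_fg.2 ih
        haveI := isNoetherian_of_isNoetherianRing_of_finite R (K k)
        have hle : (K (k + 1)).map (LinearMap.lsmul R T a) ≤ K k := by
          rintro _ ⟨t, ht, rfl⟩
          rw [SetLike.mem_coe, hKmem] at ht
          rw [hKmem, LinearMap.lsmul_apply, ← mul_smul, ← pow_succ, ht]
        exact Module.Finite.iff_fg.1 (Module.Finite.equiv (Submodule.comapSubtypeEquivOfLe hle))
      · haveI := isNoetherian_of_isNoetherianRing_of_finite R (LinearMap.ker (LinearMap.lsmul R T a))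
        exact Module.Finite.iff_fg.1 (Module.Finite.equiv (Submodule.comapSubtypeEquivOfLe
          (inf_le_right : K (k + 1) ⊓ LinearMap.ker (LinearMap.lsmul R T a) ≤ _)))
  let J : ℕ →o Ideal R :=
    { toFun := fun k =>
        { carrier := {s | ∀ t ∈ K (k + 1), s • t ∈ K k}
          add_mem' := fun h1 h2 t ht => by rw [add_smul]; exact add_mem (h1 t ht) (h2 t ht)
          zero_mem' := fun t _ => by rw [zero_smul]; exact zero_mem _
          smul_mem' := fun c s hs t ht => by
            rw [smul_eq_mul, mul_smul]; exact Submodule.smul_mem _ c (hs t ht) }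
      monotone' := monotone_nat_of_le_succ fun k s hs t ht => by
        rw [hKmem] at ht ⊢
        have := (hKmem k _).1 (hs (a • t) ((hKmem _ _).2 (by rw [← mul_smul, ← pow_succ, ht])))
        rw [pow_succ, mul_smul, smul_comm a s t]
        exact this }
  obtain ⟨N, hN⟩ := monotone_stabilizes_iff_noetherian.2 (inferInstance : IsNoetherian R R) J
  by_cases htop : J N = ⊤
  · have hall : ∀ k, N ≤ k → K k ≤ K N := by
      intro k hk
      induction k, hk using Nat.le_induction with
      | base => exact le_rfl
      | succ k hk ih =>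
        intro t ht
        have h1 : (1 : R) ∈ J k := by rw [← hN k hk, htop]; trivial
        exact ih (by simpa using h1 t ht)
    refine ⟨?_⟩
    rw [show (⊤ : Submodule R T) = K N from (Submodule.eq_top_iff'.2 fun t => by
      obtain ⟨k, hk⟩ := htor t
      exact hall _ (Nat.le_add_left N k) (hKmono (Nat.le_add_right k N) ((hKmem k t).2 hk))).symm]
    exact hKfg N
  · exfalso
    obtain ⟨p, hp, hle⟩ := Ideal.exists_le_maximal (J N) htop
    obtain ⟨F, hF⟩ := hloc p hp
    choose k hk using htor
    set L := F.sup k + N
    have hspan : Submodule.span R (F : Set T) ≤ K L := Submodule.span_le.2 fun t ht =>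
      hKmono ((Finset.le_sup (Finset.mem_coe.1 ht)).trans (Nat.le_add_right _ _))
        ((hKmem _ t).2 (hk t))
    obtain ⟨s, hs⟩ := hKfg (L + 1)
    choose c hc hct using hF
    have hprod : (∏ t ∈ s, c t) ∈ J L := by
      intro t ht
      rw [← hs] at ht
      induction ht using Submodule.span_induction with
      | mem y hy =>
        rw [← Finset.prod_erase_mul s c (Finset.mem_coe.1 hy), mul_smul]
        exact Submodule.smul_mem _ _ (hspan (hct y))
      | zero => rw [smul_zero]; exact zero_mem _
      | add y z _ _ h1 h2 => rw [smul_add]; exact add_mem h1 h2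
      | smul b y _ h1 => rw [smul_comm]; exact Submodule.smul_mem _ b h1
    have hmem : (∏ t ∈ s, c t) ∈ p := hle (by rw [hN L (Nat.le_add_left N _)]; exact hprod)
    obtain ⟨t, -, ht⟩ := (hp.isPrime.prod_mem_iff).1 hmem
    exact hc t ht

/-- Clearing denominators in a finite localisation. -/
theorem exists_finset_of_finite_localized (p : Ideal R) [p.IsPrime] {T : Type u} [AddCommGroup T]
    [Module R T] [Module.Finite (Localization.AtPrime p) (LocalizedModule p.primeCompl T)] :
    ∃ F : Finset T, ∀ t : T, ∃ s ∉ p, s • t ∈ Submodule.span R (F : Set T) := by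
  classical
  obtain ⟨G, hG⟩ := Module.Finite.fg_top
    (R := Localization.AtPrime p) (M := LocalizedModule p.primeCompl T)
  choose num den hnd using fun z : LocalizedModule p.primeCompl T =>
    LocalizedModule.induction_on (β := fun z => ∃ (m : T) (s : p.primeCompl),
      LocalizedModule.mk m s = z) (fun m s => ⟨m, s, rfl⟩) z
  refine ⟨G.image num, fun t => ?_⟩
  set N := Submodule.span R ((G.image num : Finset T) : Set T)
  have h0 : ∀ z ∈ (⊤ : Submodule (Localization.AtPrime p) (LocalizedModule p.primeCompl T)),
      LocalizedModule.map p.primeCompl N.mkQ z = 0 := by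
    intro z hz
    rw [← hG] at hz
    induction hz using Submodule.span_induction with
    | mem y hy =>
      rw [← hnd y, LocalizedModule.map_mk, Submodule.mkQ_apply,
        (Submodule.Quotient.mk_eq_zero N).2 (Submodule.subset_span (Finset.mem_coe.2
          (Finset.mem_image_of_mem _ (Finset.mem_coe.1 hy)))), LocalizedModule.zero_mk]
    | zero => rw [map_zero]
    | add y z _ _ h1 h2 => rw [map_add, h1, h2, add_zero]
    | smul b y _ h1 => rw [map_smul, h1, smul_zero]
  have h1 := h0 (LocalizedModule.mk t 1) Submodule.mem_top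
  rw [LocalizedModule.map_mk, IsLocalizedModule.mk_eq_mk', IsLocalizedModule.mk'_eq_zero'] at h1
  obtain ⟨⟨s, hs⟩, hst⟩ := h1
  rw [Submonoid.smul_def, Submodule.mkQ_apply, ← Submodule.Quotient.mk_smul,
    Submodule.Quotient.mk_eq_zero] at hst
  exact ⟨s, hs, hst⟩

/-- Finiteness of local cohomology is local. -/
theorem finite_H_of_locally (I : Ideal R) (n : ℕ) :
    ∀ (M : Type u) [AddCommGroup M] [Module R M] [Module.Finite R M],
      (∀ (p : Ideal R) [p.IsPrime], ∀ i, i ≤ n → Module.Finite (Localization.AtPrime p)
        (LocalizedModule p.primeCompl (LocCoh.H I i M))) →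
      ∀ i, i ≤ n → Module.Finite R (LocCoh.H I i M) := by
  induction n with
  | zero =>
    intro M _ _ _ _ i hi
    obtain rfl : i = 0 := Nat.le_zero.1 hi
    exact Module.Finite.equiv (h0Equiv I M).symm
  | succ n ih =>
    intro M _ _ _ h i hi
    rcases i with _ | j
    · exact Module.Finite.equiv (h0Equiv I M).symm
    set N := M ⧸ DRing.torsionSub I M
    have hN : DRing.torsionSub I N = ⊥ := torsionSub_quotient_eq_bot (IsNoetherian.noetherian I) M
    obtain ⟨a, hak, hreg⟩ := exists_regular_mem_pow hN 1
    rw [pow_one] at hak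
    have hN' : ∀ (p : Ideal R) [p.IsPrime], ∀ l, l ≤ n + 1 → Module.Finite (Localization.AtPrime p)
        (LocalizedModule p.primeCompl (LocCoh.H I l N)) := by
      intro p _ l hl
      rcases l with _ | l
      · haveI : Module.Finite R (LocCoh.H I 0 N) := Module.Finite.equiv (h0Equiv I N).symm
        exact Module.Finite.of_isLocalizedModule p.primeCompl
          (LocalizedModule.mkLinearMap p.primeCompl _)
      · haveI := h p (l + 1) hl
        exact Module.Finite.of_surjective
          (LocalizedModule.map p.primeCompl (HmkQEquiv I l M).toLinearMap)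
          (LocalizedModule.map_surjective _ _ (HmkQEquiv I l M).surjective)
    let f : N →ₗ[R] N := LinearMap.lsmul R N a
    have hS := seqCx_shortExact f (LinearMap.range f).mkQ (LinearMap.exact_map_mkQ_range f) hreg
      (Submodule.mkQ_surjective _)
    have hfin : Module.Finite R (LocCoh.H I j (N ⧸ LinearMap.range f)) := by
      refine ih (N ⧸ LinearMap.range f) (fun p _ l hl => ?_) j (by omega)
      haveI := hN' p l (by omega)
      haveI := hN' p (l + 1) (by omega)
      exact finite_of_exact (f := LocalizedModule.map p.primeCompl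
          ((localCohomology I l).map (ModuleCat.ofHom (LinearMap.range f).mkQ)).hom)
        (g := LocalizedModule.map p.primeCompl (δ (I := I) hS l))
        (LocalizedModule.map_exact p.primeCompl _ _ (exact₃ (I := I) hS l))
    have hT : Module.Finite R (LinearMap.ker (LinearMap.lsmul R (LocCoh.H I (j + 1) N) a)) := by
      refine Module.Finite.of_surjective ((δ (I := I) hS j).codRestrict _ fun y => ?_) fun x => ?_
      · rw [LinearMap.mem_ker, LinearMap.lsmul_apply]
        refine (smul_eq_map (I := I) (j + 1) (ModuleCat.of R N) a _).trans ?_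
        rw [show a • 𝟙 (ModuleCat.of R N) = (seqCx f (LinearMap.range f).mkQ
          (LinearMap.exact_map_mkQ_range f)).f from (ModuleCat.hom_ext rfl)]
        exact (exact₁ (I := I) hS j).apply_apply_eq_zero y
      · obtain ⟨y, hy⟩ := (exact₁ (I := I) hS j x.1).1 (by
          rw [show (seqCx f (LinearMap.range f).mkQ _).f = a • 𝟙 (ModuleCat.of R N) from
            ModuleCat.hom_ext rfl]
          exact (smul_eq_map (I := I) (j + 1) (ModuleCat.of R N) a x.1).symm.trans
            (LinearMap.mem_ker.1 x.2))
        exact ⟨y, Subtype.ext hy⟩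
    suffices h' : Module.Finite R (LocCoh.H I (j + 1) N) from
      Module.Finite.equiv (HmkQEquiv I j M).symm
    refine finite_of_locally_finite a (fun t => ?_) fun p hp => ?_
    · obtain ⟨k, hk⟩ := exists_pow_smul_eq_zero (I := I) (j + 1) (ModuleCat.of R N) t
      exact ⟨k, hk _ (Ideal.pow_mem_pow hak k)⟩
    · haveI := hN' p (j + 1) hi
      exact exists_finset_of_finite_localized p

/-- A power of `f` on `M` factors through a finite free module when `M_f` is projective. -/
theorem exists_factor_free (M : Type u) [AddCommGroup M] [Module R M] [Module.Finite R M] (f : R)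
    (hM : Module.Projective (Localization.Away f) (LocalizedModule (Submonoid.powers f) M)) :
    ∃ (N r : ℕ) (ψ : M →ₗ[R] (Fin r → R)) (φ : (Fin r → R) →ₗ[R] M),
      ∀ x, φ (ψ x) = f ^ N • x := by
  obtain ⟨r, φ, hφ⟩ := Module.Finite.exists_fin' R M
  haveI := hM
  obtain ⟨σ, hσ⟩ := Module.projective_lifting_property (LocalizedModule.map (Submonoid.powers f) φ)
    LinearMap.id (LocalizedModule.map_surjective _ φ hφ)
  haveI : Module.FinitePresentation R M := Module.finitePresentation_of_finite R M
  obtain ⟨ψ, s, hψ⟩ := Module.FinitePresentation.exists_lift_of_isLocalizedModule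
    (Submonoid.powers f) (LocalizedModule.mkLinearMap (Submonoid.powers f) (Fin r → R))
    ((σ.restrictScalars R).comp (LocalizedModule.mkLinearMap (Submonoid.powers f) M))
  obtain ⟨m, hm⟩ := s.2
  have hdiff : ∀ x : M, ∃ k : ℕ, f ^ k • (φ (ψ x) - (s : R) • x) = 0 := by
    intro x
    have h1 : LocalizedModule.mk (φ (ψ x)) (1 : Submonoid.powers f) =
        LocalizedModule.mk ((s : R) • x) 1 := by
      rw [← LocalizedModule.map_mk,
        show LocalizedModule.mk (ψ x) (1 : Submonoid.powers f) =
          s • σ (LocalizedModule.mk x 1) from LinearMap.congr_fun hψ x,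
        Submonoid.smul_def, LinearMap.map_smul_of_tower]
      rw [show LocalizedModule.map (Submonoid.powers f) φ (σ (LocalizedModule.mk x 1)) =
        LocalizedModule.mk x 1 from LinearMap.congr_fun hσ _, LocalizedModule.smul'_mk]
    obtain ⟨⟨_, k, rfl⟩, hu⟩ := LocalizedModule.mk_eq.1 h1
    refine ⟨k, ?_⟩
    rw [one_smul, one_smul] at hu
    rw [smul_sub, sub_eq_zero]
    exact hu
  choose k hk using hdiff
  obtain ⟨G, hG⟩ := Module.Finite.fg_top (R := R) (M := M)
  refine ⟨G.sup k + m, r, f ^ (G.sup k) • ψ, φ, fun x => ?_⟩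
  have hx : x ∈ Submodule.span R (G : Set M) := hG.symm ▸ Submodule.mem_top
  rw [LinearMap.smul_apply, map_smul, pow_add, mul_smul]
  induction hx using Submodule.span_induction with
  | mem y hy =>
    obtain ⟨c, hc⟩ := Nat.exists_eq_add_of_le (Finset.le_sup (f := k) (Finset.mem_coe.1 hy))
    rw [show f ^ m = (s : R) from hm, ← sub_eq_zero, ← smul_sub, hc, add_comm, pow_add, mul_smul,
      hk, smul_zero]
  | zero => simp
  | add y z _ _ h1 h2 => simp only [map_add, smul_add, h1, h2]
  | smul b y _ h1 => rw [map_smul, map_smul, smul_comm (f ^ G.sup k) b, h1]; module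

/-- Annihilators of `H^i_I(R)` are inherited, up to powers, by modules projective away from `I`. -/
theorem exists_pow_le_annihilator_H_of_projective (J I : Ideal R) (hJI : J ≤ I) (i n : ℕ)
    (hR : J ^ n ≤ Module.annihilator R (LocCoh.H I i R)) (M : Type u) [AddCommGroup M] [Module R M]
    [Module.Finite R M]
    (hM : ∀ f ∈ I, Module.Projective (Localization.Away f) (LocalizedModule (Submonoid.powers f) M)) :
    ∃ m, J ^ m ≤ Module.annihilator R (LocCoh.H I i M) := by
  classical
  refine Ideal.exists_pow_le_of_le_radical_of_fg ?_ (IsNoetherian.noetherian J)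
  intro f hf
  obtain ⟨N, r, ψ, φ, hφψ⟩ := exists_factor_free M f (hM f (hJI hf))
  refine ⟨n + N, Module.mem_annihilator.2 fun x => ?_⟩
  rw [pow_add, mul_smul]
  set a := f ^ n
  have ha : ∀ y : LocCoh.H I i R, a • y = 0 :=
    Module.mem_annihilator.1 (hR (Ideal.pow_mem_pow hf n))
  let g : Fin r → (ModuleCat.of R (Fin r → R) ⟶ ModuleCat.of R (Fin r → R)) := fun c =>
    ModuleCat.ofHom (LinearMap.proj c) ≫ ModuleCat.ofHom (LinearMap.single R (fun _ => R) c)
  have hsum : ∑ c, g c = 𝟙 (ModuleCat.of R (Fin r → R)) := by
    ext v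
    simp [g, ModuleCat.hom_sum, Finset.sum_apply, LinearMap.sum_apply, Pi.single_apply]
  have hfree : ∀ y : LocCoh.H I i (Fin r → R), a • y = 0 := by
    intro y
    have key : ∀ S : Finset (Fin r),
        a • ((localCohomology I i).map (∑ c ∈ S, g c)).hom y = 0 := by
      intro S
      induction S using Finset.induction_on with
      | empty => rw [Finset.sum_empty, Groth.LocCohTransform.map_zero', smul_zero]
      | insert c S hc ihS =>
        rw [Finset.sum_insert hc, Groth.LocCohTransform.map_add', smul_add, ihS, add_zero,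
          Groth.LocCohTransform.map_comp', ← map_smul]
        exact (congrArg _ (ha _)).trans (map_zero _)
    have := key Finset.univ
    rwa [hsum, Groth.LocCohTransform.map_id'] at this
  have h1 : f ^ N • x = ((localCohomology I i).map (ModuleCat.ofHom φ)).hom
      (((localCohomology I i).map (ModuleCat.ofHom ψ)).hom x) := by
    rw [← Groth.LocCohTransform.map_comp', smul_eq_map (I := I) i (ModuleCat.of R M) (f ^ N) x]
    refine congrFun (congrArg (fun h => (((localCohomology I i).map h).hom : _ → _)) ?_) x
    exact ModuleCat.hom_ext (LinearMap.ext fun y => (hφψ y).symm)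
  rw [h1, ← map_smul]
  exact (congrArg _ (hfree _)).trans (map_zero _)

end Groth.LocFinite
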