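import Groth.Agent.LocCohBase.Torsion
import Groth.Agent.LocCohBase.Comparison
import Groth.Agent.LocCohTransform.HMap
import Groth.Agent.Gorenstein.InjDim
import Mathlib.Algebra.Module.Injective
import Mathlib.Algebra.Module.Projective

/-!
Elementary hyper-Hom: cocycles of degree one between a bounded complex of finite projective modules
and a complex of injective modules, and the surjection onto local cohomology.
-/

set_option autoImplicit false
universe u

open CategoryTheory Groth.LocCohBase GrothGoren

namespace Groth.LocFinite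

/-- A cochain complex in natural degrees. -/
structure Cx (R : Type u) [CommRing R] where
  X : ℕ → ModuleCat.{u} R
  d : ∀ n, X n →ₗ[R] X (n + 1)
  d_comp : ∀ n (x : X n), d (n + 1) (d n x) = 0

variable {R : Type u} [CommRing R]

namespace Cx

/-- Shift by one, changing the sign of the differential. -/
def shift (C : Cx R) : Cx R where
  X n := C.X (n + 1)
  d n := -(C.d (n + 1))
  d_comp n x := by simp [C.d_comp]

/-- Iterated shift. -/
def shiftN : ℕ → Cx R → Cx R
  | 0, C => C
  | m + 1, C => shiftN m C.shift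

/-- Forget degree zero. -/
abbrev tail (C : Cx R) : Cx R where
  X n := C.X (n + 1)
  d n := C.d (n + 1)
  d_comp n x := C.d_comp (n + 1) x

/-- The torsion subcomplex. -/
noncomputable def tors (I : Ideal R) (C : Cx R) : Cx R where
  X n := ModuleCat.of R (DRing.torsionSub I (C.X n))
  d n := (C.d n).restrict (fun _ hx => DRing.map_mem_torsionSub I (C.d n) hx)
  d_comp n x := Subtype.ext (C.d_comp n _)

/-- All terms are injective modules. -/
def Inj (C : Cx R) : Prop := ∀ n, Module.Injective R (C.X n)

/-- Exact in positive degrees. -/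
def Exact (C : Cx R) : Prop := ∀ n (x : C.X (n + 1)), C.d (n + 1) x = 0 → ∃ y, C.d n y = x

/-- All terms are finite modules. -/
def Fin (D : Cx R) : Prop := ∀ n, Module.Finite R (D.X n)

/-- All terms are projective modules. -/
def Proj (D : Cx R) : Prop := ∀ n, Module.Projective R (D.X n)

/-- Zero from degree `len` on. -/
def Bdd (D : Cx R) (len : ℕ) : Prop := ∀ n, len ≤ n → Subsingleton (D.X n)

lemma Inj.shift {C : Cx R} (h : C.Inj) : C.shift.Inj := fun n => h (n + 1)

lemma Inj.shiftN {C : Cx R} (h : C.Inj) : ∀ m, (C.shiftN m).Inj := by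
  intro m
  induction m generalizing C with
  | zero => exact h
  | succ m ih => exact ih h.shift

lemma Inj.tail {C : Cx R} (h : C.Inj) : C.tail.Inj := fun n => h (n + 1)

lemma Inj.tors [IsNoetherianRing R] (I : Ideal R) {C : Cx R} (h : C.Inj) : (C.tors I).Inj :=
  fun n => by
    haveI := h n
    exact injective_torsionSub I (C.X n)

lemma Exact.shift {C : Cx R} (h : C.Exact) : C.shift.Exact := fun n x hx => by
  obtain ⟨y, hy⟩ := h (n + 1) x (neg_eq_zero.1 (show -(C.d (n + 1 + 1) x) = 0 from hx))
  refine ⟨-y, ?_⟩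
  show -(C.d (n + 1) (-y)) = x
  rw [map_neg, neg_neg, hy]

end Cx

variable (C D : Cx R)

/-- Degree zero cochains. -/
abbrev W : Type u := ∀ j, D.X j →ₗ[R] C.X j

/-- Degree one cochains. -/
abbrev V : Type u := ∀ j, D.X j →ₗ[R] C.X (j + 1)

/-- Degree one cocycles. -/
def cy : Submodule R (V C D) where
  carrier := {φ | ∀ j (x : D.X j), C.d (j + 1) (φ j x) = φ (j + 1) (D.d j x)}
  add_mem' := fun {φ ψ} h h' j x => by simp [h j x, h' j x]
  zero_mem' := fun j x => by simp
  smul_mem' := fun c φ h j x => by simp [h j x]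

lemma mem_cy {φ : V C D} :
    φ ∈ cy C D ↔ ∀ j (x : D.X j), C.d (j + 1) (φ j x) = φ (j + 1) (D.d j x) := Iff.rfl

/-- The coboundary. -/
def bd : W C D →ₗ[R] cy C D where
  toFun h := ⟨fun j => C.d j ∘ₗ h j + h (j + 1) ∘ₗ D.d j, fun j x => by
    simp [C.d_comp, D.d_comp]⟩
  map_add' h h' := Subtype.ext (funext fun j => by ext x; simp; abel)
  map_smul' c h := Subtype.ext (funext fun j => by ext x; simp [smul_add])

lemma bd_apply (h : W C D) (j : ℕ) (x : D.X j) :
    (bd C D h : V C D) j x = C.d j (h j x) + h (j + 1) (D.d j x) := rfl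

/-- Degree zero cocycles. -/
def K : Submodule R (W C D) := LinearMap.ker (bd C D)

lemma mem_K {h : W C D} :
    h ∈ K C D ↔ ∀ j (x : D.X j), C.d j (h j x) + h (j + 1) (D.d j x) = 0 := by
  refine ⟨fun hh j x => ?_, fun hh => Subtype.ext (funext fun j => LinearMap.ext fun x => hh j x)⟩
  exact LinearMap.congr_fun (congrFun (congrArg Subtype.val hh) j) x

/-- Cocycles in degree one are the degree zero cocycles of the shift. -/
def cyEquivK : cy C D ≃ₗ[R] K C.shift D where
  toFun φ := ⟨φ.1, (mem_K C.shift D).2 fun j x => by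
    show -(C.d (j + 1) (φ.1 j x)) + φ.1 (j + 1) (D.d j x) = (0 : C.X (j + 1 + 1))
    rw [(mem_cy C D).1 φ.2 j x]
    exact neg_add_cancel _⟩
  invFun h := ⟨h.1, (mem_cy C D).2 fun j x => by
    have := (mem_K C.shift D).1 h.2 j x
    let φ : V C D := h.1
    have h2 : -(C.d (j + 1) (φ j x)) + φ (j + 1) (D.d j x) = 0 := this
    exact neg_add_eq_zero.1 h2⟩
  map_add' _ _ := rfl
  map_smul' _ _ := rfl
  left_inv _ := rfl
  right_inv _ := rfl

lemma injective_hom {P E : Type u} [AddCommGroup P] [Module R P] [Module.Finite R P]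
    [Module.Projective R P] [AddCommGroup E] [Module R E] (hE : Module.Injective R E) :
    Module.Injective R (P →ₗ[R] E) := by
  obtain ⟨n, g, hg⟩ := Module.Finite.exists_fin' R P
  obtain ⟨s, hs⟩ := Module.projective_lifting_property g LinearMap.id hg
  have hpi : Module.Injective R ((Fin n → R) →ₗ[R] E) :=
    GrothMatlis.injective_of_equiv (inferInstance : Module.Injective R (Fin n → E))
      ((LinearMap.lsum R (fun _ : Fin n => R) R).symm.trans
        (LinearEquiv.piCongrRight fun _ => LinearMap.ringLmapEquivSelf R R E))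
  refine GrothMatlis.injective_of_retraction hpi (LinearMap.lcomp R E g) (LinearMap.lcomp R E s) ?_
  refine LinearMap.ext fun φ => LinearMap.ext fun p => ?_
  exact congrArg φ (LinearMap.congr_fun hs p)

lemma injective_W {C D : Cx R} (hC : C.Inj) (hD : D.Fin) (hP : D.Proj) :
    Module.Injective R (W C D) := by
  haveI : ∀ j, Module.Injective R (D.X j →ₗ[R] C.X j) := fun j => by
    haveI := hD j
    haveI := hP j
    exact injective_hom (hC j)
  infer_instance

/-- In an exact complex every cocycle is a coboundary. -/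
theorem bd_surjective {C D : Cx R} (hC : C.Exact) (hP : D.Proj) {len : ℕ} (hlen : D.Bdd len) :
    Function.Surjective (bd C D) := by
  classical
  intro φ
  suffices key : ∀ k, ∃ h : W C D, ∀ j, len ≤ j + k → (φ.1 j) = (bd C D h).1 j by
    obtain ⟨h, hh⟩ := key len
    exact ⟨h, Subtype.ext (funext fun j => (hh j (Nat.le_add_left len j)).symm)⟩
  intro k
  induction k with
  | zero =>
    refine ⟨0, fun j hj => ?_⟩
    haveI := hlen j hj
    exact Subsingleton.elim _ _
  | succ k ih =>
    obtain ⟨h, hh⟩ := ih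
    rcases Nat.lt_or_ge k len with hk | hk
    · -- correct in degree `j₀ = len - k - 1`
      set j₀ := len - (k + 1) with hj₀
      set ψ : cy C D := φ - bd C D h with hψ
      have hz : ψ.1 (j₀ + 1) = 0 := by
        show φ.1 (j₀ + 1) - (bd C D h).1 (j₀ + 1) = 0
        rw [hh (j₀ + 1) (by omega), sub_self]
      have hd : ∀ x, C.d (j₀ + 1) (ψ.1 j₀ x) = 0 := fun x => by
        rw [(mem_cy C D).1 ψ.2 j₀ x, hz, LinearMap.zero_apply]
      haveI := hP j₀
      obtain ⟨g, hg⟩ := Module.projective_lifting_property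
        ((C.d j₀).rangeRestrict) ((ψ.1 j₀).codRestrict _ fun x => hC j₀ _ (hd x))
        (LinearMap.surjective_rangeRestrict _)
      refine ⟨h + Pi.single j₀ g, fun j hj => ?_⟩
      refine LinearMap.ext fun x => ?_
      rw [map_add]
      show φ.1 j x = (bd C D h).1 j x + (bd C D (Pi.single j₀ g)).1 j x
      rw [bd_apply C D (Pi.single j₀ g), Pi.single_eq_of_ne (i := j₀) (i' := j + 1) (by omega),
        LinearMap.zero_apply, add_zero]
      rcases eq_or_ne j j₀ with he | hne
      · subst he
        rw [Pi.single_eq_same]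
        have := congrArg Subtype.val (LinearMap.congr_fun hg x)
        rw [show C.d j₀ (g x) = ψ.1 j₀ x from this]
        show φ.1 j₀ x = (bd C D h).1 j₀ x + (φ.1 j₀ x - (bd C D h).1 j₀ x)
        abel
      · rw [Pi.single_eq_of_ne hne, LinearMap.zero_apply, map_zero, add_zero,
          hh j (by omega)]
    · exact ⟨h, fun j hj => hh j (by omega)⟩

section Torsion

variable {C D} (I : Ideal R)

/-- Cocycles with torsion values are torsion cocycles. -/
noncomputable def torsIncl : cy (C.tors I) D →ₗ[R] cy C D where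
  toFun φ := ⟨fun j => (DRing.torsionSub I (C.X (j + 1))).subtype ∘ₗ φ.1 j, fun j x =>
    congrArg Subtype.val ((mem_cy _ D).1 φ.2 j x)⟩
  map_add' _ _ := rfl
  map_smul' _ _ := rfl

lemma exists_pow_killing {M E : Type u} [AddCommGroup M] [Module R M] [Module.Finite R M]
    [AddCommGroup E] [Module R E] (f : M →ₗ[R] E) (hf : ∀ x, f x ∈ DRing.torsionSub I E) :
    ∃ n, ∀ a ∈ I ^ n, a • f = 0 := by
  obtain ⟨s, hs⟩ := Module.Finite.fg_top (R := R) (M := M)
  choose k hk using fun x : M => hf x
  refine ⟨s.sup k, fun a ha => LinearMap.ext fun x => ?_⟩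
  have hx : x ∈ Submodule.span R (s : Set M) := hs.symm ▸ Submodule.mem_top
  induction hx using Submodule.span_induction with
  | mem y hy => exact hk y a (Ideal.pow_le_pow_right (Finset.le_sup hy) ha)
  | zero => simp
  | add y z _ _ hy hz => simp_all
  | smul c y _ hy => simp_all

lemma torsIncl_mem (hD : D.Fin) {len : ℕ} (hlen : D.Bdd len) (φ : cy (C.tors I) D) :
    torsIncl I φ ∈ DRing.torsionSub I (cy C D) := by
  choose n hn using fun j => @exists_pow_killing R _ I (D.X j) (C.X (j + 1)) _ _ (hD j) _ _
    ((torsIncl I φ).1 j) fun x => (φ.1 j x).2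
  refine ⟨(Finset.range len).sup n, fun a ha => Subtype.ext (funext fun j => ?_)⟩
  rcases Nat.lt_or_ge j len with hj | hj
  · exact hn j a (Ideal.pow_le_pow_right (Finset.le_sup (Finset.mem_range.2 hj)) ha)
  · haveI := hlen j hj
    exact Subsingleton.elim _ _

lemma mem_range_torsIncl {φ : cy C D} (h : φ ∈ DRing.torsionSub I (cy C D)) :
    φ ∈ LinearMap.range (torsIncl (C := C) (D := D) I) := by
  obtain ⟨n, hn⟩ := h
  have hmem : ∀ j x, φ.1 j x ∈ DRing.torsionSub I (C.X (j + 1)) := fun j x =>
    ⟨n, fun a ha => LinearMap.congr_fun (congrFun (congrArg Subtype.val (hn a ha)) j) x⟩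
  exact ⟨⟨fun j => (φ.1 j).codRestrict _ (hmem j),
    fun j x => Subtype.ext ((mem_cy C D).1 φ.2 j x)⟩, rfl⟩

end Torsion

variable [IsNoetherianRing R] (I : Ideal R)

/-- Torsion cocycles of the `m`-th shift surject onto `H^(m+1)_I` of the degree zero cocycles. -/
theorem exists_surjection {D : Cx R} (hD : D.Fin) (hP : D.Proj) {len : ℕ} (hlen : D.Bdd len) :
    ∀ (m : ℕ) (C : Cx R), C.Inj → C.Exact →
      ∃ L : cy ((C.shiftN m).tors I) D →ₗ[R] LocCoh.H I (m + 1) (K C D),
        Function.Surjective L ∧ ∀ h, L (bd _ D h) = 0 := by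
  intro m
  induction m with
  | zero =>
    intro C hC hex
    haveI := injective_W hC hD hP
    have hS := seqCx_shortExact (K C D).subtype (bd C D) (LinearMap.exact_subtype_ker_map _)
      (Submodule.injective_subtype _) (bd_surjective hex hP hlen)
    let T : cy (C.tors I) D →ₗ[R] DRing.torsionSub I (cy C D) :=
      (torsIncl I).codRestrict _ (torsIncl_mem I hD hlen)
    let L : cy (C.tors I) D →ₗ[R] LocCoh.H I 1 (K C D) :=
      (δ hS 0) ∘ₗ (h0Equiv I (cy C D)).symm.toLinearMap ∘ₗ T
    refine ⟨L, fun y => ?_, fun h => ?_⟩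
    · haveI : Subsingleton (HH' I 1 (ModuleCat.of R (W C D))) := by
        haveI := Module.injective_object_of_injective_module R (W C D)
        exact subsingleton_succ_of_injective 0 _
      obtain ⟨z, rfl⟩ := (exact₁ hS 0 y).1 (Subsingleton.elim _ _)
      obtain ⟨φ, hφ⟩ := mem_range_torsIncl I ((h0Equiv I (cy C D)) z).2
      refine ⟨φ, ?_⟩
      show δ hS 0 ((h0Equiv I (cy C D)).symm (T φ)) = _
      rw [show T φ = h0Equiv I (cy C D) z from Subtype.ext hφ, LinearEquiv.symm_apply_apply]
    · let h' : W C D := fun j => (DRing.torsionSub I (C.X j)).subtype ∘ₗ h j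
      have hh' : h' ∈ DRing.torsionSub I (W C D) := by
        choose n hn using fun j => @exists_pow_killing R _ I (D.X j) (C.X j) _ _ (hD j) _ _
          (h' j) fun x => (h j x).2
        refine ⟨(Finset.range len).sup n, fun a ha => funext fun j => ?_⟩
        rcases Nat.lt_or_ge j len with hj | hj
        · exact hn j a (Ideal.pow_le_pow_right (Finset.le_sup (Finset.mem_range.2 hj)) ha)
        · haveI := hlen j hj
          exact Subsingleton.elim _ _
      have heq : (T (bd (C.tors I) D h) : cy C D) = bd C D h' := rfl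
      obtain ⟨x, hx⟩ := exists_h0Map_eq I (ModuleCat.of R (W C D)) hh'
      have hgx : (h0Equiv I (cy C D)).symm (T (bd (C.tors I) D h)) =
          (localCohomology I 0).map (seqCx (K C D).subtype (bd C D)
            (LinearMap.exact_subtype_ker_map _)).g x := by
        rw [LinearEquiv.symm_apply_eq]
        refine Subtype.ext (heq.trans ?_)
        refine Eq.trans ?_ (h0Map_natural I (ModuleCat.ofHom (bd C D)) x).symm
        exact congrArg (bd C D) hx.symm
      show δ hS 0 _ = 0
      exact (congrArg _ hgx).trans ((exact₃ hS 0).apply_apply_eq_zero x)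
  | succ m ih =>
    intro C hC hex
    obtain ⟨L', hsurj, hbd⟩ := ih C.shift hC.shift hex.shift
    haveI := injective_W hC hD hP
    have hS := seqCx_shortExact (K C D).subtype (bd C D) (LinearMap.exact_subtype_ker_map _)
      (Submodule.injective_subtype _) (bd_surjective hex hP hlen)
    let e := ((localCohomology I (m + 1)).mapIso (cyEquivK C D).symm.toModuleIso).toLinearEquiv
    let dl : LocCoh.H I (m + 1) (cy C D) →ₗ[R] LocCoh.H I (m + 1 + 1) (K C D) := δ hS (m + 1)
    refine ⟨dl ∘ₗ e.toLinearMap ∘ₗ L', fun y => ?_, fun h => ?_⟩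
    · haveI : Subsingleton (HH' I (m + 1 + 1) (ModuleCat.of R (W C D))) := by
        haveI := Module.injective_object_of_injective_module R (W C D)
        exact subsingleton_succ_of_injective (m + 1) _
      obtain ⟨z, rfl⟩ := (exact₁ hS (m + 1) y).1 (Subsingleton.elim _ _)
      obtain ⟨w, hw⟩ := hsurj (e.symm z)
      exact ⟨w, congrArg dl ((congrArg e hw).trans (e.apply_symm_apply z))⟩
    · show dl (e (L' (bd _ D h))) = 0
      rw [show L' (bd ((C.shift.shiftN m).tors I) D h) = 0 from hbd h, map_zero, map_zero]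

end Groth.LocFinite
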