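import Groth.Agent.LocFinite.TFun
import Groth.Agent.LocDual.Criterion
import Groth.Agent.LocCohBase.Nonvanishing
import Groth.Agent.Gorenstein.Regular
import Groth.Agent.LocCohBase.ExtVanish

/-!
Vanishing of `T` when the heights over the support avoid the degree.
-/

set_option autoImplicit false
universe u

open CategoryTheory IsLocalRing GrothGoren Groth.LocDual Groth.LocCohBase

namespace Groth.LocFinite

/-- Noetherian spectra satisfy the ascending chain condition on primes. -/
theorem wellFoundedGT_primeSpectrum (R : Type u) [CommRing R] [IsNoetherianRing R] :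
    WellFoundedGT (PrimeSpectrum R) :=
  ⟨(InvImage.wf PrimeSpectrum.asIdeal (IsWellFounded.wf : WellFounded fun I J : Ideal R => J < I)
    :)⟩

/-- Height `≠ t` throughout the support implies `Ext^t` vanishes, local case. -/
theorem extZ_of_height_ne_local {S : Type u} [CommRing S] [IsLocalRing S] [IsNoetherianRing S]
    (hS : ∃ n, InjLT S S n) (X : Type u) [AddCommGroup X] [Module S X] [Module.Finite S X] (t : ℕ)
    (h : ∀ p : PrimeSpectrum S, Module.annihilator S X ≤ p.asIdeal → p.asIdeal.height ≠ t) :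
    ExtZ S X S t := by
  obtain ⟨r, hr, hr1, -, -⟩ := exists_dim S hS
  rcases Nat.lt_or_ge r t with hrt | hrt
  · exact hr1.extZ X (by omega)
  obtain ⟨j, hj⟩ : ∃ j, r = t + j := ⟨r - t, by omega⟩
  obtain ⟨E, _, _, f, hf⟩ := GrothMatlis.exists_hull S (ResidueField S)
  obtain ⟨D⟩ := nonempty_duality_of_hull hS hr hf X (i := j) (j := t) (by omega)
  refine (subsingleton_dual_iff hf _).1 (D.toEquiv.subsingleton_congr.1 ?_)
  refine subsingleton_H_of_supportDim_lt (maximalIdeal S) X (i := j) ?_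
  by_contra hge
  rw [not_lt, Module.supportDim_eq_ringKrullDim_quotient_annihilator, ringKrullDim_quotient] at hge
  obtain ⟨l, hl⟩ := (Order.le_krullDim_iff (n := j)).1 hge
  set w₀ : PrimeSpectrum S := l.head.1
  have hw₀ : Module.annihilator S X ≤ w₀.asIdeal :=
    SetLike.coe_subset_coe.1 ((PrimeSpectrum.mem_zeroLocus _ _).1 l.head.2)
  have hco : (j : ℕ∞) ≤ Order.coheight w₀ := by
    rw [← hl]
    exact Order.length_le_coheight (p := l.map Subtype.val fun _ _ h => h) le_rfl
  have hne : ({w : PrimeSpectrum S | w₀ ≤ w ∧ (j : ℕ∞) ≤ Order.coheight w}).Nonempty :=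
    ⟨w₀, le_rfl, hco⟩
  haveI := wellFoundedGT_primeSpectrum S
  obtain ⟨w, ⟨hw, hwj⟩, hmax⟩ := WellFounded.has_min
    (r := fun a b : PrimeSpectrum S => b < a) IsWellFounded.wf _ hne
  have hwle : Order.coheight w ≤ j := Order.coheight_le_coe_iff.2 fun y hy => by
    rw [← not_le]
    exact fun hge' => hmax y ⟨hw.trans hy.le, hge'⟩ hy
  have hwe : Order.coheight w = j := le_antisymm hwle hwj
  obtain ⟨ht, e, hte, hht, he⟩ := exists_dim_split (isCohenMacaulay S hS) hr w.asIdeal
  rw [show ringKrullDim (S ⧸ w.asIdeal) = _ from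
    Groth.Ega4Algebra1.ringKrullDim_quotient_eq_coheight S w, hwe] at he
  have hej : j = e := by exact_mod_cast he
  rw [IsLocalization.AtPrime.ringKrullDim_eq_height w.asIdeal] at hht
  refine h w (hw₀.trans hw) ?_
  rw [show t = ht by omega]
  exact_mod_cast hht

variable {R : Type u} [CommRing R] [IsNoetherianRing R]

/-- Height `≠ t` throughout the support implies `Ext^t` vanishes. -/
theorem subsingleton_ext_of_height_ne
    (hR : ∀ (P : Ideal R) [P.IsPrime],
      ∃ n, InjLT (Localization.AtPrime P) (Localization.AtPrime P) n)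
    (N : Type u) [AddCommGroup N] [Module R N] [Module.Finite R N] (t : ℕ)
    (h : ∀ Q : PrimeSpectrum R, Module.annihilator R N ≤ Q.asIdeal → Q.asIdeal.height ≠ t) :
    Subsingleton (Abelian.Ext (ModuleCat.of R N) (ModuleCat.of R R) t) := by
  haveI : Module.Finite R (Abelian.Ext (ModuleCat.of R N) (ModuleCat.of R R) t) :=
    ModuleCat.finite_ext R (ModuleCat.of R N) (ModuleCat.of R R) t
  rw [← Module.support_eq_empty_iff (R := R)]
  refine Set.eq_empty_of_forall_notMem fun Q hQ => ?_
  rw [Module.mem_support_iff] at hQ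
  refine not_subsingleton_iff_nontrivial.2 hQ ?_
  rw [subsingleton_localized_ext_iff Q.asIdeal]
  haveI : Module.Finite (Localization.AtPrime Q.asIdeal)
      (LocalizedModule Q.asIdeal.primeCompl N) :=
    Module.Finite.of_isLocalizedModule Q.asIdeal.primeCompl
      (LocalizedModule.mkLinearMap Q.asIdeal.primeCompl N)
  refine extZ_of_height_ne_local (hR Q.asIdeal) _ t fun p hp => ?_
  have hann : Module.annihilator R N ≤
      p.asIdeal.comap (algebraMap R (Localization.AtPrime Q.asIdeal)) := fun a ha =>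
    hp (Module.mem_annihilator.2 fun x => by
      induction x using LocalizedModule.induction_on with
      | h n s =>
        rw [algebraMap_smul, LocalizedModule.smul'_mk, Module.mem_annihilator.1 ha n,
          LocalizedModule.zero_mk])
  have := h ⟨_, Ideal.comap_isPrime (algebraMap R (Localization.AtPrime Q.asIdeal)) p.asIdeal⟩ hann
  rw [← IsLocalization.height_under Q.asIdeal.primeCompl p.asIdeal]
  exact this

/-- A cover avoiding a given element. -/
theorem exists_covBy_notMem {P Q : PrimeSpectrum R} (hPQ : P ≤ Q) {a : R} (haQ : a ∈ Q.asIdeal)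
    (haP : a ∉ P.asIdeal) : ∃ P' : PrimeSpectrum R, P ≤ P' ∧ a ∉ P'.asIdeal ∧ P' ⋖ Q := by
  haveI := wellFoundedGT_primeSpectrum R
  obtain ⟨P', ⟨hP', hP'Q, haP'⟩, hmax⟩ := WellFounded.has_min
    (r := fun x y : PrimeSpectrum R => y < x) IsWellFounded.wf
    {x : PrimeSpectrum R | P ≤ x ∧ x < Q ∧ a ∉ x.asIdeal}
    ⟨P, le_rfl, lt_of_le_of_ne hPQ (fun h => haP (h ▸ haQ)), haP⟩
  refine ⟨P', hP', haP', hP'Q, fun P'' h1 h2 => ?_⟩
  set J := P'.asIdeal ⊔ Ideal.span {a}
  set W := {V : Ideal R | V ∈ J.minimalPrimes ∧ V ≤ Q.asIdeal}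
  have hWfin : W.Finite := J.finite_minimalPrimes_of_isNoetherianRing.subset fun V hV => hV.1
  have hQJ : J ≤ Q.asIdeal := sup_le hP'Q.le ((Ideal.span_singleton_le_iff_mem _).2 haQ)
  obtain ⟨x, hxQ, hxW⟩ : ∃ x ∈ Q.asIdeal, ∀ V ∈ W, x ∉ V := by
    by_contra hcon
    push Not at hcon
    have hsub : (Q.asIdeal : Set R) ⊆ ⋃ V ∈ hWfin.toFinset, ((V : Ideal R) : Set R) := fun y hy => by
      obtain ⟨V, hV, hyV⟩ := hcon y hy
      exact Set.mem_iUnion₂.2 ⟨V, hWfin.mem_toFinset.2 hV, hyV⟩
    obtain ⟨V, hV, hle⟩ := (Ideal.subset_union_prime Q.asIdeal Q.asIdeal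
      fun V hV _ _ => (hWfin.mem_toFinset.1 hV).1.1.1).1 hsub
    obtain ⟨hVm, hVQ⟩ := hWfin.mem_toFinset.1 hV
    have hcov := Groth.Ega4Algebra1.covBy_of_mem_minimalPrimes R haP'
      (P := ⟨V, hVm.1.1⟩) hVm
    have : (⟨V, hVm.1.1⟩ : PrimeSpectrum R) = Q := PrimeSpectrum.ext (le_antisymm hVQ hle)
    exact (this ▸ hcov).2 h1 h2
  have hxP' : x ∉ P'.asIdeal := fun hx => by
    obtain ⟨V, hV, hVQ⟩ := Ideal.exists_minimalPrimes_le hQJ
    exact hxW V ⟨hV, hVQ⟩ (hV.1.2 (Ideal.mem_sup_left hx))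
  obtain ⟨V', hV', hV'Q⟩ := Ideal.exists_minimalPrimes_le
    (sup_le hP'Q.le ((Ideal.span_singleton_le_iff_mem _).2 hxQ) :
      P'.asIdeal ⊔ Ideal.span {x} ≤ Q.asIdeal)
  have hcov' := Groth.Ega4Algebra1.covBy_of_mem_minimalPrimes R hxP'
    (P := ⟨V', hV'.1.1⟩) hV'
  rcases (show (⟨V', hV'.1.1⟩ : PrimeSpectrum R) ≤ Q from hV'Q).eq_or_lt with heq | hlt
  · exact (heq ▸ hcov').2 h1 h2
  · have haV : a ∈ V' := by
      by_contra haV
      exact hmax ⟨V', hV'.1.1⟩ ⟨hP'.trans hcov'.lt.le, hlt, haV⟩ hcov'.lt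
    haveI := hV'.1.1
    obtain ⟨V, hV, hVV'⟩ := Ideal.exists_minimalPrimes_le
      (sup_le hcov'.lt.le ((Ideal.span_singleton_le_iff_mem _).2 haV) : J ≤ V')
    have hcov := Groth.Ega4Algebra1.covBy_of_mem_minimalPrimes R haP' (P := ⟨V, hV.1.1⟩) hV
    have hVeq : V = V' := by
      rcases (show (⟨V, hV.1.1⟩ : PrimeSpectrum R) ≤ ⟨V', hV'.1.1⟩ from hVV').eq_or_lt with e | e
      · exact congrArg PrimeSpectrum.asIdeal e
      · exact (hcov'.2 hcov.lt e).elim
    exact hxW V ⟨hV, hVeq ▸ hV'Q⟩ (hVeq ▸ hV'.1.2 (Ideal.mem_sup_right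
      (Ideal.mem_span_singleton_self x)))

/-- The vanishing of `T` in degree `s + 1`. -/
theorem subsingleton_T
    (hR : ∀ (P : Ideal R) [P.IsPrime],
      ∃ n, InjLT (Localization.AtPrime P) (Localization.AtPrime P) n)
    (I : Ideal R) {J : Cx R} {η : R →ₗ[R] J.X 0} (hJ : IsRes J η) (s : ℕ) :
    ∀ (a : Ideal R) (N : Type u) [AddCommGroup N] [Module R N] [Module.Finite R N],
      a ≤ Module.annihilator R N →
      (∀ Q : PrimeSpectrum R, Module.annihilator R N ≤ Q.asIdeal → I ≤ Q.asIdeal →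
        Q.asIdeal.height ≠ (s + 1 : ℕ)) → Subsingleton (T (J.tors I) s N) := by
  intro a
  induction a using WellFoundedGT.induction with
  | _ a ih =>
    intro N _ _ _ ha hN
    set Γ := DRing.torsionSub I N with hΓ
    obtain ⟨k, hk⟩ := exists_pow_killing I Γ.subtype fun x => x.2
    have hΓk : ∀ c ∈ I ^ k, ∀ x : Γ, c • x = 0 :=
      fun c hc x => Subtype.ext (LinearMap.congr_fun (hk c hc) x)
    have hΓT : Subsingleton (T (J.tors I) s Γ) := by
      obtain ⟨e⟩ := nonempty_T_tors_equiv J s I hΓk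
      obtain ⟨e'⟩ := nonempty_T_equiv_ext hJ s Γ
      refine (e.trans e').toEquiv.subsingleton_congr.2
        (subsingleton_ext_of_height_ne hR Γ (s + 1) fun Q hQ => hN Q ?_ ?_)
      · exact (LinearMap.annihilator_le_of_injective Γ.subtype Γ.injective_subtype).trans hQ
      · intro c hc
        exact Q.isPrime.mem_of_pow_mem k (hQ (Module.mem_annihilator.2
          fun x => hΓk _ (Ideal.pow_mem_pow hc k) x))
    refine subsingleton_T_of_exact (J.tors I) s (hJ.inj.tors I) (LinearMap.exact_subtype_mkQ Γ)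
      Γ.injective_subtype Γ.mkQ_surjective hΓT ?_
    rcases subsingleton_or_nontrivial (N ⧸ Γ) with hsub | hnt
    · have hz : ∀ z : tcy (J.tors I) s (N ⧸ Γ), z = 0 := fun z =>
        Subtype.ext (LinearMap.ext fun x => by rw [Subsingleton.elim x 0, map_zero, map_zero])
      haveI : Subsingleton (tcy (J.tors I) s (N ⧸ Γ)) := subsingleton_of_forall_eq 0 hz
      exact (Submodule.mkQ_surjective (LinearMap.range (tbd (J.tors I) s (N ⧸ Γ)))).subsingleton
    have hannN : Module.annihilator R N ≤ Module.annihilator R (N ⧸ Γ) :=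
      LinearMap.annihilator_le_of_surjective Γ.mkQ Γ.mkQ_surjective
    obtain ⟨c, hcI, hreg⟩ : ∃ c ∈ I, IsSMulRegular (N ⧸ Γ) c := by
      have h0 : DRing.torsionSub I (N ⧸ Γ) = ⊥ :=
        torsionSub_quotient_eq_bot (IsNoetherian.noetherian I) N
      have h1 : Subsingleton ((R ⧸ I) →ₗ[R] (N ⧸ Γ)) :=
        subsingleton_hom_of_torsionSub_eq_bot I (R ⧸ I)
          (by rw [Module.support_eq_zeroLocus, Ideal.annihilator_quotient]) _ h0
      rw [IsSMulRegular.subsingleton_linearMap_iff, Ideal.annihilator_quotient] at h1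
      exact h1
    set N' := N ⧸ Γ with hN'
    let μ : N' →ₗ[R] N' := c • LinearMap.id
    have hμ : Function.Injective μ := fun x y h => hreg h
    have hlt : a < Module.annihilator R (N' ⧸ LinearMap.range μ) := by
      refine lt_of_le_of_ne ((ha.trans hannN).trans
        (LinearMap.annihilator_le_of_surjective _ (Submodule.mkQ_surjective _))) fun heq => ?_
      have hc : c ∈ Module.annihilator R (N' ⧸ LinearMap.range μ) :=
        Module.mem_annihilator.2 fun y => by
          obtain ⟨y, rfl⟩ := Submodule.mkQ_surjective _ y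
          exact (Submodule.Quotient.mk_eq_zero _).2 ⟨y, rfl⟩
      rw [← heq] at hc
      obtain ⟨y, hy⟩ := exists_ne (0 : N')
      exact hy (hreg (show c • y = c • (0 : N') by
        rw [smul_zero, Module.mem_annihilator.1 (hannN (ha hc))]))
    have hzero : Subsingleton (T (J.tors I) s (N' ⧸ LinearMap.range μ)) :=
      ih _ hlt _ le_rfl fun Q hQ => hN Q ((hannN.trans
        (LinearMap.annihilator_le_of_surjective _ (Submodule.mkQ_surjective _))).trans hQ)
    refine subsingleton_of_forall_eq 0 fun y => ?_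
    have hinj : ∀ y : T (J.tors I) s N', c • y = 0 → y = 0 := fun y hy => by
      obtain ⟨z, rfl⟩ := Submodule.mkQ_surjective _ y
      obtain ⟨x, hx⟩ := Tmap_exact s (hJ.inj.tors I) (LinearMap.exact_map_mkQ_range μ) hμ
        (Submodule.mkQ_surjective _) (show Tmap (J.tors I) s μ (Submodule.mkQ _ z) = 0 by
          refine Eq.trans ?_ hy
          rw [← map_smul]
          show Submodule.Quotient.mk (tcyMap (J.tors I) s μ z) = Submodule.Quotient.mk (c • z)
          congr 1
          exact Subtype.ext (LinearMap.ext fun v => map_smul z.1 c v))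
      rw [← hx, Subsingleton.elim x 0, map_zero]
    obtain ⟨n, hn⟩ := exists_pow_smul_T J s I y
    have hpow : ∀ k : ℕ, c ^ k • y = 0 → y = 0 := by
      intro k
      induction k with
      | zero => intro h; rwa [pow_zero, one_smul] at h
      | succ k ihk => intro h; exact ihk (hinj _ (by rw [← mul_smul, ← pow_succ', h]))
    exact hpow n (hn _ (Ideal.pow_mem_pow hcI n))

end Groth.LocFinite
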