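import Groth.Agent.LocCohTransform.Independence
import Groth.Agent.LocCohTransform.AdjDepth
import Groth.Agent.LocCohTransform.BaseChange
import Groth.Agent.LocCohBase.DepthLocal
import Groth.Agent.LocCohBase.Cd
import Groth.Agent.Ega4Algebra1.HullCatenary
import Groth.Agent.LocFinite.Kollar
import Groth.Prelude.Def_DualLC

/-!
The invariant `cutoff` along a finite algebra.
-/

set_option linter.style.haveILetI false
set_option autoImplicit false
universe u

open IsLocalRing TensorProduct Groth.LocCohBase

namespace Groth.LocFinite.CutoffFinite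

variable {A B : Type u} [CommRing A] [CommRing B] [Algebra A B]

/-- Depth at a prime through the localization of local cohomology. -/
lemma le_depth_iff [IsNoetherianRing A] {M : Type u} [AddCommGroup M] [Module A M] [Module.Finite A M]
    (p : Ideal A) [p.IsPrime] (K : Ideal A) (hK : (K.map (algebraMap A (Localization.AtPrime p))).radical =
      maximalIdeal (Localization.AtPrime p)) (n : ℕ) :
    (n : ℕ∞) ≤ LocCoh.depth (Localization.AtPrime p) (LocalizedModule p.primeCompl M) ↔
      ∀ i < n, Subsingleton (LocalizedModule p.primeCompl (LocCoh.H K i M)) := by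
  haveI : Module.Finite (Localization.AtPrime p) (LocalizedModule p.primeCompl M) :=
    Module.Finite.of_isLocalizedModule p.primeCompl (LocalizedModule.mkLinearMap p.primeCompl M)
  rw [LocCoh.depth, ← idealDepth_eq_of_radical_eq (I := K.map (algebraMap A (Localization.AtPrime p)))
    (by rw [hK, (maximalIdeal.isMaximal (Localization.AtPrime p)).isPrime.radical]),
    le_idealDepth_iff_localCohomology]
  refine forall₂_congr fun i _ => ?_
  obtain ⟨e⟩ := LocCohTransform.nonempty_baseChange_equiv (Localization.AtPrime p) K M i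
  exact (((LocalizedModule.equivTensorProduct p.primeCompl _).trans e).trans
    (Kollar.HEquiv (K.map (algebraMap A (Localization.AtPrime p))) i
      (LocalizedModule.equivTensorProduct p.primeCompl M).symm)).toEquiv.subsingleton_congr.symm

variable [Module.Finite A B]

/-- A prime of a finite algebra over `p` is minimal over `pB`. -/
lemma radical_map_eq (p : Ideal A) (P : Ideal B) [hP : P.IsPrime] (hPp : P.comap (algebraMap A B) = p) :
    ((p.map (algebraMap A B)).map (algebraMap B (Localization.AtPrime P))).radical =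
      maximalIdeal (Localization.AtPrime P) := by
  set L := Localization.AtPrime P
  refine le_antisymm ?_ ?_
  · refine (Ideal.radical_mono ?_).trans (maximalIdeal.isMaximal L).isPrime.radical.le
    rw [← Localization.AtPrime.map_eq_maximalIdeal]
    exact Ideal.map_mono (Ideal.map_le_iff_le_comap.2 hPp.ge)
  · rw [Ideal.radical_eq_sInf]
    refine le_sInf fun K ⟨hK, hKp⟩ => ?_
    haveI := hKp
    have h1 : K.comap (algebraMap B L) ≤ P :=
      (Ideal.comap_mono (le_maximalIdeal hKp.ne_top)).trans
        (IsLocalization.AtPrime.under_maximalIdeal L P).le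
    have h2 : K.comap (algebraMap B L) = P := by
      by_contra hne
      have h3 := Ideal.IsIntegral.comap_lt_comap (R := A) (lt_of_le_of_ne h1 hne)
      refine h3.ne (le_antisymm h3.le ?_)
      rw [hPp]
      exact Ideal.map_le_iff_le_comap.1 (Ideal.map_le_iff_le_comap.1 hK)
    rw [← Localization.AtPrime.map_eq_maximalIdeal, Ideal.map_le_iff_le_comap, h2]

variable [IsNoetherianRing A] [IsNoetherianRing B] {M : Type u} [AddCommGroup M] [Module B M]
  [Module A M] [IsScalarTower A B M] [Module.Finite B M]

/-- The depth over the base is at most the depth at a prime above. -/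
theorem depth_le (p : Ideal A) [p.IsPrime] (P : Ideal B) [P.IsPrime]
    (hPp : P.comap (algebraMap A B) = p) :
    LocCoh.depth (Localization.AtPrime p) (LocalizedModule p.primeCompl M) ≤
      LocCoh.depth (Localization.AtPrime P) (LocalizedModule P.primeCompl M) := by
  haveI : Module.Finite A M := Module.Finite.trans B M
  refine le_iff_forall_nat_le.2 fun n hn => ?_
  rw [le_depth_iff p p (by rw [Localization.AtPrime.map_eq_maximalIdeal,
    (maximalIdeal.isMaximal (Localization.AtPrime p)).isPrime.radical])] at hn
  refine (le_depth_iff P (p.map (algebraMap A B)) (radical_map_eq p P hPp) n).2 fun i hi => ?_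
  obtain ⟨φ, hφ⟩ := LocCohTransform.exists_restrict_addEquiv (R' := B) (I := p) M i
  rw [LocalizedModule.subsingleton_iff]
  intro x
  obtain ⟨s, hs, hsx⟩ := LocalizedModule.subsingleton_iff.1 (hn i hi) (φ x)
  refine ⟨algebraMap A B s, fun hmem => hs (hPp ▸ hmem), φ.injective ?_⟩
  rw [hφ, hsx, map_zero]

/-- If all depths above are at least `n`, so is the depth over the base. -/
theorem le_depth (p : Ideal A) [p.IsPrime] (n : ℕ)
    (h : ∀ P : PrimeSpectrum B, P.asIdeal.comap (algebraMap A B) = p →
      (n : ℕ∞) ≤ LocCoh.depth (Localization.AtPrime P.asIdeal) (LocalizedModule P.asIdeal.primeCompl M)) :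
    (n : ℕ∞) ≤ LocCoh.depth (Localization.AtPrime p) (LocalizedModule p.primeCompl M) := by
  haveI : Module.Finite A M := Module.Finite.trans B M
  refine (le_depth_iff p p (by rw [Localization.AtPrime.map_eq_maximalIdeal,
    (maximalIdeal.isMaximal (Localization.AtPrime p)).isPrime.radical]) n).2 fun i hi => ?_
  obtain ⟨φ, hφ⟩ := LocCohTransform.exists_restrict_addEquiv (R' := B) (I := p) M i
  rw [LocalizedModule.subsingleton_iff]
  intro y
  obtain ⟨x, rfl⟩ := φ.surjective y
  set K := LinearMap.ker (LinearMap.toSpanSingleton B _ x)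
  obtain ⟨s, hs, hsK⟩ : ∃ s ∉ p, algebraMap A B s ∈ K := by
    by_contra hno
    push Not at hno
    have hdisj : Disjoint (K : Set B) (Algebra.algebraMapSubmonoid B p.primeCompl : Set B) :=
      Set.disjoint_left.2 fun b hb ⟨s, hs, hsb⟩ => hno s hs (hsb ▸ hb)
    obtain ⟨P, hPp, hKP, hPd⟩ := Ideal.exists_le_prime_disjoint K
      (Algebra.algebraMapSubmonoid B p.primeCompl) hdisj
    have hcomap : P.comap (algebraMap A B) = p := by
      refine le_antisymm (fun a ha => ?_) (fun a ha => ?_)
      · by_contra hap
        exact Set.disjoint_left.1 hPd ha ⟨a, hap, rfl⟩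
      · obtain ⟨k, hk⟩ := isPowerTorsion_H (p.map (algebraMap A B)) i (ModuleCat.of B M) x
        refine hPp.mem_of_pow_mem k (hKP ?_)
        rw [LinearMap.mem_ker, LinearMap.toSpanSingleton_apply]
        exact hk _ (Ideal.pow_mem_pow (Ideal.mem_map_of_mem _ ha) k)
    obtain ⟨b, hb, hbx⟩ := LocalizedModule.subsingleton_iff.1
      ((le_depth_iff P (p.map (algebraMap A B)) (radical_map_eq p P hcomap) n).1
        (h ⟨P, hPp⟩ hcomap) i hi) x
    exact hb (hKP (LinearMap.mem_ker.2 hbx))
  exact ⟨s, hs, by rw [← hφ, show algebraMap A B s • x = 0 from LinearMap.mem_ker.1 hsK, map_zero]⟩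

omit [IsNoetherianRing A] [IsNoetherianRing B] in
/-- Heights above a prime drop along an integral map. -/
lemma height_Ici_le {P Q : PrimeSpectrum B} (h : P ≤ Q) :
    Order.height (⟨Q, h⟩ : Set.Ici P) ≤
      Order.height (⟨PrimeSpectrum.comap (algebraMap A B) Q, Ideal.comap_mono h⟩ :
        Set.Ici (PrimeSpectrum.comap (algebraMap A B) P)) := by
  refine Order.height_le_height_apply_of_strictMono (fun X : Set.Ici P =>
    (⟨PrimeSpectrum.comap (algebraMap A B) X.1, Ideal.comap_mono X.2⟩ :
      Set.Ici (PrimeSpectrum.comap (algebraMap A B) P))) (fun X Y hXY => ?_) ⟨Q, h⟩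
  exact Ideal.IsIntegral.comap_lt_comap (R := A) (show X.1.asIdeal < Y.1.asIdeal from hXY)

omit [IsNoetherianRing B] in
/-- Heights above a prime are preserved along a finite map from a universally catenary ring. -/
lemma le_height_Ici (hA : CAlg.IsUniversallyCatenary A) {P Q : PrimeSpectrum B} (h : P ≤ Q) :
    Order.height (⟨PrimeSpectrum.comap (algebraMap A B) Q, Ideal.comap_mono h⟩ :
        Set.Ici (PrimeSpectrum.comap (algebraMap A B) P)) ≤
      Order.height (⟨Q, h⟩ : Set.Ici P) := by
  set p := P.asIdeal.comap (algebraMap A B)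
  haveI : P.asIdeal.LiesOver p := ⟨rfl⟩
  haveI : Module.Finite A (B ⧸ P.asIdeal) := Module.Finite.of_surjective
    (Ideal.Quotient.mkₐ A P.asIdeal).toLinearMap Ideal.Quotient.mk_surjective
  haveI : Module.Finite (A ⧸ p) (B ⧸ P.asIdeal) := Module.Finite.of_restrictScalars_finite A _ _
  haveI : (Q.asIdeal.map (Ideal.Quotient.mk P.asIdeal)).IsPrime :=
    Ideal.map_isPrime_of_surjective Ideal.Quotient.mk_surjective (by rw [Ideal.mk_ker]; exact h)
  have h1 := Ega4Algebra1.height_comap_le_of_finite (A ⧸ p) (B ⧸ P.asIdeal)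
    (Ega4Algebra1.isUniversallyCatenary_of_finiteType hA (A ⧸ p)) Ideal.algebraMap_quotient_injective
    (Q.asIdeal.map (Ideal.Quotient.mk P.asIdeal))
  refine ((LocCohTransform.height_map_eq_height_Ici (p := PrimeSpectrum.comap (algebraMap A B) P)
    (q := PrimeSpectrum.comap (algebraMap A B) Q) (Ideal.comap_mono h)).symm.le.trans ?_).trans
    (LocCohTransform.height_map_eq_height_Ici h).le
  refine le_trans (le_of_eq ?_) h1
  congr 1
  ext x
  obtain ⟨a, rfl⟩ := Ideal.Quotient.mk_surjective x
  change Ideal.Quotient.mk p a ∈ Ideal.map (Ideal.Quotient.mk p) (Q.asIdeal.comap (algebraMap A B)) ↔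
    Ideal.Quotient.mk P.asIdeal (algebraMap A B a) ∈ Q.asIdeal.map (Ideal.Quotient.mk P.asIdeal)
  rw [← Ideal.mem_comap (f := Ideal.Quotient.mk p), ← Ideal.mem_comap (f := Ideal.Quotient.mk P.asIdeal),
    Ideal.comap_map_quotientMk, Ideal.comap_map_quotientMk,
    sup_eq_right.2 (Ideal.comap_mono h : p ≤ Q.asIdeal.comap (algebraMap A B)),
    sup_eq_right.2 (show P.asIdeal ≤ Q.asIdeal from h), Ideal.mem_comap]

/-- The cutoff does not change along a finite algebra over a universally catenary ring. -/
theorem cutoff_eq (hA : CAlg.IsUniversallyCatenary A) (I : Ideal A) :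
    Dual2.cutoff B (I.map (algebraMap A B)) M = Dual2.cutoff A I M := by
  refine le_antisymm (le_iInf fun p => le_iInf fun q => le_iInf fun h => le_iInf fun hp =>
    le_iInf fun hq => ?_) (le_iInf fun P => le_iInf fun Q => le_iInf fun h => le_iInf fun hP =>
    le_iInf fun hQ => ?_)
  · generalize hD : LocCoh.depth (Localization.AtPrime p.asIdeal) (LocalizedModule p.asIdeal.primeCompl M) = D
    cases D with
    | top => simp
    | coe d =>
      obtain ⟨P, hPp, hPd⟩ : ∃ P : PrimeSpectrum B, P.asIdeal.comap (algebraMap A B) = p.asIdeal ∧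
          ¬ ((d + 1 : ℕ) : ℕ∞) ≤ LocCoh.depth (Localization.AtPrime P.asIdeal)
            (LocalizedModule P.asIdeal.primeCompl M) := by
        by_contra hno
        push Not at hno
        have := le_depth (M := M) p.asIdeal (d + 1) hno
        rw [hD] at this
        exact absurd (Nat.cast_le.1 this) (by omega)
      obtain ⟨Q, hPQ, hQp, hQq⟩ := Ideal.exists_ideal_over_prime_of_isIntegral q.asIdeal P.asIdeal
        (hPp.le.trans (show p.asIdeal ≤ q.asIdeal from h))
      let Q' : PrimeSpectrum B := ⟨Q, hQp⟩
      have eP : PrimeSpectrum.comap (algebraMap A B) P = p := PrimeSpectrum.ext hPp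
      have eQ : PrimeSpectrum.comap (algebraMap A B) Q' = q := PrimeSpectrum.ext hQq
      refine iInf_le_of_le P (iInf_le_of_le Q' (iInf_le_of_le hPQ (iInf_le_of_le
        (fun hle => hp (hPp ▸ Ideal.map_le_iff_le_comap.1 hle)) (iInf_le_of_le
          (Ideal.map_le_iff_le_comap.2 (hq.trans hQq.ge)) ?_))))
      refine add_le_add ?_ ?_
      · generalize LocCoh.depth (Localization.AtPrime P.asIdeal)
          (LocalizedModule P.asIdeal.primeCompl M) = D' at hPd
        cases D' with
        | top => exact absurd le_top hPd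
        | coe d' =>
          rw [Nat.cast_le] at hPd
          exact Nat.cast_le.2 (by omega)
      · refine (height_Ici_le (A := A) (show P ≤ Q' from hPQ)).trans (le_of_eq ?_)
        subst eP eQ
        rfl
  · exact iInf_le_of_le (PrimeSpectrum.comap (algebraMap A B) P) (iInf_le_of_le
      (PrimeSpectrum.comap (algebraMap A B) Q) (iInf_le_of_le (Ideal.comap_mono h) (iInf_le_of_le
        (fun hle => hP (Ideal.map_le_iff_le_comap.2 hle)) (iInf_le_of_le (Ideal.map_le_iff_le_comap.1 hQ)
          (add_le_add (depth_le _ P.asIdeal rfl) (le_height_Ici hA h))))))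

end Groth.LocFinite.CutoffFinite
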