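import Groth.Agent.LocFinite.Annihilated
import Groth.Agent.LocFinite.KollarFormal
import Groth.Agent.LocCohTransform.Faltings
import Groth.Agent.LocCohTransform.FaltingsRegular
import Groth.Agent.LocCohTransform.AdjDepth
import Groth.Agent.Ega4Algebra2.DepthFlat
import Groth.Agent.Ega4Algebra2.SkFlat
import Groth.Agent.Ega4Algebra1.CatenaryDim
import Groth.Agent.Ega4Algebra1.RegularCatenary
import Groth.Agent.Calg4.RegularAscent
import Groth.Prelude.Def_DualLC

/-!
The invariant `cutoff` under completion, and the finiteness of local cohomology below it.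
-/

set_option linter.style.haveILetI false
set_option autoImplicit false
universe u

open IsLocalRing TensorProduct

namespace Groth.LocFinite.CutoffFormal

/-- The cutoff is the minimal adjusted depth. -/
theorem cutoff_eq_minAdjDepth {R : Type u} [CommRing R] (I : Ideal R)
    (M : Type u) [AddCommGroup M] [Module R M] :
    Dual2.cutoff R I M = LocCoh.minAdjDepth I I M := by
  refine le_antisymm (le_iInf₂ fun p hp => ?_) (le_iInf fun p => le_iInf fun q => le_iInf fun h =>
    le_iInf fun hp => le_iInf fun hq => ?_)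
  · rw [LocCohTransform.adjDepth_eq]
    generalize hc : SGA2.relCodim I p = c
    cases c with
    | top => simp
    | coe c =>
      obtain ⟨⟨q, hpq, hq⟩, hh⟩ := LocCohTransform.relCodim_witness hc
      refine iInf_le_of_le p (iInf_le_of_le q (iInf_le_of_le hpq (iInf_le_of_le hp (iInf_le_of_le hq ?_))))
      rw [hh]
  · refine iInf₂_le_of_le p hp ?_
    rw [LocCohTransform.adjDepth_eq]
    exact add_le_add le_rfl (iInf_le_of_le ⟨q, h, hq⟩ le_rfl)

section Order

variable {A : Type u} [CommRing A] [IsNoetherianRing A] [IsLocalRing A]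

lemma height_Ici_ne_top {p q : PrimeSpectrum A} (h : p ≤ q) :
    Order.height (⟨q, h⟩ : Set.Ici p) ≠ ⊤ := by
  rw [← LocCohTransform.height_map_eq_height_Ici h]
  exact Ideal.height_ne_top (fun htop => q.isPrime.ne_top (by
    have h' := congrArg (Ideal.comap (Ideal.Quotient.mk p.asIdeal)) htop
    rwa [Ideal.comap_map_quotientMk, Ideal.comap_top, sup_eq_right.2 (show p.asIdeal ≤ q.asIdeal from h)] at h'))

lemma length_add_coheight_le (s : LTSeries (PrimeSpectrum A)) :
    (s.length : ℕ∞) + Order.coheight s.last ≤ Order.coheight s.head := by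
  suffices ∀ i : ℕ, ∀ hi : i ≤ s.length,
      (i : ℕ∞) + Order.coheight (s ⟨i, by omega⟩) ≤ Order.coheight s.head from this s.length le_rfl
  intro i
  induction i with
  | zero => intro _; rw [Nat.cast_zero, zero_add]; exact le_rfl
  | succ i ih =>
    intro hi
    refine le_trans ?_ (ih (by omega))
    rw [Nat.cast_succ, add_assoc, add_comm 1]
    exact add_le_add le_rfl (Order.coheight_add_one_le (s.strictMono (by simp [Fin.lt_def])))

/-- In a catenary local ring the height above a prime is the difference of the coheights. -/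
theorem height_Ici_add_coheight (hA : CAlg.IsCatenary A) :
    ∀ {p q : PrimeSpectrum A} (h : p ≤ q),
      Order.height (⟨q, h⟩ : Set.Ici p) + Order.coheight q = Order.coheight p := by
  suffices ∀ n : ℕ, ∀ {p q : PrimeSpectrum A} (h : p ≤ q), Order.coheight p = n →
      Order.height (⟨q, h⟩ : Set.Ici p) + Order.coheight q = Order.coheight p by
    intro p q h
    obtain ⟨n, hn⟩ := ENat.ne_top_iff_exists.1 (Ega4Algebra1.coheight_ne_top A p)
    exact this n h hn.symm
  intro n
  induction n using Nat.strong_induction_on with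
  | _ n ih =>
  intro p q h hn
  refine le_antisymm ?_ ?_
  · obtain ⟨k, hk⟩ := ENat.ne_top_iff_exists.1 (height_Ici_ne_top h)
    obtain ⟨s, hs, hl⟩ := Order.exists_series_of_height_eq_coe _ hk.symm
    have h1 := length_add_coheight_le (s.map Subtype.val (fun _ _ h => h))
    have hhead : p ≤ (s.map Subtype.val (fun _ _ h => h)).head := s.head.2
    rw [show (s.map Subtype.val (fun _ _ h => h)).length = k from hl,
      show (s.map Subtype.val (fun _ _ h => h)).last = q from congrArg Subtype.val hs] at h1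
    rw [← hk]
    exact h1.trans (Order.coheight_anti hhead)
  · rcases eq_or_lt_of_le h with rfl | hlt
    · exact le_add_self
    obtain ⟨x, hxq, hxp⟩ := SetLike.exists_of_lt (show p.asIdeal < q.asIdeal from hlt)
    obtain ⟨P, hP, hPq⟩ := Ideal.exists_minimalPrimes_le
      (show p.asIdeal ⊔ Ideal.span {x} ≤ q.asIdeal from
        sup_le h (Ideal.span_le.2 (Set.singleton_subset_iff.2 hxq)))
    let p' : PrimeSpectrum A := ⟨P, hP.1.1⟩
    have hc : p ⋖ p' := Ega4Algebra1.covBy_of_mem_minimalPrimes A hxp hP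
    have h1 := Ega4Algebra1.coheight_eq_add_one_of_covBy A hA hc
    obtain ⟨m, hm⟩ := ENat.ne_top_iff_exists.1 (Ega4Algebra1.coheight_ne_top A p')
    have hmn : m < n := by
      rw [hn, ← hm] at h1
      have : n = m + 1 := by exact_mod_cast h1
      omega
    rw [h1, ← ih m hmn (show p' ≤ q from hPq) hm.symm]
    have h2 : Order.height (⟨q, hPq⟩ : Set.Ici p') + 1 ≤ Order.height (⟨q, h⟩ : Set.Ici p) := by
      refine le_trans ?_ (LocCohTransform.height_Ici_add_le (p := p) (s := p') (q := q) hc.lt.le hPq)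
      rw [add_comm]
      refine add_le_add ?_ le_rfl
      refine le_trans ?_ (Order.height_add_one_le (a := (⟨p, Set.self_mem_Ici⟩ : Set.Ici p)) hc.lt)
      exact le_add_self
    rw [add_right_comm]
    exact add_le_add h2 le_rfl

end Order

section Completion

variable {A : Type u} [CommRing A] [IsNoetherianRing A] [IsLocalRing A]


/-- The contraction. -/
noncomputable abbrev ctr (P : PrimeSpectrum (EGA4.Cpl A)) : PrimeSpectrum A :=
  PrimeSpectrum.comap (algebraMap A (EGA4.Cpl A)) P

lemma coheight_le (P : PrimeSpectrum (EGA4.Cpl A)) : Order.coheight P ≤ Order.coheight (ctr P) := by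
  rw [← WithBot.coe_le_coe, ← Ega4Algebra1.ringKrullDim_quotient_eq_coheight,
    ← Ega4Algebra1.ringKrullDim_quotient_eq_coheight]
  haveI : Nontrivial (A ⧸ (ctr P).asIdeal) := Ideal.Quotient.nontrivial_iff.2 (ctr P).isPrime.ne_top
  haveI := Ega4b.isNoetherianRing_cpl A
  calc ringKrullDim ((EGA4.Cpl A) ⧸ P.asIdeal)
      ≤ ringKrullDim ((EGA4.Cpl A) ⧸ (ctr P).asIdeal.map (algebraMap A (EGA4.Cpl A))) :=
        ringKrullDim_le_of_surjective (Ideal.Quotient.factor Ideal.map_comap_le)
          (Ideal.Quotient.factor_surjective _)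
    _ = ringKrullDim (EGA4.Cpl (A ⧸ (ctr P).asIdeal)) :=
        ringKrullDim_eq_of_ringEquiv ((Ideal.quotEquivOfEq (Ega4b.ker_cplQuot A (ctr P).asIdeal).symm).trans
          (RingHom.quotientKerEquivOfSurjective (Ega4b.cplQuot_surjective A (ctr P).asIdeal)))
    _ = ringKrullDim (A ⧸ (ctr P).asIdeal) := Calg1.ringKrullDim_adicCompletion _

lemma coheight_eq_of_minimal (hA : CAlg.IsUniversallyCatenary A) {p : PrimeSpectrum A}
    {P : PrimeSpectrum (EGA4.Cpl A)} (hP : P.asIdeal ∈ (p.asIdeal.map (algebraMap A (EGA4.Cpl A))).minimalPrimes) :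
    Order.coheight P = Order.coheight p := by
  rw [← WithBot.coe_inj, ← Ega4Algebra1.ringKrullDim_quotient_eq_coheight,
    ← Ega4Algebra1.ringKrullDim_quotient_eq_coheight]
  haveI : Nontrivial (A ⧸ p.asIdeal) := Ideal.Quotient.nontrivial_iff.2 p.isPrime.ne_top
  obtain ⟨d, hd⟩ := LocCohTransform.DimCd.exists_nat_dim (A := A) p.isPrime.ne_top
  rw [hd]
  set π := Ega4b.cplQuot A p.asIdeal
  have hs : Function.Surjective π := Ega4b.cplQuot_surjective A p.asIdeal
  have hker : RingHom.ker π = p.asIdeal.map (algebraMap A (EGA4.Cpl A)) := Ega4b.ker_cplQuot A p.asIdeal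
  rw [← hker, RingHom.ker_eq_comap_bot] at hP
  obtain ⟨P', hP', hPP'⟩ := Ideal.exists_minimalPrimes_comap_eq π P.asIdeal hP
  rw [← hPP', Ega4Algebra1.ringKrullDim_quotient_comap π hs]
  exact LocCohTransform.Ratliff.ringKrullDim_cpl_quotient_minimalPrime d (A ⧸ p.asIdeal)
    (Ega4Algebra1.isUniversallyCatenary_of_finiteType hA (A ⧸ p.asIdeal)) hd P' hP'

lemma catenary_cpl : CAlg.IsCatenary (EGA4.Cpl A) := by
  haveI := Ega4b.isNoetherianRing_cpl A
  haveI : IsAdicComplete (maximalIdeal (EGA4.Cpl A)) (EGA4.Cpl A) := by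
    rw [AdicCompletion.maximalIdeal_eq_map]
    exact AdicLinTop.CompletionQuot.isAdicComplete_map _ (IsNoetherian.noetherian _)
  exact (Ega4Algebra1.isUniversallyCatenary_of_complete (EGA4.Cpl A)).2 (EGA4.Cpl A) inferInstance

/-- The dimension of the fibre bounds the drop of the coheight. -/
lemma coheight_le_fibre_add (hA : CAlg.IsUniversallyCatenary A) (P : PrimeSpectrum (EGA4.Cpl A)) {d : ℕ}
    (hd : ringKrullDim (EGA4.FibLocRing A (EGA4.Cpl A) P.asIdeal) = d) :
    Order.coheight (ctr P) ≤ d + Order.coheight P := by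
  haveI := Ega4b.isNoetherianRing_cpl A
  obtain ⟨P₀, hP₀, hle⟩ := Ideal.exists_minimalPrimes_le
    (show (ctr P).asIdeal.map (algebraMap A (EGA4.Cpl A)) ≤ P.asIdeal from Ideal.map_comap_le)
  let X : PrimeSpectrum (EGA4.Cpl A) := ⟨P₀, hP₀.1.1⟩
  rw [← coheight_eq_of_minimal hA (P := X) hP₀, ← height_Ici_add_coheight catenary_cpl (show X ≤ P from hle)]
  refine add_le_add ?_ le_rfl
  have h1 := Kollar.ringKrullDim_quotient_eq X P hle
  have h2 : ringKrullDim (Localization.AtPrime P.asIdeal ⧸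
      X.asIdeal.map (algebraMap (EGA4.Cpl A) (Localization.AtPrime P.asIdeal))) ≤
        ringKrullDim (EGA4.FibLocRing A (EGA4.Cpl A) P.asIdeal) := by
    refine ringKrullDim_le_of_surjective (Ideal.Quotient.factor ?_) (Ideal.Quotient.factor_surjective _)
    rw [IsScalarTower.algebraMap_eq A (EGA4.Cpl A) (Localization.AtPrime P.asIdeal), ← Ideal.map_map]
    exact Ideal.map_mono hP₀.1.2
  rw [h1, hd] at h2
  exact_mod_cast h2

/-- A minimal prime over `pC` lies over `p`. -/
lemma ctr_eq_of_minimal {p : PrimeSpectrum A} {P Q : PrimeSpectrum (EGA4.Cpl A)} (hQ : ctr Q = p)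
    (hle : P ≤ Q) (hP : p.asIdeal.map (algebraMap A (EGA4.Cpl A)) ≤ P.asIdeal) : ctr P = p :=
  le_antisymm (hQ ▸ Ideal.comap_mono hle) (Ideal.map_le_iff_le_comap.1 hP)

variable {M : Type u} [AddCommGroup M] [Module A M] [Module.Finite A M]
  {N : Type u} [AddCommGroup N] [Module (EGA4.Cpl A) N]

/-- The depth in the completion. -/
theorem depth_localized_eq (e : (EGA4.Cpl A) ⊗[A] M ≃ₗ[(EGA4.Cpl A)] N) (P : PrimeSpectrum (EGA4.Cpl A)) :
    letI := Ega4b.fibLocRing_isLocalRing A (EGA4.Cpl A) P.asIdeal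
    LocCoh.depth (Localization.AtPrime P.asIdeal) (LocalizedModule P.asIdeal.primeCompl N) =
      LocCoh.depth (Localization.AtPrime (ctr P).asIdeal)
          (LocalizedModule (ctr P).asIdeal.primeCompl M) +
        LocCoh.depth (EGA4.FibLocRing A (EGA4.Cpl A) P.asIdeal) (EGA4.FibLocRing A (EGA4.Cpl A) P.asIdeal) := by
  letI := Ega4b.fibLocRing_isLocalRing A (EGA4.Cpl A) P.asIdeal
  haveI := Ega4b.isNoetherianRing_cpl A
  haveI : Module.Flat A (EGA4.Cpl A) := AdicCompletion.flat_of_isNoetherian _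
  set p := (ctr P).asIdeal
  set T := Localization.AtPrime p
  set L := Localization.AtPrime P.asIdeal
  letI : Algebra T L := (Localization.localRingHom p P.asIdeal (algebraMap A (EGA4.Cpl A)) rfl).toAlgebra
  haveI : IsScalarTower A T L := IsScalarTower.of_algebraMap_eq fun x => by
    rw [RingHom.algebraMap_toAlgebra, Localization.localRingHom_to_map,
      ← IsScalarTower.algebraMap_apply A (EGA4.Cpl A) L]
  haveI : IsLocalHom (algebraMap T L) :=
    Localization.isLocalHom_localRingHom p P.asIdeal (algebraMap A (EGA4.Cpl A)) rfl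
  haveI : Module.Flat A L := Module.Flat.trans A (EGA4.Cpl A) L
  haveI : Module.Flat T L :=
    (Module.flat_iff_of_isLocalization T p.primeCompl (M := L)).2 inferInstance
  haveI : Module.Finite T (LocalizedModule p.primeCompl M) :=
    Module.Finite.of_isLocalizedModule p.primeCompl (LocalizedModule.mkLinearMap p.primeCompl M)
  let e1 : LocalizedModule P.asIdeal.primeCompl N ≃ₗ[L] L ⊗[T] LocalizedModule p.primeCompl M :=
    (LocalizedModule.equivTensorProduct P.asIdeal.primeCompl N).trans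
      ((AlgebraTensorModule.congr (LinearEquiv.refl L L) e.symm).trans
        ((AlgebraTensorModule.cancelBaseChange A (EGA4.Cpl A) L L M).trans
          ((AlgebraTensorModule.cancelBaseChange A T L L M).symm.trans
            (AlgebraTensorModule.congr (LinearEquiv.refl L L)
              (LocalizedModule.equivTensorProduct p.primeCompl M).symm))))
  rw [Ega4b.depth_congr' e1, Ega4b.depth_tensor' (S := L) L (LocalizedModule p.primeCompl M),
    ← Ega4b.depth_eq_of_surjective_algebraMap (A := L) (B := EGA4.FibLocRing A (EGA4.Cpl A) P.asIdeal)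
      Ideal.Quotient.mk_surjective (EGA4.FibLocRing A (EGA4.Cpl A) P.asIdeal)]
  congr 1
  refine Ega4b.depth_congr' (Submodule.quotEquivOfEq _ _ ?_)
  rw [smul_eq_mul, Ideal.mul_top, ← Localization.AtPrime.map_eq_maximalIdeal, Ideal.map_map,
    ← IsScalarTower.algebraMap_eq]
  rfl

/-- The cutoff does not grow under completion. -/
theorem cutoff_cpl_le (hA : CAlg.IsUniversallyCatenary A) (I : Ideal A) (e : (EGA4.Cpl A) ⊗[A] M ≃ₗ[(EGA4.Cpl A)] N) :
    Dual2.cutoff (EGA4.Cpl A) (I.map (algebraMap A (EGA4.Cpl A))) N ≤ Dual2.cutoff A I M := by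
  haveI := Ega4b.isNoetherianRing_cpl A
  haveI : Module.Flat A (EGA4.Cpl A) := AdicCompletion.flat_of_isNoetherian _
  haveI : Module.FaithfullyFlat A (EGA4.Cpl A) := LocDual.faithfullyFlat_cpl A
  refine le_iInf fun p => le_iInf fun q => le_iInf fun h => le_iInf fun hp => le_iInf fun hq => ?_
  obtain ⟨Q₁, hQ₁⟩ := PrimeSpectrum.comap_surjective_of_faithfullyFlat (A := A) (B := (EGA4.Cpl A)) q
  obtain ⟨Q₀, hQ₀, hQle⟩ := Ideal.exists_minimalPrimes_le (show q.asIdeal.map (algebraMap A (EGA4.Cpl A)) ≤ Q₁.asIdeal from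
    Ideal.map_le_iff_le_comap.2 (congrArg PrimeSpectrum.asIdeal hQ₁).ge)
  let Q : PrimeSpectrum (EGA4.Cpl A) := ⟨Q₀, hQ₀.1.1⟩
  have hQq : ctr Q = q := ctr_eq_of_minimal hQ₁ hQle hQ₀.1.2
  haveI : Q.asIdeal.IsPrime := Q.isPrime
  haveI : Q.asIdeal.LiesOver q.asIdeal := ⟨(congrArg PrimeSpectrum.asIdeal hQq).symm⟩
  obtain ⟨P₁, hP₁le, hP₁p, hP₁⟩ := Ideal.exists_ideal_le_liesOver_of_le (p := p.asIdeal)
    (q := q.asIdeal) Q.asIdeal (show p.asIdeal ≤ q.asIdeal from h)
  have hP₁' : ctr ⟨P₁, hP₁p⟩ = p := PrimeSpectrum.ext hP₁.over.symm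
  obtain ⟨P₀, hP₀, hPle⟩ := Ideal.exists_minimalPrimes_le (show p.asIdeal.map (algebraMap A (EGA4.Cpl A)) ≤ P₁ from
    Ideal.map_le_iff_le_comap.2 hP₁.over.le)
  let P : PrimeSpectrum (EGA4.Cpl A) := ⟨P₀, hP₀.1.1⟩
  have hPp : ctr P = p := ctr_eq_of_minimal hP₁' hPle hP₀.1.2
  haveI : P.asIdeal.IsPrime := P.isPrime
  have hPQ : P ≤ Q := hPle.trans hP₁le
  refine iInf_le_of_le P (iInf_le_of_le Q (iInf_le_of_le hPQ (iInf_le_of_le
    (fun hle => hp (hPp ▸ Ideal.map_le_iff_le_comap.1 hle))
    (iInf_le_of_le (Ideal.map_le_iff_le_comap.2 (hq.trans (congrArg PrimeSpectrum.asIdeal hQq).ge))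
      ?_))))
  letI := Ega4b.fibLocRing_isLocalRing A (EGA4.Cpl A) P.asIdeal
  rw [depth_localized_eq e, hPp]
  refine add_le_add ?_ ?_
  · have hdim : ringKrullDim (EGA4.FibLocRing A (EGA4.Cpl A) P.asIdeal) ≤ 0 := by
      have hJ : p.asIdeal.map (algebraMap A (EGA4.Cpl A)) = (ctr P).asIdeal.map (algebraMap A (EGA4.Cpl A)) := by rw [hPp]
      rw [hJ] at hP₀
      haveI : Ring.KrullDimLE 0 (EGA4.FibLocRing A (EGA4.Cpl A) P.asIdeal) := by
        refine Ring.krullDimLE_zero_iff.2 fun I' _ => ?_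
        set L := Localization.AtPrime P.asIdeal
        set K := I'.comap (Ideal.Quotient.mk
          (((ctr P).asIdeal).map (algebraMap A L)))
        have hK : (ctr P).asIdeal.map (algebraMap A L) ≤ K := fun x hx => by
          show Ideal.Quotient.mk _ x ∈ I'
          have h0 : (Ideal.Quotient.mk (((ctr P).asIdeal).map (algebraMap A L))) x = 0 :=
            Ideal.Quotient.eq_zero_iff_mem.2 hx
          convert! I'.zero_mem
        have hle : (ctr P).asIdeal.map (algebraMap A (EGA4.Cpl A)) ≤ K.comap (algebraMap (EGA4.Cpl A) L) := by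
          rw [← Ideal.map_le_iff_le_comap, Ideal.map_map, ← IsScalarTower.algebraMap_eq]
          exact hK
        have hP' : P.asIdeal ≤ K.comap (algebraMap (EGA4.Cpl A) L) := hP₀.2
          ⟨inferInstance, hle⟩ ((Ideal.comap_mono (le_maximalIdeal Ideal.IsPrime.ne_top')).trans
            (IsLocalization.AtPrime.under_maximalIdeal L P.asIdeal).le)
        have hmax : maximalIdeal L ≤ K := by
          rw [← Localization.AtPrime.map_eq_maximalIdeal, Ideal.map_le_iff_le_comap]
          exact hP'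
        haveI : K.IsMaximal := by
          rw [← (maximalIdeal.isMaximal L).eq_of_le (Ideal.IsPrime.ne_top inferInstance) hmax]
          infer_instance
        have hmc : K.map (Ideal.Quotient.mk _) = I' :=
          Ideal.map_comap_of_surjective _ Ideal.Quotient.mk_surjective I'
        rcases Ideal.map_eq_top_or_isMaximal_of_surjective (Ideal.Quotient.mk
            (((ctr P).asIdeal).map (algebraMap A L))) Ideal.Quotient.mk_surjective
            (I := K) inferInstance with h' | h'
        · exact absurd (hmc.symm.trans h') (Ideal.IsPrime.ne_top inferInstance)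
        · exact hmc ▸ h'
      exact_mod_cast (Ring.krullDimLE_iff.1 (inferInstance :
        Ring.KrullDimLE 0 (EGA4.FibLocRing A (EGA4.Cpl A) P.asIdeal)))
    have h0 := (Calg4.depth_le_ringKrullDim (EGA4.FibLocRing A (EGA4.Cpl A) P.asIdeal)).trans hdim
    have : LocCoh.depth (EGA4.FibLocRing A (EGA4.Cpl A) P.asIdeal) (EGA4.FibLocRing A (EGA4.Cpl A) P.asIdeal) ≤ 0 :=
      WithBot.coe_le_coe.1 h0
    rw [nonpos_iff_eq_zero.1 this, add_zero]
  · refine le_of_eq ?_
    have e1 := height_Ici_add_coheight catenary_cpl hPQ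
    rw [coheight_eq_of_minimal hA (P := Q) hQ₀, coheight_eq_of_minimal hA (P := P) hP₀,
      ← height_Ici_add_coheight (hA.2 A inferInstance) h] at e1
    exact (ENat.addLECancellable_of_ne_top (Ega4Algebra1.coheight_ne_top A q)).inj_left.1 e1

/-- With `(S_n)` formal fibres the cutoff of the completion is bounded below. -/
theorem le_cutoff_cpl (hA : CAlg.IsUniversallyCatenary A) (I : Ideal A) (e : (EGA4.Cpl A) ⊗[A] M ≃ₗ[(EGA4.Cpl A)] N)
    (n : ℕ) (hF : EGA4.HasSnFormalFibres n A) :
    min ((n : ℕ∞) + 1) (Dual2.cutoff A I M) ≤ Dual2.cutoff (EGA4.Cpl A) (I.map (algebraMap A (EGA4.Cpl A))) N := by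
  haveI := Ega4b.isNoetherianRing_cpl A
  refine le_iInf fun P => le_iInf fun Q => le_iInf fun h => le_iInf fun hP => le_iInf fun hQ => ?_
  set p := ctr P
  set q := ctr Q
  have hpq : p ≤ q := Ideal.comap_mono h
  have hs : Dual2.cutoff A I M ≤ LocCoh.depth (Localization.AtPrime p.asIdeal)
      (LocalizedModule p.asIdeal.primeCompl M) + Order.height (⟨q, hpq⟩ : Set.Ici p) :=
    iInf_le_of_le p (iInf_le_of_le q (iInf_le_of_le hpq (iInf_le_of_le
      (fun hle => hP (Ideal.map_le_iff_le_comap.2 hle))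
      (iInf_le_of_le (Ideal.map_le_iff_le_comap.1 hQ) le_rfl))))
  letI := Ega4b.fibLocRing_isLocalRing A (EGA4.Cpl A) P.asIdeal
  rw [depth_localized_eq e]
  obtain ⟨d, hd⟩ : ∃ d : ℕ, ringKrullDim (EGA4.FibLocRing A (EGA4.Cpl A) P.asIdeal) = d :=
    LocCohTransform.DimCd.exists_nat_dim (A := Localization.AtPrime P.asIdeal)
    (J := (ctr P).asIdeal.map (algebraMap A (Localization.AtPrime P.asIdeal)))
    (Ideal.Quotient.nontrivial_iff.1 (inferInstance : Nontrivial (EGA4.FibLocRing A (EGA4.Cpl A) P.asIdeal)))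
  have hsk : Ega4b.SkLoc n (EGA4.FibLocRing A (EGA4.Cpl A) P.asIdeal) :=
    (Ega4b.hasSk_fiber_iff A (EGA4.Cpl A) n p.asIdeal).1 (hF p.asIdeal) P.asIdeal rfl
  rw [Ega4b.SkLoc, hd] at hsk
  have h1 := coheight_le_fibre_add hA P hd
  have h2 := coheight_le Q
  obtain ⟨cP, hcP⟩ := ENat.ne_top_iff_exists.1 (Ega4Algebra1.coheight_ne_top (EGA4.Cpl A) P)
  obtain ⟨cQ, hcQ⟩ := ENat.ne_top_iff_exists.1 (Ega4Algebra1.coheight_ne_top (EGA4.Cpl A) Q)
  obtain ⟨cp, hcp⟩ := ENat.ne_top_iff_exists.1 (Ega4Algebra1.coheight_ne_top A p)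
  obtain ⟨cq, hcq⟩ := ENat.ne_top_iff_exists.1 (Ega4Algebra1.coheight_ne_top A q)
  obtain ⟨k, hk⟩ := ENat.ne_top_iff_exists.1 (height_Ici_ne_top h)
  obtain ⟨l, hl⟩ := ENat.ne_top_iff_exists.1 (height_Ici_ne_top hpq)
  have e1 := height_Ici_add_coheight catenary_cpl h
  have e2 := height_Ici_add_coheight (hA.2 A inferInstance) hpq
  rw [← hcP, ← hcQ, ← hk] at e1
  rw [← hcp, ← hcq, ← hl] at e2
  rw [← hcp, ← hcP] at h1
  rw [← hcQ, ← hcq] at h2
  rw [← hl] at hs
  norm_cast at e1 e2 h1 h2
  have hk1 : 1 ≤ k := by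
    rcases Nat.eq_zero_or_pos k with h0 | h0
    · exfalso
      have : (⟨Q, h⟩ : Set.Ici P) ≤ ⟨P, Set.self_mem_Ici⟩ :=
        (Order.height_eq_zero.1 (show Order.height (⟨Q, h⟩ : Set.Ici P) = 0 by
          rw [← hk, h0]; rfl)) (show (⟨P, Set.self_mem_Ici⟩ : Set.Ici P) ≤ ⟨Q, h⟩ from h)
      exact hP (hQ.trans this)
    · exact h0
  rw [← hk]
  generalize LocCoh.depth (Localization.AtPrime p.asIdeal)
    (LocalizedModule p.asIdeal.primeCompl M) = D at hs ⊢
  generalize LocCoh.depth (EGA4.FibLocRing A (EGA4.Cpl A) P.asIdeal) (EGA4.FibLocRing A (EGA4.Cpl A) P.asIdeal) = f at hsk ⊢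
  rcases le_total n d with hnd | hnd
  · rw [min_eq_left (by exact_mod_cast hnd)] at hsk
    have hf : (n : ℕ∞) ≤ f := by exact_mod_cast hsk
    refine (min_le_left _ _).trans ?_
    rw [add_assoc]
    exact (add_le_add hf (show (1 : ℕ∞) ≤ k by exact_mod_cast hk1)).trans le_add_self
  · rw [min_eq_right (by exact_mod_cast hnd)] at hsk
    have hf : (d : ℕ∞) ≤ f := by exact_mod_cast hsk
    refine (min_le_right _ _).trans (hs.trans ?_)
    rw [add_assoc]
    refine add_le_add le_rfl (le_trans ?_ (add_le_add hf (le_refl (k : ℕ∞))))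
    norm_cast
    omega

end Completion

/-- Cohen–Macaulay formal fibres satisfy every `(S_n)`. -/
lemma hasSn_of_CM {A : Type u} [CommRing A] [IsLocalRing A] (hF : EGA4.HasCMFormalFibres A) (n : ℕ) :
    EGA4.HasSnFormalFibres n A := fun p _ => by
  haveI := hF p
  refine (Ega4b.hasSk_self_iff n _).2 fun Q _ => ?_
  have h := LocCoh.IsCohenMacaulayRing.isCohenMacaulayLocalRing_localization Q
  rw [Ega4b.SkLoc, ← h.supportDim_eq_depth, Module.supportDim_self_eq_ringKrullDim]
  exact min_le_right _ _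

/-- Below the cutoff the local cohomology is finite. -/
theorem finite_H_of_lt_cutoff {A : Type u} [CommRing A] [IsNoetherianRing A]
    (hA : CAlg.IsUniversallyCatenary A)
    (hF : ∀ q : PrimeSpectrum A, EGA4.HasCMFormalFibres (Localization.AtPrime q.asIdeal))
    (I : Ideal A) (M : Type u) [AddCommGroup M] [Module A M] [Module.Finite A M] (i : ℕ)
    (hi : (i : ℕ∞) < Dual2.cutoff A I M) : Module.Finite A (LocCoh.H I i M) := by
  refine finite_H_of_locally I i M (fun r _ l hl => ?_) i le_rfl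
  set S := Localization.AtPrime r
  set M' := LocalizedModule r.primeCompl M
  haveI : Module.Finite S M' :=
    Module.Finite.of_isLocalizedModule r.primeCompl (LocalizedModule.mkLinearMap r.primeCompl M)
  haveI := LocDual.isNoetherianRing_cpl S
  haveI := LocDual.faithfullyFlat_cpl S
  set C := AdicCompletion (maximalIdeal S) S
  haveI : IsAdicComplete (maximalIdeal C) C := by
    rw [AdicCompletion.maximalIdeal_eq_map]
    exact AdicLinTop.CompletionQuot.isAdicComplete_map _ (IsNoetherian.noetherian _)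
  obtain ⟨Rg, _, _, π, hπ⟩ := LocDual.exists_regularLocal_surjection C
  letI := π.toAlgebra
  haveI := Ega4b.isRegularRing_of_isRegularLocalRing Rg
  suffices Module.Finite S (LocCoh.H (I.map (algebraMap A S)) l M') by
    obtain ⟨e⟩ := LocCohTransform.nonempty_baseChange_equiv S I M l
    exact Module.Finite.equiv (((LocalizedModule.equivTensorProduct r.primeCompl _).trans e).trans
      (Kollar.HEquiv (I.map (algebraMap A S)) l
        (LocalizedModule.equivTensorProduct r.primeCompl M).symm)).symm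
  set J := I.map (algebraMap A S)
  set JC := J.map (algebraMap S C)
  have h1 : ((i : ℕ∞) + 1) ≤ Dual2.cutoff S J M' := by
    refine le_trans (Order.add_one_le_of_lt hi) ?_
    rw [cutoff_eq_minAdjDepth, cutoff_eq_minAdjDepth]
    exact LocCohTransform.minAdjDepth_le_localization I I M r.primeCompl
  have h2 : ((i : ℕ∞) + 1) ≤ LocCoh.finDimRel JC JC (C ⊗[S] M') := by
    refine le_trans ?_ (LocCohTransform.minAdjDepth_le_finDimRel_of_regular hπ JC JC _)
    rw [← cutoff_eq_minAdjDepth]
    refine le_trans (le_min le_rfl h1) (le_cutoff_cpl (PropsBasic.Cat.isUniversallyCatenary_atPrime r hA S)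
      J (LinearEquiv.refl _ _) i (hasSn_of_CM (hF ⟨r, inferInstance⟩) i))
  have h3 : ∀ j, j ≤ i → JC ≤ (Module.annihilator C (LocCoh.H JC j (C ⊗[S] M'))).radical := by
    intro j hj
    by_contra hno
    have h4 := h2.trans (iInf₂_le j hno)
    have : i + 1 ≤ j := by exact_mod_cast h4
    omega
  obtain ⟨k, hk⟩ : ∃ k, ∀ j, j ≤ i → JC ^ k ≤ Module.annihilator C (LocCoh.H JC j (C ⊗[S] M')) := by
    choose k hk using fun j (hj : j ≤ i) => Ideal.exists_pow_le_of_le_radical_of_fg (h3 j hj)
      (IsNoetherian.noetherian JC)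
    refine ⟨∑ j : Fin (i + 1), k j.1 (by omega), fun j hj => le_trans (Ideal.pow_le_pow_right ?_) (hk j hj)⟩
    exact Finset.single_le_sum (f := fun j : Fin (i + 1) => k j.1 (by omega))
      (fun _ _ => Nat.zero_le _) (Finset.mem_univ ⟨j, by omega⟩)
  haveI := finite_H_of_annihilated JC i k _ hk l hl
  obtain ⟨e⟩ := LocCohTransform.nonempty_baseChange_equiv C J M' l
  haveI := Module.Finite.equiv e.symm
  exact Module.Finite.of_finite_tensorProduct_of_faithfullyFlat C

/-- At the cutoff it is not. -/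
theorem not_finite_H_cutoff {A : Type u} [CommRing A] [IsNoetherianRing A]
    (hA : CAlg.IsUniversallyCatenary A)
    (hF : ∀ q : PrimeSpectrum A, EGA4.HasCMFormalFibres (Localization.AtPrime q.asIdeal))
    (I : Ideal A) (M : Type u) [AddCommGroup M] [Module A M] [Module.Finite A M] (s : ℕ)
    (hs : Dual2.cutoff A I M = s) : ¬ Module.Finite A (LocCoh.H I s M) := by
  intro hfin
  have h1 : ((s : ℕ∞) + 1) ≤ LocCoh.finDimRel I I M := by
    refine le_iInf₂ fun i hi => ?_
    by_contra hlt
    push Not at hlt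
    have hle : i ≤ s := by
      have : i < s + 1 := by exact_mod_cast hlt
      omega
    haveI : Module.Finite A (LocCoh.H I i M) := by
      rcases Nat.lt_or_eq_of_le hle with h | rfl
      · exact finite_H_of_lt_cutoff hA hF I M i (by rw [hs]; exact_mod_cast h)
      · exact hfin
    obtain ⟨k, hk⟩ := exists_pow_le_annihilator_H I i M
    exact hi fun a ha => ⟨k, hk (Ideal.pow_mem_pow ha k)⟩
  have h2 := h1.trans (LocCohTransform.finDimRel_le_minAdjDepth I I M)
  rw [← cutoff_eq_minAdjDepth, hs] at h2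
  have : s + 1 ≤ s := by exact_mod_cast h2
  omega

end Groth.LocFinite.CutoffFormal
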