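import Groth.Agent.LocFinite.Cx
import Groth.Agent.LocDual.ExtLocal
import Mathlib.LinearAlgebra.Dual.Lemmas

/-!
The dual of a finite projective resolution, and the degree zero cocycles of it in an injective
resolution of the ring.
-/

set_option autoImplicit false
universe u

open CategoryTheory GrothGoren Groth.LocDual

namespace Groth.LocFinite

variable {R : Type u} [CommRing R]

/-- Change the sign of the differential. -/
abbrev Cx.neg (C : Cx R) : Cx R where
  X := C.X
  d n := -(C.d n)
  d_comp n x := by simp [C.d_comp]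

/-- Prepend a term. -/
abbrev Cx.cons (A : ModuleCat.{u} R) (D : Cx R) (a : A →ₗ[R] D.X 0)
    (ha : ∀ x, D.d 0 (a x) = 0) : Cx R where
  X
    | 0 => A
    | n + 1 => D.X n
  d
    | 0 => a
    | n + 1 => D.d n
  d_comp
    | 0 => ha
    | n + 1 => D.d_comp n

/-- A complex of injective modules resolving `R`. -/
structure IsRes (J : Cx R) (η : R →ₗ[R] J.X 0) : Prop where
  inj : J.Inj
  exact : J.Exact
  η_inj : Function.Injective η
  ker_d : ∀ x, J.d 0 x = 0 ↔ ∃ r, η r = x

lemma IsRes.neg {J : Cx R} {η : R →ₗ[R] J.X 0} (h : IsRes J η) : IsRes J.neg η where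
  inj := h.inj
  exact n x hx := by
    obtain ⟨y, hy⟩ := h.exact n x (neg_eq_zero.1 (show -(J.d (n + 1) x) = 0 from hx))
    refine ⟨-y, ?_⟩
    show -(J.d n (-y)) = x
    rw [map_neg, neg_neg, hy]
  η_inj := h.η_inj
  ker_d x := by
    show -(J.d 0 x) = 0 ↔ _
    rw [neg_eq_zero]
    exact h.ker_d x

lemma IsRes.d_η {J : Cx R} {η : R →ₗ[R] J.X 0} (h : IsRes J η) (r : R) : J.d 0 (η r) = 0 :=
  (h.ker_d _).2 ⟨r, rfl⟩

/-- The cohomology of a complex. -/
abbrev Cx.E (D : Cx R) : ℕ → ModuleCat.{u} R
  | 0 => ModuleCat.of R (LinearMap.ker (D.d 0))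
  | q + 1 => ModuleCat.of R (LinearMap.ker (D.d (q + 1)) ⧸
      (LinearMap.range (D.d q)).comap (LinearMap.ker (D.d (q + 1))).subtype)

/-- The data of a dualised finite projective resolution of `M`. -/
structure DualRes (M : Type u) [AddCommGroup M] [Module R M] where
  D : Cx R
  len : ℕ
  fin : D.Fin
  proj : D.Proj
  bdd : D.Bdd len
  ι : (M →ₗ[R] R) →ₗ[R] D.X 0
  ι_inj : Function.Injective ι
  ι_range : LinearMap.range ι = LinearMap.ker (D.d 0)
  ext : ∀ q, Nonempty (D.E q ≃ₗ[R] Abelian.Ext (ModuleCat.of R M) (ModuleCat.of R R) q)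
  bridge : ∀ (J : Cx R) (η : R →ₗ[R] J.X 0), IsRes J η → ∃ κ : K J D →ₗ[R] M,
    Function.Surjective κ ∧ Module.Injective R (LinearMap.ker κ) ∧
      ∀ (h : K J D) (φ : M →ₗ[R] R), h.1 0 (ι φ) = η (φ (κ h))

variable (M : Type u) [AddCommGroup M] [Module R M] [Module.Finite R M]

section Base

variable [Module.Projective R M]

/-- The complex with the dual of `M` in degree zero. -/
abbrev baseCx : Cx R where
  X
    | 0 => ModuleCat.of R (M →ₗ[R] R)
    | _ + 1 => ModuleCat.of R PUnit.{u + 1}
  d _ := 0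
  d_comp _ _ := rfl

theorem nonempty_dualRes_of_projective : Nonempty (DualRes (R := R) M) := by
  have hsub : ∀ n, Subsingleton ((baseCx (R := R) M).X (n + 1)) := fun n =>
    (inferInstance : Subsingleton PUnit.{u + 1})
  refine ⟨⟨baseCx M, 1, ?_, ?_, ?_, LinearMap.id, fun _ _ h => h, ?_, ?_, ?_⟩⟩
  · intro n
    cases n with
    | zero => exact (inferInstance : Module.Finite R (Module.Dual R M))
    | succ n => exact (inferInstance : Module.Finite R PUnit.{u + 1})
  · intro n
    cases n with
    | zero => exact (inferInstance : Module.Projective R (Module.Dual R M))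
    | succ n => exact (inferInstance : Module.Projective R PUnit.{u + 1})
  · intro n hn
    obtain ⟨k, rfl⟩ : ∃ k, n = k + 1 := ⟨n - 1, by omega⟩
    exact hsub k
  · exact LinearMap.range_id.trans LinearMap.ker_zero.symm
  · intro q
    cases q with
    | zero =>
      exact ⟨(LinearEquiv.ofTop _ LinearMap.ker_zero).trans
        ((Abelian.Ext.linearEquiv₀ (R := R)).trans
          (ModuleCat.homLinearEquiv (S := R) (M := ModuleCat.of R M) (N := ModuleCat.of R R))).symm⟩
    | succ q =>
      haveI := hsub q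
      haveI : Subsingleton ((baseCx (R := R) M).E (q + 1)) :=
        (Submodule.mkQ_surjective
          ((LinearMap.range ((baseCx (R := R) M).d q)).comap
            (LinearMap.ker ((baseCx (R := R) M).d (q + 1))).subtype)).subsingleton
      haveI : Subsingleton (Abelian.Ext (ModuleCat.of R M) (ModuleCat.of R R) (q + 1)) :=
        extZ_of_projective
      exact ⟨LinearEquiv.ofSubsingleton _ _⟩
  · intro J η hJ
    have h0 : ∀ (h : K J (baseCx M)) (φ : M →ₗ[R] R), ∃ r, η r = h.1 0 φ := fun h φ => by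
      rw [← hJ.ker_d]
      have h1 := (mem_K J (baseCx M)).1 h.2 0 φ
      haveI := hsub 0
      rw [Subsingleton.elim ((baseCx M).d 0 φ) 0, map_zero, add_zero] at h1
      exact h1
    choose r hr using h0
    let κ₀ : K J (baseCx M) →ₗ[R] Module.Dual R (Module.Dual R M) :=
      LinearMap.mk₂ R r
        (fun h h' φ => hJ.η_inj (by rw [map_add, hr, hr, hr]; rfl))
        (fun c h φ => hJ.η_inj (by rw [map_smul, hr, hr]; rfl))
        (fun h φ ψ => hJ.η_inj (by rw [map_add, hr, hr, hr]; exact map_add (h.1 0) φ ψ))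
        (fun c h φ => hJ.η_inj (by rw [map_smul, hr, hr]; exact map_smul (h.1 0) c φ))
    refine ⟨(Module.evalEquiv R M).symm.toLinearMap ∘ₗ κ₀, ?_, ?_, fun h φ => ?_⟩
    · intro m
      let h : W J (baseCx M) := fun
        | 0 => η ∘ₗ Module.Dual.eval R M m
        | _ + 1 => 0
      have hh : h ∈ K J (baseCx M) := (mem_K J (baseCx M)).2 fun j x => by
        cases j with
        | zero =>
          show J.d 0 (η (Module.Dual.eval R M m x)) + 0 = 0
          rw [add_zero, hJ.d_η]
        | succ j =>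
          show J.d (j + 1) 0 + 0 = 0
          rw [map_zero, add_zero]
      refine ⟨⟨h, hh⟩, ?_⟩
      rw [LinearMap.comp_apply]
      refine (Module.evalEquiv R M).symm_apply_eq.2 (LinearMap.ext fun φ => hJ.η_inj ?_)
      exact hr ⟨h, hh⟩ φ
    · have hinj : Function.Injective ((Module.evalEquiv R M).symm.toLinearMap ∘ₗ κ₀) := by
        refine (Module.evalEquiv R M).symm.injective.comp ?_
        rw [injective_iff_map_eq_zero]
        intro h hh
        refine Subtype.ext (funext fun j => ?_)
        cases j with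
        | zero =>
          refine LinearMap.ext fun φ => ?_
          rw [← hr h φ, show r h φ = 0 from LinearMap.congr_fun hh φ, map_zero]
          rfl
        | succ j =>
          haveI := hsub j
          exact LinearMap.ext fun x => by rw [Subsingleton.elim x 0, map_zero, map_zero]
      haveI : Subsingleton (LinearMap.ker ((Module.evalEquiv R M).symm.toLinearMap ∘ₗ κ₀)) := by
        rw [LinearMap.ker_eq_bot.2 hinj]
        infer_instance
      exact GrothGoren.injLT_one_iff.1 (GrothGoren.injLT_mono (Nat.zero_le 1)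
        (GrothGoren.injLT_zero_iff.2 inferInstance))
    · show h.1 0 φ = η (φ ((Module.evalEquiv R M).symm (κ₀ h)))
      rw [Module.apply_evalEquiv_symm_apply]
      exact (hr h φ).symm

end Base

section Step

variable {M} {P : Type u} [AddCommGroup P] [Module R P] [Module.Finite R P] [Module.Projective R P]
  {π : P →ₗ[R] M}

theorem nonempty_dualRes_of_kernel (hπ : Function.Surjective π)
    (hK : Nonempty (DualRes (R := R) (LinearMap.ker π))) : Nonempty (DualRes (R := R) M) := by
  obtain ⟨S⟩ := hK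
  set inc := (LinearMap.ker π).subtype with hinc'
  have hex : Function.Exact inc π := LinearMap.exact_subtype_ker_map π
  have hinc : Function.Injective inc := Submodule.injective_subtype _
  have hdι : ∀ ψ, S.D.d 0 (S.ι ψ) = 0 := fun ψ =>
    LinearMap.mem_ker.1 (S.ι_range ▸ LinearMap.mem_range_self S.ι ψ)
  let a : (P →ₗ[R] R) →ₗ[R] S.D.X 0 := S.ι ∘ₗ LinearMap.lcomp R R inc
  have hda : ∀ φ, S.D.d 0 (a φ) = 0 := fun φ => hdι _
  let D : Cx R := Cx.cons (ModuleCat.of R (P →ₗ[R] R)) S.D a fun _ => hdι _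
  have hfac : ∀ φ : P →ₗ[R] R, φ ∘ₗ inc = 0 → ∃ ψ : M →ₗ[R] R, ψ ∘ₗ π = φ := fun φ hφ => by
    have hle : LinearMap.ker π ≤ LinearMap.ker φ := fun v hv => LinearMap.congr_fun hφ ⟨v, hv⟩
    refine ⟨(LinearMap.ker π).liftQ φ hle ∘ₗ
      (π.quotKerEquivOfSurjective hπ).symm.toLinearMap, LinearMap.ext fun v => ?_⟩
    show (LinearMap.ker π).liftQ φ hle ((π.quotKerEquivOfSurjective hπ).symm (π v)) = φ v
    rw [show (π.quotKerEquivOfSurjective hπ).symm (π v) = Submodule.Quotient.mk v from
      (π.quotKerEquivOfSurjective hπ).symm_apply_eq.2 rfl]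
    rfl
  have hrange : LinearMap.range (LinearMap.lcomp R R π) = LinearMap.ker a := by
    ext φ
    constructor
    · rintro ⟨ψ, rfl⟩
      show S.ι ((ψ ∘ₗ π) ∘ₗ inc) = 0
      rw [LinearMap.comp_assoc, show π ∘ₗ inc = 0 from π.comp_ker_subtype, LinearMap.comp_zero,
        map_zero]
    · intro hφ
      obtain ⟨ψ, hψ⟩ := hfac φ (S.ι_inj (hφ.trans (map_zero S.ι).symm))
      exact ⟨ψ, hψ⟩
  refine ⟨⟨D, S.len + 1, ?_, ?_, ?_, LinearMap.lcomp R R π,
    LinearMap.lcomp_injective_of_surjective π hπ, hrange, ?_, ?_⟩⟩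
  · intro n
    cases n with
    | zero => exact (inferInstance : Module.Finite R (Module.Dual R P))
    | succ n => exact S.fin n
  · intro n
    cases n with
    | zero => exact (inferInstance : Module.Projective R (Module.Dual R P))
    | succ n => exact S.proj n
  · intro n hn
    obtain ⟨k, rfl⟩ : ∃ k, n = k + 1 := ⟨n - 1, by omega⟩
    exact S.bdd k (by omega)
  · intro q
    match q with
    | 0 =>
      exact ⟨((LinearEquiv.ofInjective _ (LinearMap.lcomp_injective_of_surjective π hπ)).trans
        (LinearEquiv.ofEq _ _ hrange)).symm.trans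
        ((Abelian.Ext.linearEquiv₀ (R := R)).trans
          (ModuleCat.homLinearEquiv (S := R) (M := ModuleCat.of R M) (N := ModuleCat.of R R))).symm⟩
    | 1 =>
      set d₀ := extShift₀ hex hinc hπ
      have hd₀ : Function.Surjective d₀ := extShift₀_surjective hex hinc hπ
      let u : (↥(LinearMap.ker π) →ₗ[R] R) ≃ₗ[R] LinearMap.ker (S.D.d 0) :=
        (LinearEquiv.ofInjective S.ι S.ι_inj).trans (LinearEquiv.ofEq _ _ S.ι_range)
      let v : LinearMap.ker (S.D.d 0) →ₗ[R]
          Abelian.Ext (ModuleCat.of R M) (ModuleCat.of R R) 1 := d₀ ∘ₗ u.symm.toLinearMap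
      have hv : Function.Surjective v := hd₀.comp u.symm.surjective
      have hker : (LinearMap.range a).comap (LinearMap.ker (S.D.d 0)).subtype = LinearMap.ker v := by
        ext z
        constructor
        · rintro ⟨φ, hφ⟩
          show d₀ (u.symm z) = 0
          rw [extShift₀_eq_zero_iff]
          exact ⟨φ, u.eq_symm_apply.2 (Subtype.ext hφ)⟩
        · intro hz
          obtain ⟨φ, hφ⟩ := (extShift₀_eq_zero_iff hex hinc hπ _).1 hz
          exact ⟨φ, congrArg Subtype.val (u.eq_symm_apply.1 hφ)⟩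
      exact ⟨(Submodule.quotEquivOfEq _ _ hker).trans (v.quotKerEquivOfSurjective hv)⟩
    | q + 2 =>
      obtain ⟨e⟩ := S.ext (q + 1)
      exact ⟨e.trans (LinearEquiv.ofBijective _ (extShift_bijective hex hinc hπ q))⟩
  · intro J η hJ
    obtain ⟨κK, hκs, hκi, hκspec⟩ := S.bridge J.neg η hJ.neg
    haveI := hκi
    have hsurjbd := bd_surjective hJ.neg.exact S.proj S.bdd
    -- `Φ (p, g)` is the cocycle built from an element of `P` and a cochain of the tail
    let Φ₀ : (P × W J S.D) →ₗ[R] W J D := LinearMap.pi fun j =>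
      match j with
      | 0 => (LinearMap.llcomp R (P →ₗ[R] R) R (J.X 0) η) ∘ₗ Module.Dual.eval R P ∘ₗ
          LinearMap.fst R P (W J S.D) +
            LinearMap.lcomp R (J.X 0) a ∘ₗ LinearMap.proj 0 ∘ₗ LinearMap.snd R P (W J S.D)
      | j + 1 => LinearMap.proj j ∘ₗ (cy J.neg S.D).subtype ∘ₗ bd J.neg S.D ∘ₗ
          LinearMap.snd R P (W J S.D)
    have hΦ0 : ∀ (p : P) (g : W J S.D) (φ : P →ₗ[R] R), Φ₀ (p, g) 0 φ = η (φ p) + g 0 (a φ) := fun p g φ => rfl
    have hΦs : ∀ (p : P) (g : W J S.D) (j : ℕ) (x : S.D.X j),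
        Φ₀ (p, g) (j + 1) x = -(J.d j (g j x)) + g (j + 1) (S.D.d j x) := fun p g j x => rfl
    have hΦK : ∀ z, Φ₀ z ∈ K J D := fun ⟨p, g⟩ => (mem_K J D).2 fun j x => by
      cases j with
      | zero =>
        show J.d 0 (Φ₀ (p, g) 0 x) + Φ₀ (p, g) (0 + 1) (a x) = 0
        rw [hΦ0, hΦs, map_add, hJ.d_η, hda, map_zero, add_zero]
        rw [add_assoc, add_neg_cancel, add_zero]
      | succ j =>
        show J.d (j + 1) (Φ₀ (p, g) (j + 1) x) + Φ₀ (p, g) (j + 1 + 1) (S.D.d j x) = 0
        rw [hΦs, hΦs, S.D.d_comp, map_zero, add_zero, map_add, map_neg, J.d_comp, neg_zero,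
          zero_add]
        exact add_neg_cancel _
    let Φ : (P × W J S.D) →ₗ[R] K J D := Φ₀.codRestrict _ hΦK
    have hΦsurj : Function.Surjective Φ := by
      rintro ⟨h, hh⟩
      have hK := (mem_K J D).1 hh
      let t : cy J.neg S.D := ⟨fun j => h (j + 1), fun j x => by
        show -(J.d (j + 1) (h (j + 1) x)) = h (j + 1 + 1) (S.D.d j x)
        exact (neg_eq_of_add_eq_zero_right (hK (j + 1) x))⟩
      obtain ⟨g, hg⟩ := hsurjbd t
      have hgj : ∀ j (x : S.D.X j), -(J.d j ((g : W J S.D) j x)) + (g : W J S.D) (j + 1) (S.D.d j x)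
          = h (j + 1) x := fun j x =>
        LinearMap.congr_fun (congrFun (congrArg Subtype.val hg) j) x
      have h0 : ∀ φ : P →ₗ[R] R, ∃ r, η r = h 0 φ - g 0 (a φ) := fun φ => by
        rw [← hJ.ker_d, map_sub]
        have h1 : J.d 0 (h 0 φ) + h (0 + 1) (a φ) = 0 := hK 0 φ
        rw [← hgj 0 (a φ), hda, map_zero, add_zero, ← sub_eq_add_neg] at h1
        exact h1
      choose r hr using h0
      let rl : Module.Dual R (Module.Dual R P) :=
        { toFun := r
          map_add' := fun φ ψ => hJ.η_inj (by rw [map_add, hr, hr, hr, map_add, map_add, map_add]; abel)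
          map_smul' := fun c φ => hJ.η_inj (by
            simp only [map_smul, RingHom.id_apply, hr, smul_sub]) }
      refine ⟨((Module.evalEquiv R P).symm rl, g), Subtype.ext (funext fun j => ?_)⟩
      cases j with
      | zero =>
        refine LinearMap.ext fun φ => ?_
        show Φ₀ ((Module.evalEquiv R P).symm rl, g) 0 φ = h 0 φ
        rw [hΦ0, Module.apply_evalEquiv_symm_apply]
        show η (r φ) + g 0 (a φ) = h 0 φ
        rw [hr, sub_add_cancel]
      | succ j => exact LinearMap.ext fun x => (hΦs _ g j x).trans (hgj j x)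
    have hspec₀ : ∀ (g : K J.neg S.D) (φ : P →ₗ[R] R),
        (g.1 : W J S.D) 0 (a φ) = η (φ (inc (κK g))) :=
      fun g φ => hκspec g _
    let q : (P × W J S.D) →ₗ[R] M := π ∘ₗ LinearMap.fst R P _
    have hle : LinearMap.ker Φ ≤ LinearMap.ker q := by
      rintro ⟨p, g⟩ hz
      have hz' : Φ₀ (p, g) = 0 := congrArg Subtype.val hz
      have hgK : g ∈ K J.neg S.D := Subtype.ext (funext fun j => congrFun hz' (j + 1))
      have hp : ∀ φ : P →ₗ[R] R, φ (p + inc (κK ⟨g, hgK⟩)) = φ 0 := fun φ => hJ.η_inj (by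
        rw [map_add, map_add, ← hspec₀, map_zero, map_zero, ← hΦ0 p g φ, hz']
        rfl)
      have hp0 : p + inc (κK ⟨g, hgK⟩) = 0 :=
        (Module.evalEquiv R P).injective (LinearMap.ext fun φ => hp φ)
      show π p = 0
      rw [eq_neg_of_add_eq_zero_left hp0, map_neg, hex.apply_apply_eq_zero, neg_zero]
    let κ : K J D →ₗ[R] M := (LinearMap.ker Φ).liftQ q hle ∘ₗ
      (Φ.quotKerEquivOfSurjective hΦsurj).symm.toLinearMap
    have hκΦ : ∀ z, κ (Φ z) = q z := fun z => by
      show (LinearMap.ker Φ).liftQ q hle ((Φ.quotKerEquivOfSurjective hΦsurj).symm (Φ z)) = _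
      rw [show (Φ.quotKerEquivOfSurjective hΦsurj).symm (Φ z) = Submodule.Quotient.mk z from
        (Φ.quotKerEquivOfSurjective hΦsurj).symm_apply_eq.2 rfl]
      rfl
    refine ⟨κ, fun m => ?_, ?_, fun h φ => ?_⟩
    · obtain ⟨p, rfl⟩ := hπ m
      exact ⟨Φ (p, 0), hκΦ _⟩
    · -- the kernel is a quotient of the injective cochains by an injective submodule
      haveI hW : Module.Injective R (W J S.D) := injective_W hJ.neg.inj S.fin S.proj
      let Ψ : W J S.D →ₗ[R] K J D := Φ ∘ₗ LinearMap.inr R P _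
      have hrangeΨ : LinearMap.range Ψ = LinearMap.ker κ := by
        ext h
        constructor
        · rintro ⟨g, rfl⟩
          show κ (Φ (0, g)) = 0
          rw [hκΦ]
          exact map_zero π
        · intro hh
          obtain ⟨⟨p, g⟩, rfl⟩ := hΦsurj h
          have hp : π p = 0 := by rw [LinearMap.mem_ker, hκΦ] at hh; exact hh
          obtain ⟨g₁, hg₁⟩ := hκs ⟨p, hp⟩
          let g₂ : W J S.D := g₁.1
          refine ⟨g + g₂, Subtype.ext ?_⟩
          show Φ₀ (0, g + g₂) = Φ₀ (p, g)
          refine funext fun j => LinearMap.ext fun x => ?_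
          cases j with
          | zero =>
            rw [hΦ0, hΦ0, LinearMap.map_zero, map_zero, zero_add]
            show g 0 (a x) + g₂ 0 (a x) = _
            rw [hspec₀ g₁ x, hg₁, add_comm]
            rfl
          | succ j =>
            have h1 : -(J.d j (g₂ j x)) + g₂ (j + 1) (S.D.d j x) = 0 :=
              (mem_K J.neg S.D).1 g₁.2 j x
            rw [hΦs, hΦs, Pi.add_apply, Pi.add_apply, LinearMap.add_apply, LinearMap.add_apply,
              map_add, neg_add, add_add_add_comm, h1, add_zero]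
      have hkerΨ : LinearMap.ker Ψ = (LinearMap.ker κK).map (K J.neg S.D).subtype := by
        ext g
        constructor
        · intro hg
          have hz' : Φ₀ (0, g) = 0 := congrArg Subtype.val hg
          have hgK : g ∈ K J.neg S.D := Subtype.ext (funext fun j => congrFun hz' (j + 1))
          refine ⟨⟨g, hgK⟩, ?_, rfl⟩
          refine hinc ((Module.evalEquiv R P).injective (LinearMap.ext fun φ => hJ.η_inj ?_))
          show η (φ (inc (κK ⟨g, hgK⟩))) = η (φ (inc 0))
          rw [← hspec₀, map_zero, map_zero, map_zero, ← zero_add (g 0 (a φ)), ← map_zero η,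
            ← map_zero φ, ← hΦ0, hz', map_zero, map_zero]
          rfl
        · rintro ⟨g₁, hg₁, rfl⟩
          refine Subtype.ext (funext fun j => LinearMap.ext fun x => ?_)
          show Φ₀ (0, g₁.1) j x = 0
          cases j with
          | zero =>
            rw [hΦ0, LinearMap.map_zero, map_zero, zero_add, hspec₀ g₁ x,
              LinearMap.mem_ker.1 hg₁, map_zero, map_zero, map_zero]
          | succ j => exact (hΦs 0 g₁.1 j x).trans ((mem_K J.neg S.D).1 g₁.2 j x)
      haveI : Module.Injective R (LinearMap.ker Ψ) :=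
        GrothMatlis.injective_of_equiv hκi ((LinearEquiv.ofEq _ _ hkerΨ).trans
          (Submodule.equivMapOfInjective _ (Submodule.injective_subtype _) _).symm)
      obtain ⟨C, hC⟩ := GrothMatlis.exists_isCompl_of_injective_submodule (A := LinearMap.ker Ψ)
        inferInstance
      have hCinj : Module.Injective R C := GrothMatlis.injective_of_isCompl hW hC.symm
      exact GrothMatlis.injective_of_equiv hCinj
        ((LinearEquiv.ofEq _ _ hrangeΨ.symm).trans
          ((Ψ.quotKerEquivRange).symm.trans (Submodule.quotientEquivOfIsCompl _ _ hC)))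
    · obtain ⟨⟨p, g⟩, rfl⟩ := hΦsurj h
      rw [hκΦ]
      show Φ₀ (p, g) 0 (φ ∘ₗ π) = η (φ (π p))
      rw [hΦ0]
      show η (φ (π p)) + g 0 (S.ι ((φ ∘ₗ π) ∘ₗ inc)) = _
      rw [LinearMap.comp_assoc, show π ∘ₗ inc = 0 from π.comp_ker_subtype, LinearMap.comp_zero,
        map_zero, map_zero, add_zero]

end Step

end Groth.LocFinite
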