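import Groth.Agent.LocFinite.Cx
import Groth.Agent.LocFinite.Resolution
import Mathlib.RingTheory.Noetherian.Basic

/-!
Finiteness of the cocycle classes from finiteness on each cohomology module.
-/

set_option autoImplicit false
universe u

open CategoryTheory

namespace Groth.LocFinite

variable {R : Type u} [CommRing R] (C : Cx R)

/-- Degree `q + 1` cocycles with values in `C` on a module. -/
def tcy (q : ℕ) (N : Type u) [AddCommGroup N] [Module R N] : Submodule R (N →ₗ[R] C.X (q + 1)) where
  carrier := {z | ∀ x, C.d (q + 1) (z x) = 0}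
  add_mem' := fun {a b} ha hb x => by simp [ha x, hb x]
  zero_mem' := fun x => by simp
  smul_mem' := fun c a ha x => by simp [ha x]

/-- Coboundary on a module. -/
def tbd (q : ℕ) (N : Type u) [AddCommGroup N] [Module R N] : (N →ₗ[R] C.X q) →ₗ[R] tcy C q N where
  toFun w := ⟨C.d q ∘ₗ w, fun x => C.d_comp q (w x)⟩
  map_add' w w' := Subtype.ext (LinearMap.comp_add _ _ _)
  map_smul' c w := Subtype.ext (LinearMap.comp_smul _ _ _)

/-- The cohomology of `Hom(N, C)` in degree `q + 1`. -/
abbrev T (q : ℕ) (N : Type u) [AddCommGroup N] [Module R N] : Type u :=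
  tcy C q N ⧸ LinearMap.range (tbd C q N)

variable {C}

lemma finite_T_of_equiv {q : ℕ} {N N' : Type u} [AddCommGroup N] [Module R N] [AddCommGroup N']
    [Module R N'] (e : N ≃ₗ[R] N') (h : Module.Finite R (T C q N)) :
    Module.Finite R (T C q N') := by
  let F : tcy C q N →ₗ[R] tcy C q N' :=
    { toFun := fun z => ⟨z.1 ∘ₗ e.symm.toLinearMap, fun x => z.2 (e.symm x)⟩
      map_add' := fun _ _ => rfl
      map_smul' := fun _ _ => rfl }
  have hle : LinearMap.range (tbd C q N) ≤
      (LinearMap.range (tbd C q N')).comap F := by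
    rintro _ ⟨w, rfl⟩
    exact ⟨w ∘ₗ e.symm.toLinearMap, rfl⟩
  refine Module.Finite.of_surjective (Submodule.mapQ _ _ F hle) fun y => ?_
  obtain ⟨z, rfl⟩ := Submodule.mkQ_surjective _ y
  refine ⟨Submodule.Quotient.mk ⟨z.1 ∘ₗ e.toLinearMap, fun x => z.2 (e x)⟩, ?_⟩
  exact congrArg Submodule.Quotient.mk
    (Subtype.ext (LinearMap.ext fun x => congrArg z.1 (e.apply_symm_apply x)))

/-- The complex with degree zero removed and degree one reduced modulo boundaries. -/
abbrev Cx.trunc (D : Cx R) : Cx R where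
  X
    | 0 => ModuleCat.of R (D.X 1 ⧸ LinearMap.range (D.d 0))
    | n + 1 => D.X (n + 2)
  d
    | 0 => (LinearMap.range (D.d 0)).liftQ (D.d 1) (by
        rintro _ ⟨x, rfl⟩
        exact D.d_comp 0 x)
    | n + 1 => D.d (n + 2)
  d_comp
    | 0 => fun x => by
      obtain ⟨y, rfl⟩ := Submodule.mkQ_surjective _ x
      exact D.d_comp 1 y
    | n + 1 => fun x => D.d_comp (n + 2) x

lemma nonempty_trunc_E (D : Cx R) : ∀ q, Nonempty (D.E (q + 1) ≃ₗ[R] D.trunc.E q) := by
  intro q
  match q with
  | 0 =>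
    let φ : LinearMap.ker (D.d 1) →ₗ[R] LinearMap.ker (D.trunc.d 0) :=
      ((LinearMap.range (D.d 0)).mkQ ∘ₗ (LinearMap.ker (D.d 1)).subtype).codRestrict _
        fun x => x.2
    have hφ : Function.Surjective φ := fun y => by
      obtain ⟨z, hz⟩ := Submodule.mkQ_surjective _ y.1
      refine ⟨⟨z, ?_⟩, Subtype.ext hz⟩
      have := y.2
      rw [LinearMap.mem_ker, ← hz] at this
      exact this
    have hker : (LinearMap.range (D.d 0)).comap (LinearMap.ker (D.d 1)).subtype =
        LinearMap.ker φ := by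
      ext x
      constructor
      · intro hx
        exact Subtype.ext ((Submodule.Quotient.mk_eq_zero _).2 hx)
      · intro hx
        exact (Submodule.Quotient.mk_eq_zero (LinearMap.range (D.d 0))).1 (congrArg Subtype.val hx)
    exact ⟨(Submodule.quotEquivOfEq _ _ hker).trans (φ.quotKerEquivOfSurjective hφ)⟩
  | 1 =>
    refine ⟨Submodule.quotEquivOfEq _ _ ?_⟩
    congr 1
    exact (Submodule.range_liftQ _ _ _).symm
  | q + 2 => exact ⟨LinearEquiv.refl R _⟩

/-- Transport of `T` along an isomorphism. -/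
lemma exists_surjection_T_of_equiv {q : ℕ} {N N' : Type u} [AddCommGroup N] [Module R N]
    [AddCommGroup N'] [Module R N'] (e : N ≃ₗ[R] N') :
    ∃ F : T C q N →ₗ[R] T C q N', Function.Surjective F := by
  let F : tcy C q N →ₗ[R] tcy C q N' :=
    { toFun := fun z => ⟨z.1 ∘ₗ e.symm.toLinearMap, fun x => z.2 (e.symm x)⟩
      map_add' := fun _ _ => rfl
      map_smul' := fun _ _ => rfl }
  have hle : LinearMap.range (tbd C q N) ≤
      (LinearMap.range (tbd C q N')).comap F := by
    rintro _ ⟨w, rfl⟩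
    exact ⟨w ∘ₗ e.symm.toLinearMap, rfl⟩
  refine ⟨Submodule.mapQ _ _ F hle, fun y => ?_⟩
  obtain ⟨z, rfl⟩ := Submodule.mkQ_surjective _ y
  refine ⟨Submodule.Quotient.mk ⟨z.1 ∘ₗ e.toLinearMap, fun x => z.2 (e x)⟩, ?_⟩
  exact congrArg Submodule.Quotient.mk
    (Subtype.ext (LinearMap.ext fun x => congrArg z.1 (e.apply_symm_apply x)))

/-- Dévissage for any property of modules closed under subquotients in exact sequences. -/
theorem cy_quotient_devissage (P : ∀ (X : Type u) [AddCommGroup X] [Module R X], Prop)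
    (hzero : ∀ (X : Type u) [AddCommGroup X] [Module R X], Subsingleton X → P X)
    (hmid : ∀ {A B X : Type u} [AddCommGroup A] [Module R A] [AddCommGroup B] [Module R B]
      [AddCommGroup X] [Module R X] (f : A →ₗ[R] B) (g : B →ₗ[R] X),
      LinearMap.ker g ≤ LinearMap.range f → P A → P X → P B) :
    ∀ (len : ℕ) (D C : Cx R), C.Inj → D.Fin →
    D.Bdd len → (∀ q, P (T C q (D.E q))) →
    P (cy C D ⧸ LinearMap.range (bd C D)) := by
  intro len
  induction len with
  | zero =>
    intro D C _ _ hlen _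
    haveI : ∀ j, Subsingleton (D.X j) := fun j => hlen j (Nat.zero_le j)
    haveI : Subsingleton (cy C D) :=
      ⟨fun a b => Subtype.ext (funext fun j => LinearMap.ext fun x => by
        rw [Subsingleton.elim x 0, map_zero, map_zero])⟩
    exact hzero _ (Submodule.mkQ_surjective (LinearMap.range (bd C D))).subsingleton
  | succ len ih =>
    intro D C hC hfin hlen hT
    have hfin' : D.trunc.Fin := fun n => by
      cases n with
      | zero =>
        haveI := hfin 1
        exact (inferInstance : Module.Finite R (D.X 1 ⧸ LinearMap.range (D.d 0)))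
      | succ n => exact hfin (n + 2)
    have hlen' : D.trunc.Bdd len := fun n hn => by
      cases n with
      | zero =>
        haveI := hlen 1 (by omega)
        exact (Submodule.mkQ_surjective (LinearMap.range (D.d 0))).subsingleton
      | succ n => exact hlen (n + 2) (by omega)
    have hT' : ∀ q, P (T C.tail q (D.trunc.E q)) := fun q => by
      obtain ⟨e⟩ := nonempty_trunc_E D q
      obtain ⟨F, hF⟩ := exists_surjection_T_of_equiv (C := C.tail) (q := q) e
      exact hmid F (0 : _ →ₗ[R] PUnit.{u + 1}) (fun y _ => hF y) (hT (q + 1))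
        (hzero _ inferInstance)
    have hQ := ih D.trunc C.tail hC.tail hfin' hlen' hT'
    -- restriction to the cocycles in degree zero
    let ρ₀ : cy C D →ₗ[R] tcy C 0 (D.E 0) :=
      { toFun := fun φ => ⟨φ.1 0 ∘ₗ (LinearMap.ker (D.d 0)).subtype, fun x => by
          show C.d 1 (φ.1 0 (x : D.X 0)) = 0
          rw [(mem_cy C D).1 φ.2 0 x, LinearMap.mem_ker.1 x.2, map_zero]⟩
        map_add' := fun _ _ => rfl
        map_smul' := fun _ _ => rfl }
    have hρ : LinearMap.range (bd C D) ≤ (LinearMap.range (tbd C 0 (D.E 0))).comap ρ₀ := by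
      rintro _ ⟨h, rfl⟩
      refine ⟨h 0 ∘ₗ (LinearMap.ker (D.d 0)).subtype, Subtype.ext (LinearMap.ext fun x => ?_)⟩
      show C.d 0 (h 0 (x : D.X 0)) = C.d 0 (h 0 x) + h 1 (D.d 0 x)
      rw [LinearMap.mem_ker.1 x.2, map_zero, add_zero]
    -- extension by zero
    let ι₀ : cy C.tail D.trunc →ₗ[R] V C D := LinearMap.pi fun j =>
      match j with
      | 0 => 0
      | 1 => LinearMap.lcomp R (C.X 2) (LinearMap.range (D.d 0)).mkQ ∘ₗ
          LinearMap.proj 0 ∘ₗ (cy C.tail D.trunc).subtype
      | j + 2 => LinearMap.proj (j + 1) ∘ₗ (cy C.tail D.trunc).subtype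
    have hι₀ : ∀ ψ, ι₀ ψ ∈ cy C D := fun ψ j x => by
      match j with
      | 0 =>
        show C.d 1 0 = ψ.1 0 ((LinearMap.range (D.d 0)).mkQ (D.d 0 x))
        have h0 : (LinearMap.range (D.d 0)).mkQ (D.d 0 x) = 0 :=
          (Submodule.Quotient.mk_eq_zero _).2 (LinearMap.mem_range_self _ x)
        rw [h0, map_zero, map_zero]
      | 1 => exact ψ.2 0 (Submodule.Quotient.mk x)
      | j + 2 => exact ψ.2 (j + 1) x
    let ι : cy C.tail D.trunc →ₗ[R] cy C D := ι₀.codRestrict _ hι₀
    have hι : LinearMap.range (bd C.tail D.trunc) ≤ (LinearMap.range (bd C D)).comap ι := by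
      rintro _ ⟨h, rfl⟩
      let h' : W C D := fun
        | 0 => 0
        | 1 => h 0 ∘ₗ (LinearMap.range (D.d 0)).mkQ
        | j + 2 => h (j + 1)
      refine ⟨h', Subtype.ext (funext fun j => LinearMap.ext fun x => ?_)⟩
      match j with
      | 0 =>
        show C.d 0 0 + h 0 ((LinearMap.range (D.d 0)).mkQ (D.d 0 x)) = 0
        have h0 : (LinearMap.range (D.d 0)).mkQ (D.d 0 x) = 0 :=
          (Submodule.Quotient.mk_eq_zero _).2 (LinearMap.mem_range_self _ x)
        rw [h0, map_zero, map_zero, add_zero]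
      | 1 => rfl
      | j + 2 => rfl
    let ρbar := Submodule.mapQ _ _ ρ₀ hρ
    let ιbar := Submodule.mapQ _ _ ι hι
    have hker : LinearMap.ker ρbar ≤ LinearMap.range ιbar := by
      intro y hy
      obtain ⟨φ, rfl⟩ := Submodule.mkQ_surjective _ y
      obtain ⟨w, hw⟩ := (Submodule.Quotient.mk_eq_zero _).1 hy
      -- make `φ 0` vanish on the cocycles
      obtain ⟨w', hw'⟩ := (GrothMatlis.baer (hC 0)).extension_property
        (LinearMap.ker (D.d 0)).subtype (Submodule.injective_subtype _) w
      set φ₁ := φ - bd C D (Pi.single 0 w') with hφ₁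
      have hle : LinearMap.ker (D.d 0) ≤ LinearMap.ker (φ₁.1 0) := fun x hx => by
        show φ.1 0 x - (bd C D (Pi.single 0 w')).1 0 x = 0
        rw [bd_apply, Pi.single_eq_same, Pi.single_eq_of_ne (by omega), LinearMap.zero_apply,
          add_zero, sub_eq_zero]
        have h1 := congrArg Subtype.val hw
        have h2 : C.d 0 (w ⟨x, hx⟩) = φ.1 0 x := LinearMap.congr_fun h1 ⟨x, hx⟩
        rw [← h2, ← hw']
        rfl
      -- kill degree zero
      let u₀ : LinearMap.range (D.d 0) →ₗ[R] C.X 1 :=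
        (LinearMap.ker (D.d 0)).liftQ (φ₁.1 0) hle ∘ₗ (D.d 0).quotKerEquivRange.symm.toLinearMap
      obtain ⟨u, hu⟩ := (GrothMatlis.baer (hC 1)).extension_property
        (LinearMap.range (D.d 0)).subtype (Submodule.injective_subtype _) u₀
      set φ₂ := φ₁ - bd C D (Pi.single 1 u) with hφ₂
      have h20 : φ₂.1 0 = 0 := LinearMap.ext fun x => by
        show φ₁.1 0 x - (bd C D (Pi.single 1 u)).1 0 x = 0
        show φ₁.1 0 x -
          (C.d 0 ((Pi.single 1 u : W C D) 0 x) + (Pi.single 1 u : W C D) 1 (D.d 0 x)) = 0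
        rw [Pi.single_eq_of_ne (by omega), LinearMap.zero_apply, map_zero, Pi.single_eq_same,
          zero_add (u (D.d 0 x)), sub_eq_zero]
        have h3 : u (D.d 0 x) = u₀ ⟨D.d 0 x, LinearMap.mem_range_self _ x⟩ :=
          LinearMap.congr_fun hu ⟨_, LinearMap.mem_range_self _ x⟩
        rw [h3]
        show φ₁.1 0 x = (LinearMap.ker (D.d 0)).liftQ (φ₁.1 0) hle
          ((D.d 0).quotKerEquivRange.symm ⟨D.d 0 x, _⟩)
        rw [LinearMap.quotKerEquivRange_symm_apply_image]
        rfl
      have h21 : LinearMap.range (D.d 0) ≤ LinearMap.ker (φ₂.1 1) := by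
        rintro _ ⟨x, rfl⟩
        show φ₂.1 (0 + 1) (D.d 0 x) = 0
        rw [← (mem_cy C D).1 φ₂.2 0 x, h20, LinearMap.zero_apply, map_zero]
      let ψ : cy C.tail D.trunc := ⟨fun
        | 0 => (LinearMap.range (D.d 0)).liftQ (φ₂.1 1) h21
        | j + 1 => φ₂.1 (j + 2), fun j x => by
          cases j with
          | zero =>
            obtain ⟨x, rfl⟩ := Submodule.mkQ_surjective _ x
            exact (mem_cy C D).1 φ₂.2 1 x
          | succ j => exact (mem_cy C D).1 φ₂.2 (j + 2) x⟩
      have hψ : ι ψ = φ₂ := Subtype.ext (funext fun j => LinearMap.ext fun x => by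
        match j with
        | 0 =>
          rw [h20]
          rfl
        | 1 => rfl
        | j + 2 => rfl)
      refine ⟨Submodule.Quotient.mk ψ, ?_⟩
      show Submodule.Quotient.mk (ι ψ) = Submodule.Quotient.mk φ
      rw [hψ, Submodule.Quotient.eq]
      refine ⟨-(Pi.single 0 w' + Pi.single 1 u), ?_⟩
      rw [hφ₂, hφ₁, map_neg, map_add]
      abel
    exact hmid ιbar ρbar hker hQ (hT 0)

/-- Dévissage. -/
theorem finite_cy_quotient [IsNoetherianRing R] (len : ℕ) (D C : Cx R) (hC : C.Inj) (hD : D.Fin)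
    (hlen : D.Bdd len) (hT : ∀ q, Module.Finite R (T C q (D.E q))) :
    Module.Finite R (cy C D ⧸ LinearMap.range (bd C D)) := by
  refine cy_quotient_devissage (fun X _ _ => Module.Finite R X)
    (fun X _ _ h => by haveI := h; exact Module.Finite.of_finite) ?_ len D C hC hD hlen hT
  intro A B X _ _ _ _ _ _ f g hle hA hX
  haveI : IsNoetherian R X := isNoetherian_of_isNoetherianRing_of_finite R X
  haveI : IsNoetherian R (LinearMap.range f) := isNoetherian_of_isNoetherianRing_of_finite R _
  haveI : IsNoetherian R (LinearMap.ker g) := isNoetherian_of_le hle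
  haveI : IsNoetherian R (B ⧸ LinearMap.ker g) :=
    isNoetherian_of_linearEquiv g.quotKerEquivRange.symm
  exact Module.Finite.of_submodule_quotient (LinearMap.ker g)

end Groth.LocFinite
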