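import Groth.Agent.LocFinite.CMOff
import Groth.Agent.LocCohBase.DepthTower

/-!
Heights in the interval above a prime and heights in the quotient ring agree.
-/

set_option autoImplicit false
universe u

namespace Groth.LocFinite

/-- `ht (q/p)` is the height of `q` in the interval above `p`. -/
theorem height_map_le_height_Ici {A : Type u} [CommRing A] (p q : PrimeSpectrum A) (h : p ≤ q) :
    (q.asIdeal.map (Ideal.Quotient.mk p.asIdeal)).height ≤ Order.height (⟨q, h⟩ : Set.Ici p) := by
  haveI := Ideal.map_isPrime_of_surjective (f := Ideal.Quotient.mk p.asIdeal)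
    Ideal.Quotient.mk_surjective (I := q.asIdeal) (by rw [Ideal.mk_ker]; exact h)
  let Q : PrimeSpectrum (A ⧸ p.asIdeal) := ⟨q.asIdeal.map (Ideal.Quotient.mk p.asIdeal), inferInstance⟩
  have hmem : ∀ x : PrimeSpectrum (A ⧸ p.asIdeal),
      p ≤ PrimeSpectrum.comap (Ideal.Quotient.mk p.asIdeal) x := fun x a ha => by
    show Ideal.Quotient.mk p.asIdeal a ∈ x.asIdeal
    rw [Ideal.Quotient.eq_zero_iff_mem.2 ha]
    exact zero_mem _
  let g : PrimeSpectrum (A ⧸ p.asIdeal) → Set.Ici p := fun x => ⟨_, hmem x⟩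
  have hg : StrictMono g := fun x y hxy => lt_of_le_not_ge (Ideal.comap_mono hxy.le) fun hge =>
    not_le_of_gt hxy ((Ideal.comap_le_comap_iff_of_surjective _ Ideal.Quotient.mk_surjective _ _).1 hge)
  rw [show (q.asIdeal.map (Ideal.Quotient.mk p.asIdeal)).height = Order.height Q from
    PrimeSpectrum.height_eq_orderHeight Q]
  refine (Order.height_le_height_apply_of_strictMono g hg Q).trans (le_of_eq (congrArg _ ?_))
  refine Subtype.ext (PrimeSpectrum.ext ?_)
  show (q.asIdeal.map (Ideal.Quotient.mk p.asIdeal)).comap (Ideal.Quotient.mk p.asIdeal) = q.asIdeal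
  rw [Ideal.comap_map_of_surjective _ Ideal.Quotient.mk_surjective]
  refine sup_eq_left.2 ?_
  rw [← RingHom.ker_eq_comap_bot, Ideal.mk_ker]
  exact h

end Groth.LocFinite
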