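import Groth.Agent.LocFinite.CMOff
import Groth.Agent.LocFinite.Annihilated
import Groth.Agent.LocCohBase.DepthTower

/-!
Faltings' annihilator theorem over quotients of regular rings: annihilation of `H^i_I(M)` by a
power of `y` from the vanishing of shifted punctual cohomology at primes avoiding `y`.
-/

set_option autoImplicit false
universe u

open CategoryTheory IsLocalRing GrothGoren Groth.LocDual Groth.LocCohBase

namespace Groth.LocFinite

variable {R : Type u} [CommRing R]

/-- Killed by a power of `y`. -/
def Killed (y : R) (X : Type u) [AddCommGroup X] [Module R X] : Prop :=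
  ∃ k : ℕ, ∀ x : X, y ^ k • x = 0

variable {y : R}

theorem killed_of_subsingleton (X : Type u) [AddCommGroup X] [Module R X] [Subsingleton X] :
    Killed y X :=
  ⟨0, fun _ => Subsingleton.elim _ _⟩

theorem killed_mid {A B X : Type u} [AddCommGroup A] [Module R A] [AddCommGroup B] [Module R B]
    [AddCommGroup X] [Module R X] (f : A →ₗ[R] B) (g : B →ₗ[R] X)
    (hle : LinearMap.ker g ≤ LinearMap.range f) (hA : Killed y A) (hX : Killed y X) :
    Killed y B := by
  obtain ⟨k, hk⟩ := hA
  obtain ⟨l, hl⟩ := hX
  refine ⟨k + l, fun b => ?_⟩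
  obtain ⟨a, ha⟩ := hle (show g (y ^ l • b) = 0 by rw [map_smul, hl])
  rw [pow_add, mul_smul, ← ha, ← map_smul, hk, map_zero]

theorem killed_of_surjective {A B : Type u} [AddCommGroup A] [Module R A] [AddCommGroup B]
    [Module R B] (f : A →ₗ[R] B) (hf : Function.Surjective f) (h : Killed y A) : Killed y B := by
  obtain ⟨k, hk⟩ := h
  refine ⟨k, fun b => ?_⟩
  obtain ⟨a, rfl⟩ := hf b
  rw [← map_smul, hk, map_zero]

/-- `T` of a killed module is killed. -/
theorem killed_T (C : Cx R) (q : ℕ) {N : Type u} [AddCommGroup N] [Module R N] (h : Killed y N) :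
    Killed y (T C q N) := by
  obtain ⟨k, hk⟩ := h
  refine ⟨k, fun z => ?_⟩
  obtain ⟨z, rfl⟩ := Submodule.mkQ_surjective _ z
  rw [← map_smul, show y ^ k • z = 0 from Subtype.ext (LinearMap.ext fun x => ?_), map_zero]
  show y ^ k • z.1 x = 0
  rw [← map_smul, hk, map_zero]

/-- Forgetting shifts, as a surjection. -/
theorem exists_surjection_T_shiftN (I : Ideal R) : ∀ (m : ℕ) (C : Cx R) (q : ℕ) (N : Type u)
    [AddCommGroup N] [Module R N], ∃ F : T (C.tors I) (m + q) N →ₗ[R] T ((C.shiftN m).tors I) q N,
      Function.Surjective F := by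
  intro m
  induction m with
  | zero =>
    intro C q N _ _
    rw [Nat.zero_add]
    exact ⟨LinearMap.id, fun z => ⟨z, rfl⟩⟩
  | succ m ih =>
    intro C q N _ _
    obtain ⟨G, hG⟩ := ih C.shift q N
    rw [show m + 1 + q = (m + q) + 1 by omega]
    let F : tcy (C.tors I) (m + q + 1) N →ₗ[R] T (C.shift.tors I) (m + q) N :=
      Submodule.mkQ _ ∘ₗ
        { toFun := fun z => ⟨z.1, fun x => Subtype.ext (show -(C.d (m + q + 1 + 1) (z.1 x).1) = 0 by
            rw [neg_eq_zero]; exact congrArg Subtype.val (z.2 x))⟩
          map_add' := fun _ _ => rfl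
          map_smul' := fun _ _ => rfl }
    have hF : Function.Surjective F := fun z => by
      obtain ⟨z, rfl⟩ := Submodule.mkQ_surjective _ z
      exact ⟨⟨z.1, fun x => Subtype.ext (neg_eq_zero.1
        (show -(C.d (m + q + 1 + 1) (z.1 x).1) = 0 from congrArg Subtype.val (z.2 x)))⟩, rfl⟩
    have hle : LinearMap.range (tbd (C.tors I) (m + q + 1) N) ≤ LinearMap.ker F := by
      rintro _ ⟨w, rfl⟩
      refine (Submodule.Quotient.mk_eq_zero _).2 ⟨-w, Subtype.ext (LinearMap.ext fun x =>
        Subtype.ext ?_)⟩
      show -(C.d (m + q + 1) (-(w x).1)) = C.d (m + q + 1) (w x).1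
      rw [map_neg, neg_neg]
    exact ⟨G ∘ₗ Submodule.liftQ _ F hle, hG.comp fun z => by
      obtain ⟨z, rfl⟩ := hF z
      exact ⟨Submodule.Quotient.mk z, rfl⟩⟩

variable [IsNoetherianRing R]

/-- Associated primes of the quotient by the `y`-torsion avoid `y`. -/
theorem notMem_of_mem_associatedPrimes {X : Type u} [AddCommGroup X] [Module R X] {P : Ideal R}
    (hP : P ∈ associatedPrimes R (X ⧸ DRing.torsionSub (Ideal.span {y}) X)) : y ∉ P :=
  fun hy => not_le_of_mem_associatedPrimes
    (torsionSub_quotient_eq_bot (IsNoetherian.noetherian _) X) hP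
    ((Ideal.span_singleton_le_iff_mem _).2 hy)

theorem killed_torsionSub_span (X : Type u) [AddCommGroup X] [Module R X] [Module.Finite R X] :
    Killed y (DRing.torsionSub (Ideal.span {y}) X) := by
  haveI : IsNoetherian R X := isNoetherian_of_isNoetherianRing_of_finite R X
  obtain ⟨k, hk⟩ := exists_pow_killing (Ideal.span {y})
    (DRing.torsionSub (Ideal.span {y}) X).subtype fun x => x.2
  exact ⟨k, fun x => Subtype.ext (LinearMap.congr_fun
    (hk _ (Ideal.pow_mem_pow (Ideal.mem_span_singleton_self y) k)) x)⟩

/-- Transfer of annihilators along a surjection with injective kernel. -/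
theorem killed_H_of_surjective (I : Ideal R) (i : ℕ) {X M : Type u} [AddCommGroup X] [Module R X]
    [AddCommGroup M] [Module R M] (g : X →ₗ[R] M) (hg : Function.Surjective g)
    (hker : Module.Injective R (LinearMap.ker g)) (hX : Killed y (LocCoh.H I i X)) :
    Killed y (LocCoh.H I i M) := by
  have hS := seqCx_shortExact (LinearMap.ker g).subtype g (LinearMap.exact_subtype_ker_map g)
    (Submodule.injective_subtype _) hg
  haveI : Subsingleton (HH' I (i + 1) (ModuleCat.of R (LinearMap.ker g))) := by
    haveI := Module.injective_object_of_injective_module R (LinearMap.ker g)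
    exact subsingleton_succ_of_injective i _
  exact killed_of_surjective ((localCohomology I i).map (ModuleCat.ofHom g)).hom
    (fun z => (exact₃ (I := I) hS i z).1 (Subsingleton.elim _ _)) hX

section Regular

variable {R : Type u} [CommRing R] [IsRegularRing R]

/-- The annihilator criterion over a regular ring. -/
theorem killed_H_succ (I : Ideal R) (y : R) (M : Type u) [AddCommGroup M]
    [Module R M] [Module.Finite R M] (m : ℕ)
    (h : ∀ P Q : PrimeSpectrum R, P ≤ Q → y ∉ P.asIdeal → I ≤ Q.asIdeal → ∀ q : ℕ,
      Q.asIdeal.height = (q + (m + 1) : ℕ) → Subsingleton (LocalizedModule P.asIdeal.primeCompl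
        (Abelian.Ext (ModuleCat.of R M) (ModuleCat.of R R) q))) :
    Killed y (LocCoh.H I (m + 1) M) := by
  have hR : ∀ (P : Ideal R) [P.IsPrime],
      ∃ n, InjLT (Localization.AtPrime P) (Localization.AtPrime P) n :=
    fun P _ => exists_injLT_of_regular _ (Localization.AtPrime P) le_rfl
  obtain ⟨S⟩ := nonempty_dualRes (R := R) M
  have hJ := isRes_injCx R
  obtain ⟨κ, hκs, hκi, -⟩ := S.bridge _ _ hJ
  obtain ⟨L, hL, hLbd⟩ := exists_surjection I S.fin S.proj S.bdd m (injCx R) hJ.inj hJ.exact
  have hcy : Killed y _ := cy_quotient_devissage (Killed y) (fun X _ _ hX => by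
      haveI := hX; exact killed_of_subsingleton X) (fun f g => killed_mid f g)
    S.len S.D (((injCx R).shiftN m).tors I) ((hJ.inj.shiftN m).tors I) S.fin S.bdd fun q => by
    -- each cohomology module
    obtain ⟨e⟩ := S.ext q
    obtain ⟨F, hF⟩ := exists_surjection_T_of_equiv
      (C := ((injCx R).shiftN m).tors I) (q := q) e.symm
    refine killed_of_surjective F hF ?_
    obtain ⟨G, hG⟩ := exists_surjection_T_shiftN I m (injCx R) q
      (Abelian.Ext (ModuleCat.of R M) (ModuleCat.of R R) q)
    refine killed_of_surjective G hG ?_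
    set X := Abelian.Ext (ModuleCat.of R M) (ModuleCat.of R R) q with hX
    haveI : Module.Finite R X := ModuleCat.finite_ext R (ModuleCat.of R M) (ModuleCat.of R R) q
    set Γ := DRing.torsionSub (Ideal.span {y}) X
    refine killed_mid (Tmap ((injCx R).tors I) (m + q) Γ.mkQ) (Tmap _ (m + q) Γ.subtype)
      (Tmap_exact (m + q) (hJ.inj.tors I) (LinearMap.exact_subtype_mkQ Γ) Γ.injective_subtype
        Γ.mkQ_surjective) ?_ (killed_T _ _ (killed_torsionSub_span X))
    haveI := subsingleton_T hR I hJ (m + q) _ (X ⧸ Γ) le_rfl fun Q hQ hIQ => ?_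
    · exact killed_of_subsingleton _
    intro hht
    obtain ⟨P, hP, hPQ⟩ := Ideal.exists_minimalPrimes_le hQ
    have hass := Module.associatedPrimes.minimalPrimes_annihilator_subset_associatedPrimes
      R (X ⧸ Γ) hP
    haveI := hP.1.1
    have hsub := h ⟨P, hP.1.1⟩ Q hPQ (notMem_of_mem_associatedPrimes hass) hIQ q (by
      rw [hht]; exact_mod_cast (by omega : m + q + 1 = q + (m + 1)))
    have hmem : (⟨P, hP.1.1⟩ : PrimeSpectrum R) ∈ Module.support R (X ⧸ Γ) :=
      Module.mem_support_iff_of_finite.2 hP.1.2
    exact not_nontrivial_iff_subsingleton.2 hsub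
      (Module.mem_support_iff.1 (Module.support_subset_of_surjective Γ.mkQ Γ.mkQ_surjective hmem))
  have hle : LinearMap.range (bd (((injCx R).shiftN m).tors I) S.D) ≤ LinearMap.ker L := by
    rintro _ ⟨w, rfl⟩
    exact hLbd w
  have hcyH := killed_of_surjective (Submodule.liftQ _ L hle) (fun z => by
    obtain ⟨z, rfl⟩ := hL z
    exact ⟨Submodule.Quotient.mk z, rfl⟩) hcy
  exact killed_H_of_surjective I (m + 1) κ hκs hκi hcyH

/-- The annihilator criterion over quotients of regular rings. -/
theorem killed_H {A : Type u} [CommRing A] [IsNoetherianRing A]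
    [Algebra R A] (hπ : Function.Surjective (algebraMap R A)) (I : Ideal A) (y : A) (M : Type u)
    [AddCommGroup M] [Module A M] [Module.Finite A M] (i : ℕ)
    (h : ∀ p q : PrimeSpectrum A, ∀ hpq : p ≤ q, y ∉ p.asIdeal → I ≤ q.asIdeal → ∀ e j : ℕ,
      Order.height (⟨q, hpq⟩ : Set.Ici p) = e → j + e = i →
      Subsingleton (LocCoh.H (maximalIdeal (Localization.AtPrime p.asIdeal)) j
        (LocalizedModule p.asIdeal.primeCompl M))) :
    Killed y (LocCoh.H I i M) := by
  rcases i with _ | m
  · -- degree zero: the associated primes of the torsion contain `y`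
    set Γ := DRing.torsionSub I M
    haveI : IsNoetherian A M := isNoetherian_of_isNoetherianRing_of_finite A M
    obtain ⟨k, hk⟩ : y ∈ (Module.annihilator A Γ).radical := by
      rw [← Ideal.sInf_minimalPrimes, Submodule.mem_sInf]
      intro P hP
      by_contra hyP
      obtain ⟨hPp, x, hx⟩ := isAssociatedPrime_iff.1
        (Module.associatedPrimes.minimalPrimes_annihilator_subset_associatedPrimes A Γ hP)
      have hPM : P ∈ associatedPrimes A M := isAssociatedPrime_iff.2 ⟨hPp, (x : M), by
        rw [hx]
        ext a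
        rw [Submodule.mem_colon_singleton, Submodule.mem_colon_singleton, Submodule.mem_bot,
          Submodule.mem_bot]
        exact Subtype.ext_iff⟩
      have hIP : I ≤ P := fun a ha => by
        obtain ⟨n, hn⟩ := x.2
        refine hPp.mem_of_pow_mem n ?_
        rw [hx, Submodule.mem_colon_singleton, Submodule.mem_bot]
        exact Subtype.ext (hn _ (Ideal.pow_mem_pow ha n))
      let p : PrimeSpectrum A := ⟨P, hPp⟩
      haveI : Module.Finite (Localization.AtPrime p.asIdeal)
          (LocalizedModule p.asIdeal.primeCompl M) :=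
        Module.Finite.of_isLocalizedModule p.asIdeal.primeCompl
          (LocalizedModule.mkLinearMap p.asIdeal.primeCompl M)
      have h0 := h p p le_rfl hyP hIP 0 0 (by
        rw [Nat.cast_zero, Order.height_eq_zero]
        intro z _
        exact z.2) rfl
      refine (one_le_depth_localized_iff p.asIdeal M).1 ?_ hPM
      rw [LocCoh.depth, show (1 : ℕ∞) = ((1 : ℕ) : ℕ∞) from rfl, le_idealDepth_iff_localCohomology]
      intro l hl
      rwa [show l = 0 by omega]
    refine ⟨k, fun x => (h0Equiv I M).injective ?_⟩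
    rw [map_smul, map_zero]
    exact Module.mem_annihilator.1 hk _
  letI : Module R M := Module.compHom M (algebraMap R A)
  haveI : IsScalarTower R A M := IsScalarTower.of_algebraMap_smul fun _ _ => rfl
  haveI : Module.Finite R A := Module.Finite.of_surjective (Algebra.linearMap R A) hπ
  haveI : Module.Finite R M := Module.Finite.trans A M
  obtain ⟨y', rfl⟩ := hπ y
  set I' := I.comap (algebraMap R A) with hI'
  obtain ⟨k, hk⟩ : Killed y' (LocCoh.H I' (m + 1) M) := by
    refine killed_H_succ I' y' M m fun P Q hPQ hy' hQ q hq => ?_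
    rw [subsingleton_localized_ext_iff P.asIdeal]
    haveI : Module.Finite (Localization.AtPrime P.asIdeal)
        (LocalizedModule P.asIdeal.primeCompl M) :=
      Module.Finite.of_isLocalizedModule P.asIdeal.primeCompl
        (LocalizedModule.mkLinearMap P.asIdeal.primeCompl M)
    have hinj := exists_injLT_of_regular _ (Localization.AtPrime P.asIdeal) le_rfl
    obtain ⟨a, ha, ha1, -, -⟩ := exists_dim _ hinj
    rcases Nat.lt_or_ge a q with hqa | hqa
    · exact ha1.extZ _ (by omega)
    obtain ⟨j, rfl⟩ : ∃ j, a = q + j := ⟨a - q, by omega⟩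
    obtain ⟨E, _, _, f, hf⟩ := GrothMatlis.exists_hull (Localization.AtPrime P.asIdeal)
      (ResidueField (Localization.AtPrime P.asIdeal))
    obtain ⟨D⟩ := nonempty_duality_of_hull hinj ha hf
      (LocalizedModule P.asIdeal.primeCompl M) (i := j) (j := q) (by omega)
    refine (subsingleton_dual_iff hf _).1 (D.toEquiv.subsingleton_congr.1 ?_)
    by_cases hker : RingHom.ker (algebraMap R A) ≤ P.asIdeal
    · haveI := Ideal.map_isPrime_of_surjective hπ hker
      haveI := Ideal.map_isPrime_of_surjective hπ (hker.trans hPQ)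
      set p : PrimeSpectrum A := ⟨P.asIdeal.map (algebraMap R A), inferInstance⟩
      set qA : PrimeSpectrum A := ⟨Q.asIdeal.map (algebraMap R A), inferInstance⟩
      have hc : P.asIdeal = p.asIdeal.comap (algebraMap R A) := by
        show P.asIdeal = (P.asIdeal.map (algebraMap R A)).comap (algebraMap R A)
        rw [Ideal.comap_map_of_surjective _ hπ]
        exact (sup_eq_left.2 hker).symm
      have hcQ : Q.asIdeal = qA.asIdeal.comap (algebraMap R A) := by
        show Q.asIdeal = (Q.asIdeal.map (algebraMap R A)).comap (algebraMap R A)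
        rw [Ideal.comap_map_of_surjective _ hπ]
        exact (sup_eq_left.2 (hker.trans hPQ)).symm
      have hpq : p ≤ qA := Ideal.map_mono hPQ
      have hIq : I ≤ qA.asIdeal := by
        rw [← Ideal.comap_le_comap_iff_of_surjective _ hπ, ← hcQ]
        exact hQ
      have hyp : algebraMap R A y' ∉ p.asIdeal := fun hh => hy' (by rw [hc]; exact hh)
      obtain ⟨o, ho⟩ := exists_Ici_orderIso hπ p
      have hh : Order.height (⟨qA, hpq⟩ : Set.Ici p) =
          Order.height (⟨Q, hPQ⟩ : Set.Ici P) := by
        have hp' : PrimeSpectrum.comap (algebraMap R A) p = P := PrimeSpectrum.ext hc.symm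
        have hq' : PrimeSpectrum.comap (algebraMap R A) qA = Q := PrimeSpectrum.ext hcQ.symm
        revert o
        rw [hp']
        intro o ho
        rw [← Order.height_orderIso o]
        exact congrArg _ (Subtype.ext ((ho _).trans hq'))
      have hadd := height_add_Ici P Q hPQ
      rw [hq, show P.asIdeal.height = ((q + j : ℕ) : ℕ∞) from WithBot.coe_injective
        ((IsLocalization.AtPrime.ringKrullDim_eq_height P.asIdeal
          (Localization.AtPrime P.asIdeal)).symm.trans ha), ← hh] at hadd
      obtain ⟨e, he⟩ : ∃ e : ℕ, Order.height (⟨qA, hpq⟩ : Set.Ici p) = e := by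
        have hne : Order.height (⟨qA, hpq⟩ : Set.Ici p) ≠ ⊤ := fun ht => by
          rw [ht, add_top] at hadd
          exact ENat.natCast_ne_top _ hadd
        obtain ⟨e, he⟩ := ENat.ne_top_iff_exists.1 hne
        exact ⟨e, he.symm⟩
      rw [he] at hadd
      norm_cast at hadd
      exact (subsingleton_H_atPrime_iff_of_surjective hπ P.asIdeal p.asIdeal hc M j).1
        (h p qA hpq hyp hIq e j he (by omega))
    · haveI := subsingleton_localized_of_not_le (A := A) P.asIdeal hker M
      exact subsingleton_H_of_subsingleton _ j _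
  refine ⟨k, ?_⟩
  obtain ⟨ψ, hψ⟩ := Groth.LocCohTransform.exists_restrict_addEquiv (I := I') (R' := A) M (m + 1)
  revert ψ hψ
  rw [hI', Ideal.map_comap_of_surjective _ hπ]
  intro ψ hψ x
  apply ψ.injective
  rw [← map_pow, hψ, map_zero]
  exact hk _

end Regular

end Groth.LocFinite
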