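import Groth.Agent.LocFinite.Devissage

/-!
The cohomology of `Hom(N, Γ_I J)` for finite modules `N`.
-/

set_option autoImplicit false
universe u

open CategoryTheory GrothGoren Groth.LocDual

namespace Groth.LocFinite

variable {R : Type u} [CommRing R]

/-- Two surjections with the same kernel have isomorphic targets. -/
noncomputable def equivOfKerEq {G X Y : Type u} [AddCommGroup G] [Module R G] [AddCommGroup X]
    [Module R X] [AddCommGroup Y] [Module R Y] (a : G →ₗ[R] X) (b : G →ₗ[R] Y)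
    (ha : Function.Surjective a) (hb : Function.Surjective b)
    (h : LinearMap.ker a = LinearMap.ker b) : X ≃ₗ[R] Y :=
  (a.quotKerEquivOfSurjective ha).symm.trans
    ((Submodule.quotEquivOfEq _ _ h).trans (b.quotKerEquivOfSurjective hb))

variable (C : Cx R) (q : ℕ)

/-- Functoriality of `tcy`. -/
def tcyMap {N N' : Type u} [AddCommGroup N] [Module R N] [AddCommGroup N'] [Module R N']
    (f : N' →ₗ[R] N) : tcy C q N →ₗ[R] tcy C q N' where
  toFun z := ⟨z.1 ∘ₗ f, fun x => z.2 (f x)⟩
  map_add' _ _ := rfl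
  map_smul' _ _ := rfl

/-- Functoriality of `T`. -/
noncomputable def Tmap {N N' : Type u} [AddCommGroup N] [Module R N] [AddCommGroup N']
    [Module R N'] (f : N' →ₗ[R] N) : T C q N →ₗ[R] T C q N' :=
  Submodule.mapQ _ _ (tcyMap C q f) fun _ ⟨w, hw⟩ => ⟨w ∘ₗ f, hw ▸ rfl⟩

lemma exists_factor {A B X E : Type u} [AddCommGroup A] [Module R A] [AddCommGroup B] [Module R B]
    [AddCommGroup X] [Module R X] [AddCommGroup E] [Module R E] {f : A →ₗ[R] B} {g : B →ₗ[R] X}
    (hex : Function.Exact f g) (hg : Function.Surjective g) (φ : B →ₗ[R] E) (hφ : φ ∘ₗ f = 0) :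
    ∃ ψ : X →ₗ[R] E, ψ ∘ₗ g = φ := by
  have hle : LinearMap.ker g ≤ LinearMap.ker φ := fun b hb => by
    obtain ⟨a, rfl⟩ := (hex b).1 hb
    exact LinearMap.congr_fun hφ a
  refine ⟨(LinearMap.ker g).liftQ φ hle ∘ₗ (g.quotKerEquivOfSurjective hg).symm.toLinearMap,
    LinearMap.ext fun b => ?_⟩
  show (LinearMap.ker g).liftQ φ hle ((g.quotKerEquivOfSurjective hg).symm (g b)) = φ b
  rw [show (g.quotKerEquivOfSurjective hg).symm (g b) = Submodule.Quotient.mk b from
    (g.quotKerEquivOfSurjective hg).symm_apply_eq.2 rfl]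
  rfl

variable {C} in
/-- `T` is exact in the middle. -/
lemma Tmap_exact (hC : C.Inj) {A B X : Type u} [AddCommGroup A] [Module R A] [AddCommGroup B]
    [Module R B] [AddCommGroup X] [Module R X] {f : A →ₗ[R] B} {g : B →ₗ[R] X}
    (hex : Function.Exact f g) (hf : Function.Injective f) (hg : Function.Surjective g) :
    LinearMap.ker (Tmap C q f) ≤ LinearMap.range (Tmap C q g) := by
  intro y hy
  obtain ⟨z, rfl⟩ := Submodule.mkQ_surjective _ y
  obtain ⟨w, hw⟩ := (Submodule.Quotient.mk_eq_zero _).1 hy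
  obtain ⟨w', hw'⟩ := (GrothMatlis.baer (hC q)).extension_property f hf w
  obtain ⟨ψ, hψ⟩ := exists_factor hex hg (z.1 - C.d q ∘ₗ w') (by
    rw [LinearMap.sub_comp, LinearMap.comp_assoc, hw', sub_eq_zero]
    exact (congrArg Subtype.val hw).symm)
  have hmem : ψ ∈ tcy C q X := fun x => by
    obtain ⟨b, rfl⟩ := hg x
    rw [show ψ (g b) = z.1 b - C.d q (w' b) from LinearMap.congr_fun hψ b, map_sub, z.2 b,
      C.d_comp, sub_zero]
  refine ⟨Submodule.Quotient.mk ⟨ψ, hmem⟩, ?_⟩
  show Submodule.Quotient.mk (tcyMap C q g ⟨ψ, hmem⟩) = Submodule.Quotient.mk z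
  rw [Submodule.Quotient.eq]
  refine ⟨-w', Subtype.ext ?_⟩
  show C.d q ∘ₗ (-w') = ψ ∘ₗ g - z.1
  rw [hψ, LinearMap.comp_neg]
  abel

lemma finite_T_of_exact [IsNoetherianRing R] (hC : C.Inj) {A B X : Type u} [AddCommGroup A]
    [Module R A] [AddCommGroup B] [Module R B] [AddCommGroup X] [Module R X] {f : A →ₗ[R] B}
    {g : B →ₗ[R] X} (hex : Function.Exact f g) (hf : Function.Injective f)
    (hg : Function.Surjective g) (hA : Module.Finite R (T C q A))
    (hX : Module.Finite R (T C q X)) : Module.Finite R (T C q B) := by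
  haveI : IsNoetherian R (LinearMap.range (Tmap C q f)) := inferInstance
  haveI : IsNoetherian R (LinearMap.range (Tmap C q g)) :=
    isNoetherian_of_isNoetherianRing_of_finite R _
  haveI : IsNoetherian R (LinearMap.ker (Tmap C q f)) :=
    isNoetherian_of_le (Tmap_exact q hC hex hf hg)
  haveI : IsNoetherian R (T C q B ⧸ LinearMap.ker (Tmap C q f)) :=
    isNoetherian_of_linearEquiv (Tmap C q f).quotKerEquivRange.symm
  exact Module.Finite.of_submodule_quotient (LinearMap.ker (Tmap C q f))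

lemma subsingleton_T_of_exact (hC : C.Inj) {A B X : Type u} [AddCommGroup A]
    [Module R A] [AddCommGroup B] [Module R B] [AddCommGroup X] [Module R X] {f : A →ₗ[R] B}
    {g : B →ₗ[R] X} (hex : Function.Exact f g) (hf : Function.Injective f)
    (hg : Function.Surjective g) (hA : Subsingleton (T C q A))
    (hX : Subsingleton (T C q X)) : Subsingleton (T C q B) := by
  refine subsingleton_of_forall_eq 0 fun y => ?_
  obtain ⟨x, rfl⟩ := Tmap_exact q hC hex hf hg (show Tmap C q f y = 0 from Subsingleton.elim _ _)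
  rw [Subsingleton.elim x 0, map_zero]

section Torsion

variable (I : Ideal R) {N : Type u} [AddCommGroup N] [Module R N]

/-- Every class with torsion values on a finite module is torsion. -/
lemma exists_pow_smul_T [Module.Finite R N] (y : T (C.tors I) q N) :
    ∃ n, ∀ a ∈ I ^ n, a • y = 0 := by
  obtain ⟨z, rfl⟩ := Submodule.mkQ_surjective _ y
  obtain ⟨n, hn⟩ := exists_pow_killing I
    ((DRing.torsionSub I (C.X (q + 1))).subtype ∘ₗ z.1) fun x => (z.1 x).2
  refine ⟨n, fun a ha => ?_⟩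
  rw [← map_smul, show a • z = 0 from
    Subtype.ext (LinearMap.ext fun x => Subtype.ext (LinearMap.congr_fun (hn a ha) x)), map_zero]

/-- On a module killed by a power of `I` the torsion subcomplex can be forgotten. -/
lemma nonempty_T_tors_equiv {k : ℕ} (hk : ∀ a ∈ I ^ k, ∀ x : N, a • x = 0) :
    Nonempty (T (C.tors I) q N ≃ₗ[R] T C q N) := by
  have hmem : ∀ (n : ℕ) (z : N →ₗ[R] C.X n) x, z x ∈ DRing.torsionSub I (C.X n) :=
    fun n z x => ⟨k, fun a ha => by rw [← map_smul, hk a ha x, map_zero]⟩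
  let F : tcy (C.tors I) q N →ₗ[R] T C q N :=
    Submodule.mkQ _ ∘ₗ
      { toFun := fun z => ⟨(DRing.torsionSub I (C.X (q + 1))).subtype ∘ₗ z.1,
          fun x => congrArg Subtype.val (z.2 x)⟩
        map_add' := fun _ _ => rfl
        map_smul' := fun _ _ => rfl }
  have hF : Function.Surjective F := fun y => by
    obtain ⟨z, rfl⟩ := Submodule.mkQ_surjective _ y
    exact ⟨⟨z.1.codRestrict _ (hmem _ z.1), fun x => Subtype.ext (z.2 x)⟩, rfl⟩
  refine ⟨(Submodule.quotEquivOfEq _ (LinearMap.ker F) ?_).trans (F.quotKerEquivOfSurjective hF)⟩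
  ext z
  constructor
  · rintro ⟨w, rfl⟩
    exact (Submodule.Quotient.mk_eq_zero _).2
      ⟨(DRing.torsionSub I (C.X q)).subtype ∘ₗ w, rfl⟩
  · intro hz
    obtain ⟨w, hw⟩ := (Submodule.Quotient.mk_eq_zero _).1 hz
    exact ⟨w.codRestrict _ (hmem _ w), Subtype.ext (LinearMap.ext fun x =>
      Subtype.ext (LinearMap.congr_fun (congrArg Subtype.val hw) x))⟩

end Torsion

variable {C}

/-- On an injective resolution of `R`, `T` is `Ext`. -/
theorem nonempty_T_equiv_ext [IsNoetherianRing R] {J : Cx R} {η : R →ₗ[R] J.X 0}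
    (hJ : IsRes J η) : ∀ (s : ℕ) (N : Type u) [AddCommGroup N] [Module R N] [Module.Finite R N],
      Nonempty (T J s N ≃ₗ[R] Abelian.Ext (ModuleCat.of R N) (ModuleCat.of R R) (s + 1)) := by
  intro s
  induction s with
  | zero =>
    intro N _ _ _
    obtain ⟨n, g, hg⟩ := Module.Finite.exists_fin' R N
    set inc := (LinearMap.ker g).subtype
    have hex : Function.Exact inc g := LinearMap.exact_subtype_ker_map g
    have hinc : Function.Injective inc := Submodule.injective_subtype _
    set d₀ := extShift₀ hex hinc hg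
    let G : Submodule R ((Fin n → R) →ₗ[R] J.X 0) :=
      LinearMap.ker (LinearMap.llcomp R (LinearMap.ker g) (J.X 0) (J.X 1) (J.d 0) ∘ₗ
        LinearMap.lcomp R (J.X 0) inc)
    have hG : ∀ w, w ∈ G ↔ J.d 0 ∘ₗ (w ∘ₗ inc) = 0 := fun w => Iff.rfl
    have hb₀ : ∀ w : G, ∃ z : tcy J 0 N, z.1 ∘ₗ g = J.d 0 ∘ₗ w.1 := fun w => by
      obtain ⟨ψ, hψ⟩ := exists_factor hex hg (J.d 0 ∘ₗ w.1)
        (by rw [LinearMap.comp_assoc]; exact (hG _).1 w.2)
      refine ⟨⟨ψ, fun x => ?_⟩, hψ⟩
      obtain ⟨v, rfl⟩ := hg x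
      rw [show ψ (g v) = J.d 0 (w.1 v) from LinearMap.congr_fun hψ v, J.d_comp]
    choose zb hzb using hb₀
    have hcancel : ∀ z z' : tcy J 0 N, z.1 ∘ₗ g = z'.1 ∘ₗ g → z = z' := fun z z' h =>
      Subtype.ext (LinearMap.ext fun x => by
        obtain ⟨v, rfl⟩ := hg x
        exact LinearMap.congr_fun h v)
    let b : G →ₗ[R] T J 0 N := Submodule.mkQ _ ∘ₗ
      { toFun := zb
        map_add' := fun w w' => hcancel _ _ (by
          rw [Submodule.coe_add, LinearMap.add_comp, hzb, hzb, hzb]; exact LinearMap.comp_add _ _ _)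
        map_smul' := fun c w => hcancel _ _ (by
          rw [RingHom.id_apply, Submodule.coe_smul, LinearMap.smul_comp, hzb, hzb]
          exact LinearMap.comp_smul _ _ _) }
    have hb : Function.Surjective b := fun y => by
      obtain ⟨z, rfl⟩ := Submodule.mkQ_surjective _ y
      obtain ⟨w, hw⟩ := Module.projective_lifting_property ((J.d 0).rangeRestrict)
        ((z.1 ∘ₗ g).codRestrict _ fun v => hJ.exact 0 _ (z.2 (g v)))
        (LinearMap.surjective_rangeRestrict _)
      have hw' : J.d 0 ∘ₗ w = z.1 ∘ₗ g :=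
        LinearMap.ext fun v => congrArg Subtype.val (LinearMap.congr_fun hw v)
      have hmem : w ∈ G := (hG w).2 (by
        rw [← LinearMap.comp_assoc, hw', LinearMap.comp_assoc,
          show g ∘ₗ inc = 0 from g.comp_ker_subtype, LinearMap.comp_zero])
      exact ⟨⟨w, hmem⟩, congrArg Submodule.Quotient.mk (hcancel _ _ ((hzb _).trans hw'))⟩
    have ha₀ : ∀ (w : G) (k : LinearMap.ker g), ∃ r, η r = w.1 (inc k) := fun w k =>
      (hJ.ker_d _).1 (LinearMap.congr_fun ((hG _).1 w.2) k)
    choose r hr using ha₀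
    let a : G →ₗ[R] (LinearMap.ker g →ₗ[R] R) := LinearMap.mk₂ R r
      (fun w w' k => hJ.η_inj (by rw [map_add, hr, hr, hr]; rfl))
      (fun c w k => hJ.η_inj (by rw [map_smul, hr, hr]; rfl))
      (fun w k k' => hJ.η_inj (by rw [map_add, hr, hr, hr, map_add, map_add]))
      (fun c w k => hJ.η_inj (by rw [map_smul, hr, hr, map_smul, map_smul]))
    have haη : ∀ w : G, η ∘ₗ a w = w.1 ∘ₗ inc := fun w => LinearMap.ext fun k => hr w k
    have ha : Function.Surjective (d₀ ∘ₗ a) := by
      refine (extShift₀_surjective hex hinc hg).comp fun φ => ?_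
      obtain ⟨w, hw⟩ := (GrothMatlis.baer (hJ.inj 0)).extension_property inc hinc (η ∘ₗ φ)
      have hmem : w ∈ G := (hG w).2 (LinearMap.ext fun k => by
        rw [hw]
        exact hJ.d_η _)
      refine ⟨⟨w, hmem⟩, LinearMap.ext fun k => hJ.η_inj ?_⟩
      exact (LinearMap.congr_fun (haη ⟨w, hmem⟩) k).trans (LinearMap.congr_fun hw k)
    refine ⟨equivOfKerEq b (d₀ ∘ₗ a) hb ha ?_⟩
    ext w
    rw [LinearMap.mem_ker, LinearMap.mem_ker]
    constructor
    · intro hw
      obtain ⟨v, hv⟩ := (Submodule.Quotient.mk_eq_zero _).1 hw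
      have hv' : J.d 0 ∘ₗ v = (zb w).1 := congrArg Subtype.val hv
      have hd : ∀ x, J.d 0 ((w.1 - v ∘ₗ g) x) = 0 := fun x => by
        rw [LinearMap.sub_apply, map_sub, sub_eq_zero]
        exact (LinearMap.congr_fun (hzb w) x).symm.trans (LinearMap.congr_fun hv' (g x)).symm
      choose h hh using fun x => (hJ.ker_d _).1 (hd x)
      let h' : (Fin n → R) →ₗ[R] R :=
        { toFun := h
          map_add' := fun x y => hJ.η_inj (by rw [map_add, hh, hh, hh, map_add])
          map_smul' := fun c x => hJ.η_inj (by rw [RingHom.id_apply, map_smul, hh, hh, map_smul]) }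
      refine (extShift₀_eq_zero_iff hex hinc hg (a w)).2 ⟨h', LinearMap.ext fun k => hJ.η_inj ?_⟩
      show η (h (inc k)) = η (a w k)
      rw [hh, show η (a w k) = w.1 (inc k) from hr w k, LinearMap.sub_apply, LinearMap.comp_apply,
        hex.apply_apply_eq_zero, map_zero, sub_zero]
    · intro hw
      obtain ⟨h, hh⟩ := (extShift₀_eq_zero_iff hex hinc hg (a w)).1 hw
      obtain ⟨v, hv⟩ := exists_factor hex hg (w.1 - η ∘ₗ h) (by
        rw [LinearMap.sub_comp, LinearMap.comp_assoc, hh, haη, sub_self])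
      refine (Submodule.Quotient.mk_eq_zero _).2 ⟨v, hcancel _ _ ?_⟩
      show (J.d 0 ∘ₗ v) ∘ₗ g = (zb w).1 ∘ₗ g
      rw [hzb, LinearMap.comp_assoc, hv]
      refine LinearMap.ext fun x => ?_
      show J.d 0 (w.1 x - η (h x)) = J.d 0 (w.1 x)
      rw [map_sub, hJ.d_η, sub_zero]
  | succ s ih =>
    intro N _ _ _
    obtain ⟨n, g, hg⟩ := Module.Finite.exists_fin' R N
    set inc := (LinearMap.ker g).subtype
    have hex : Function.Exact inc g := LinearMap.exact_subtype_ker_map g
    have hinc : Function.Injective inc := Submodule.injective_subtype _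
    obtain ⟨e⟩ := ih (LinearMap.ker g)
    let G : Submodule R ((Fin n → R) →ₗ[R] J.X (s + 1)) :=
      LinearMap.ker (LinearMap.llcomp R (LinearMap.ker g) (J.X (s + 1)) (J.X (s + 1 + 1))
        (J.d (s + 1)) ∘ₗ LinearMap.lcomp R (J.X (s + 1)) inc)
    have hG : ∀ w, w ∈ G ↔ J.d (s + 1) ∘ₗ (w ∘ₗ inc) = 0 := fun w => Iff.rfl
    have hb₀ : ∀ w : G, ∃ z : tcy J (s + 1) N, z.1 ∘ₗ g = J.d (s + 1) ∘ₗ w.1 := fun w => by
      obtain ⟨ψ, hψ⟩ := exists_factor hex hg (J.d (s + 1) ∘ₗ w.1)
        (by rw [LinearMap.comp_assoc]; exact (hG _).1 w.2)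
      refine ⟨⟨ψ, fun x => ?_⟩, hψ⟩
      obtain ⟨v, rfl⟩ := hg x
      rw [show ψ (g v) = J.d (s + 1) (w.1 v) from LinearMap.congr_fun hψ v, J.d_comp]
    choose zb hzb using hb₀
    have hcancel : ∀ z z' : tcy J (s + 1) N, z.1 ∘ₗ g = z'.1 ∘ₗ g → z = z' := fun z z' h =>
      Subtype.ext (LinearMap.ext fun x => by
        obtain ⟨v, rfl⟩ := hg x
        exact LinearMap.congr_fun h v)
    let b : G →ₗ[R] T J (s + 1) N := Submodule.mkQ _ ∘ₗ
      { toFun := zb
        map_add' := fun w w' => hcancel _ _ (by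
          rw [Submodule.coe_add, LinearMap.add_comp, hzb, hzb, hzb]; exact LinearMap.comp_add _ _ _)
        map_smul' := fun c w => hcancel _ _ (by
          rw [RingHom.id_apply, Submodule.coe_smul, LinearMap.smul_comp, hzb, hzb]
          exact LinearMap.comp_smul _ _ _) }
    have hb : Function.Surjective b := fun y => by
      obtain ⟨z, rfl⟩ := Submodule.mkQ_surjective _ y
      obtain ⟨w, hw⟩ := Module.projective_lifting_property ((J.d (s + 1)).rangeRestrict)
        ((z.1 ∘ₗ g).codRestrict _ fun v => hJ.exact (s + 1) _ (z.2 (g v)))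
        (LinearMap.surjective_rangeRestrict _)
      have hw' : J.d (s + 1) ∘ₗ w = z.1 ∘ₗ g :=
        LinearMap.ext fun v => congrArg Subtype.val (LinearMap.congr_fun hw v)
      have hmem : w ∈ G := (hG w).2 (by
        rw [← LinearMap.comp_assoc, hw', LinearMap.comp_assoc,
          show g ∘ₗ inc = 0 from g.comp_ker_subtype, LinearMap.comp_zero])
      exact ⟨⟨w, hmem⟩, congrArg Submodule.Quotient.mk (hcancel _ _ ((hzb _).trans hw'))⟩
    let a : G →ₗ[R] T J s (LinearMap.ker g) := Submodule.mkQ _ ∘ₗ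
      { toFun := fun w => ⟨w.1 ∘ₗ inc, fun k => LinearMap.congr_fun ((hG _).1 w.2) k⟩
        map_add' := fun _ _ => rfl
        map_smul' := fun _ _ => rfl }
    have ha : Function.Surjective a := fun y => by
      obtain ⟨z, rfl⟩ := Submodule.mkQ_surjective _ y
      obtain ⟨w, hw⟩ := (GrothMatlis.baer (hJ.inj (s + 1))).extension_property inc hinc z.1
      have hmem : w ∈ G := (hG w).2 (by rw [hw]; exact LinearMap.ext z.2)
      exact ⟨⟨w, hmem⟩, congrArg Submodule.Quotient.mk (Subtype.ext hw)⟩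
    refine ⟨(equivOfKerEq b a hb ha ?_).trans (e.trans
      (LinearEquiv.ofBijective _ (extShift_bijective hex hinc hg s)))⟩
    ext w
    rw [LinearMap.mem_ker, LinearMap.mem_ker]
    constructor
    · intro hw
      obtain ⟨v, hv⟩ := (Submodule.Quotient.mk_eq_zero _).1 hw
      have hv' : J.d (s + 1) ∘ₗ v = (zb w).1 := congrArg Subtype.val hv
      have hd : ∀ x, J.d (s + 1) ((w.1 - v ∘ₗ g) x) = 0 := fun x => by
        rw [LinearMap.sub_apply, map_sub, sub_eq_zero]
        exact (LinearMap.congr_fun (hzb w) x).symm.trans (LinearMap.congr_fun hv' (g x)).symm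
      obtain ⟨u, hu⟩ := Module.projective_lifting_property ((J.d s).rangeRestrict)
        ((w.1 - v ∘ₗ g).codRestrict _ fun x => hJ.exact s _ (hd x))
        (LinearMap.surjective_rangeRestrict _)
      refine (Submodule.Quotient.mk_eq_zero _).2 ⟨u ∘ₗ inc, Subtype.ext (LinearMap.ext fun k => ?_)⟩
      show J.d s (u (inc k)) = w.1 (inc k)
      rw [show J.d s (u (inc k)) = (w.1 - v ∘ₗ g) (inc k) from
          congrArg Subtype.val (LinearMap.congr_fun hu (inc k)),
        LinearMap.sub_apply, LinearMap.comp_apply, hex.apply_apply_eq_zero, map_zero, sub_zero]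
    · intro hw
      obtain ⟨u₀, hu₀⟩ := (Submodule.Quotient.mk_eq_zero _).1 hw
      have hu₀' : J.d s ∘ₗ u₀ = w.1 ∘ₗ inc := congrArg Subtype.val hu₀
      obtain ⟨u, hu⟩ := (GrothMatlis.baer (hJ.inj s)).extension_property inc hinc u₀
      obtain ⟨v, hv⟩ := exists_factor hex hg (w.1 - J.d s ∘ₗ u) (by
        rw [LinearMap.sub_comp, LinearMap.comp_assoc, hu, hu₀', sub_self])
      refine (Submodule.Quotient.mk_eq_zero _).2 ⟨v, hcancel _ _ ?_⟩
      show (J.d (s + 1) ∘ₗ v) ∘ₗ g = (zb w).1 ∘ₗ g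
      rw [hzb, LinearMap.comp_assoc, hv]
      refine LinearMap.ext fun x => ?_
      show J.d (s + 1) (w.1 x - J.d s (u x)) = J.d (s + 1) (w.1 x)
      rw [map_sub, J.d_comp, sub_zero]

/-- Forgetting shifts. -/
theorem finite_T_shiftN (I : Ideal R) : ∀ (m : ℕ) (C : Cx R) (q : ℕ) (N : Type u)
    [AddCommGroup N] [Module R N], Module.Finite R (T (C.tors I) (m + q) N) →
      Module.Finite R (T ((C.shiftN m).tors I) q N) := by
  intro m
  induction m with
  | zero =>
    intro C q N _ _ h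
    rwa [Nat.zero_add] at h
  | succ m ih =>
    intro C q N _ _ h
    refine ih C.shift q N ?_
    rw [show m + 1 + q = (m + q) + 1 by omega] at h
    let F : tcy (C.tors I) (m + q + 1) N →ₗ[R] T (C.shift.tors I) (m + q) N :=
      Submodule.mkQ _ ∘ₗ
        { toFun := fun z => ⟨z.1, fun x => Subtype.ext (show -(C.d (m + q + 1 + 1) (z.1 x).1) = 0 by
            rw [neg_eq_zero]; exact congrArg Subtype.val (z.2 x))⟩
          map_add' := fun _ _ => rfl
          map_smul' := fun _ _ => rfl }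
    have hF : Function.Surjective F := fun y => by
      obtain ⟨z, rfl⟩ := Submodule.mkQ_surjective _ y
      exact ⟨⟨z.1, fun x => Subtype.ext (neg_eq_zero.1
        (show -(C.d (m + q + 1 + 1) (z.1 x).1) = 0 from congrArg Subtype.val (z.2 x)))⟩, rfl⟩
    have hle : LinearMap.range (tbd (C.tors I) (m + q + 1) N) ≤ LinearMap.ker F := by
      rintro _ ⟨w, rfl⟩
      refine (Submodule.Quotient.mk_eq_zero _).2 ⟨-w, Subtype.ext (LinearMap.ext fun x =>
        Subtype.ext ?_)⟩
      show -(C.d (m + q + 1) (-(w x).1)) = C.d (m + q + 1) (w x).1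
      rw [map_neg, neg_neg]
    exact Module.Finite.of_surjective (Submodule.liftQ _ F hle) fun y => by
      obtain ⟨z, rfl⟩ := hF y
      exact ⟨Submodule.Quotient.mk z, rfl⟩

end Groth.LocFinite
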